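import Groth.Agent.HyperAlg.Main
import Groth.Agent.HyperFEt.CompleteFF
import Groth.Agent.S0250
import Mathlib.RingTheory.Ideal.KrullsHeightTheorem

/-! Extension to the punctured spectrum from purity. -/

set_option autoImplicit false
set_option linter.style.haveILetI false
set_option backward.isDefEq.respectTransparency false
set_option backward.isDefEq.respectTransparency.types false
set_option maxHeartbeats 1000000

universe u

open CategoryTheory CategoryTheory.Limits AlgebraicGeometry TopologicalSpace Opposite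

noncomputable section

namespace Groth.Agent.HyperAlg

/-- Purity is invariant under isomorphism. -/
theorem purityHolds_of_ringEquiv {R R' : Type u} [CommRing R] [IsLocalRing R] [CommRing R'] [IsLocalRing R']
    (e : R ≃+* R') (h : FEt.PurityHolds R) : FEt.PurityHolds R' := by
  unfold FEt.PurityHolds at h ⊢
  haveI := h
  let σ := Spec.map (CommRingCat.ofHom e.toRingHom)
  haveI : IsIso σ := by
    haveI : IsIso (CommRingCat.ofHom e.toRingHom) := (ConcreteCategory.isIso_iff_bijective _).2 e.bijective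
    infer_instance
  haveI : IsLocalHom e.toRingHom := ⟨fun a ha => by simpa using ha.map e.symm.toRingHom⟩
  have hp : σ ⁻¹ᵁ FEt.puncturedSpec R = FEt.puncturedSpec R' := by
    have hc : σ (IsLocalRing.closedPoint R') = IsLocalRing.closedPoint R := IsLocalRing.comap_closedPoint e.toRingHom
    refine TopologicalSpace.Opens.ext (Set.ext fun q => not_congr ⟨fun hq => ?_, fun hq => ?_⟩)
    · exact (σ.homeomorph.injective (Eq.trans hq hc.symm) : q = IsLocalRing.closedPoint R')
    · rw [show q = IsLocalRing.closedPoint R' from hq]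
      exact hc
  have hr : Set.range ((FEt.puncturedSpec R').ι ≫ σ) ⊆ Set.range (FEt.puncturedSpec R).ι := by
    rintro _ ⟨q, rfl⟩
    rw [Scheme.Opens.range_ι]
    exact (TopologicalSpace.Opens.ext_iff.1 hp).ge q.2
  let φ := IsOpenImmersion.lift (FEt.puncturedSpec R).ι _ hr
  have hsq : IsPullback φ (FEt.puncturedSpec R').ι (FEt.puncturedSpec R).ι σ :=
    IsOpenImmersion.isPullback _ _ _ _ (IsOpenImmersion.lift_fac _ _ _).symm (by
      rw [Scheme.Opens.opensRange_ι, Scheme.Opens.opensRange_ι, hp])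
  haveI : IsIso φ := MorphismProperty.of_isPullback (P := MorphismProperty.isomorphisms _) hsq.flip inferInstance
  haveI := (S0238.result φ).essSurj
  refine ⟨fun W => ?_⟩
  let Y₁ := (FEt.restrict φ).objPreimage W
  let Y := (FEt.restrict (FEt.puncturedSpec R).ι).objPreimage Y₁
  exact ⟨(FEt.restrict σ).obj Y,
    ⟨(MorphismProperty.Over.pullbackComp (FEt.puncturedSpec R').ι σ ((FEt.puncturedSpec R').ι ≫ σ) rfl).symm.app Y ≪≫
      (MorphismProperty.Over.pullbackComp φ (FEt.puncturedSpec R).ι ((FEt.puncturedSpec R').ι ≫ σ)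
        (IsOpenImmersion.lift_fac _ _ _).symm).app Y ≪≫
      (FEt.restrict φ).mapIso ((FEt.restrict (FEt.puncturedSpec R).ι).objObjPreimageIso Y₁) ≪≫
      (FEt.restrict φ).objObjPreimageIso W⟩⟩

variable {A : Type u} [CommRing A]

/-- Purity of the localisations of `A_f` gives purity of stalks. -/
theorem purityHolds_stalk {f : A} (U : (Spec (CommRingCat.of A)).Opens) (x : (U : Scheme.{u}))
    (P : Ideal (Localization.Away f)) [P.IsPrime]
    (hP : P.comap (algebraMap A (Localization.Away f)) = (x.1 : PrimeSpectrum A).asIdeal)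
    (h : FEt.PurityHolds (Localization.AtPrime P)) : FEt.PurityHolds (U.toScheme.presheaf.stalk x) := by
  let p : PrimeSpectrum A := x.1
  haveI hAP : IsLocalization.AtPrime (Localization.AtPrime P) p.asIdeal := by
    have := IsLocalization.isLocalization_isLocalization_atPrime_isLocalization (Submonoid.powers f)
      (Localization.AtPrime P) P
    simp only [hP] at this
    exact this
  let e := IsLocalization.algEquiv p.asIdeal.primeCompl (Localization.AtPrime P) (Localization.AtPrime p.asIdeal)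
  exact purityHolds_of_ringEquiv ((e.toRingEquiv.trans
    (Spec.stalkIso (CommRingCat.of A) p).symm.commRingCatIsoToRingEquiv).trans
    (U.stalkIso x).symm.commRingCatIsoToRingEquiv) h

variable [IsNoetherianRing A] [IsLocalRing A]

/-- A point of a closed subset of the punctured spectrum missing the hypersurface gives a maximal ideal of `A_f`. -/
theorem isMaximal_of_closed {f : A} (hf : f ∈ IsLocalRing.maximalIdeal A) (p : Ideal A) [p.IsPrime] (hfp : f ∉ p)
    (h : ∀ q : Ideal A, q.IsPrime → p ≤ q → f ∈ q → q = IsLocalRing.maximalIdeal A) :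
    (p.map (algebraMap A (Localization.Away f))).IsMaximal := by
  have hdisj : Disjoint (Submonoid.powers f : Set A) (p : Set A) := by
    rw [Set.disjoint_left]
    rintro _ ⟨n, rfl⟩ hn
    exact hfp (Ideal.IsPrime.mem_of_pow_mem ‹_› n hn)
  have hpm : (p.map (algebraMap A (Localization.Away f))).IsPrime :=
    IsLocalization.isPrime_of_isPrime_disjoint (Submonoid.powers f) _ p ‹_› hdisj
  obtain ⟨M, hM, hle⟩ := Ideal.exists_le_maximal _ hpm.ne_top
  haveI := hM
  suffices hM2 : M = p.map (algebraMap A (Localization.Away f)) by rwa [← hM2]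
  let q := M.comap (algebraMap A (Localization.Away f))
  have hfq : f ∉ q := fun hfq => hM.ne_top (Ideal.eq_top_of_isUnit_mem _ hfq
    (IsLocalization.Away.algebraMap_isUnit f))
  have hpq : p ≤ q := Ideal.map_le_iff_le_comap.1 hle
  rw [← IsLocalization.map_under (Submonoid.powers f) (Localization.Away f) M]
  show q.map _ = _
  suffices hq : q = p by rw [hq]
  by_contra hne
  let m := IsLocalRing.maximalIdeal A
  haveI : IsDomain (A ⧸ p) := inferInstance
  have hmin : m.map (Ideal.Quotient.mk p) ∈ (Ideal.span {Ideal.Quotient.mk p f}).minimalPrimes := by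
    refine ⟨⟨Ideal.map_isPrime_of_surjective Ideal.Quotient.mk_surjective
      (by rw [Ideal.mk_ker]; exact IsLocalRing.le_maximalIdeal Ideal.IsPrime.ne_top'), ?_⟩, fun r hr hrle => ?_⟩
    · rw [Ideal.span_le, Set.singleton_subset_iff]
      exact Ideal.mem_map_of_mem _ hf
    · haveI := hr.1
      have := h (r.comap (Ideal.Quotient.mk p)) inferInstance
        (fun a ha => by show Ideal.Quotient.mk p a ∈ r; rw [Ideal.Quotient.eq_zero_iff_mem.2 ha]; exact r.zero_mem)
        (hr.2 (Ideal.mem_span_singleton_self _))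
      rw [show m = r.comap (Ideal.Quotient.mk p) from this.symm,
        Ideal.map_comap_of_surjective _ Ideal.Quotient.mk_surjective]
  haveI : (m.map (Ideal.Quotient.mk p)).IsPrime := hmin.1.1
  have h1 := Ideal.height_le_one_of_isPrincipal_of_mem_minimalPrimes _ _ hmin
  haveI : (q.map (Ideal.Quotient.mk p)).IsPrime :=
    Ideal.map_isPrime_of_surjective Ideal.Quotient.mk_surjective (by rw [Ideal.mk_ker]; exact hpq)
  have hqm : q.map (Ideal.Quotient.mk p) < m.map (Ideal.Quotient.mk p) := by
    refine lt_of_le_of_ne (Ideal.map_mono (IsLocalRing.le_maximalIdeal Ideal.IsPrime.ne_top')) fun he => hfq ?_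
    have : Ideal.Quotient.mk p f ∈ q.map (Ideal.Quotient.mk p) := he ▸ Ideal.mem_map_of_mem _ hf
    obtain ⟨a, ha, haf⟩ := (Ideal.mem_map_iff_of_surjective _ Ideal.Quotient.mk_surjective).1 this
    simpa using q.sub_mem ha (hpq (Ideal.Quotient.eq.1 haf))
  have h0 : (⊥ : Ideal (A ⧸ p)) < q.map (Ideal.Quotient.mk p) := by
    refine bot_lt_iff_ne_bot.2 fun hb => hne (le_antisymm ?_ hpq)
    rwa [Ideal.map_eq_bot_iff_le_ker, Ideal.mk_ker] at hb
  haveI : (⊥ : Ideal (A ⧸ p)).IsPrime := Ideal.isPrime_bot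
  have h2 := Ideal.height_add_one_le_of_lt_of_isPrime h0
  have h3 := Ideal.height_add_one_le_of_lt_of_isPrime hqm
  have h4 := (add_le_add h2 le_rfl).trans (h3.trans h1)
  have h5 : (2 : ℕ∞) ≤ 1 := le_trans (by rw [add_assoc]; exact le_add_self) h4
  exact absurd h5 (by norm_num)

/-- Covers of the punctured hypersurface extend, given purity of `A_f` at maximal ideals. -/
theorem essSurj_restrict (f : A) (hf : f ∈ IsLocalRing.maximalIdeal A) [IsAdicComplete (Ideal.span {f}) A]
    (hnz : f ∈ nonZeroDivisors A)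
    (h1 : Module.Finite A (LocCoh.H (IsLocalRing.maximalIdeal A) 1 (A ⧸ Ideal.span {f})))
    (h2 : Module.Finite A (LocCoh.H (IsLocalRing.maximalIdeal A) 2 (A ⧸ Ideal.span {f})))
    (hp : ∀ P : Ideal (Localization.Away f), ∀ _ : P.IsMaximal, FEt.PurityHolds (Localization.AtPrime P)) :
    (FEt.restrict (HyperFEt.r0 A f)).EssSurj := by
  obtain ⟨ι, _, g, hg⟩ := HyperFEt.exists_gens (A := A)
  refine ⟨fun V₀ => ?_⟩
  obtain ⟨U', hU'le, u', hu', V', ⟨iso⟩⟩ := exists_neighbourhood g (HyperFEt.puncturedSpec_eq A g hg) hnz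
    (hg ▸ h1) (hg ▸ h2) _ (by rw [zero_add, pow_one]) V₀
  let U := FEt.puncturedSpec A
  haveI : IsNoetherianRing (CommRingCat.of A) := inferInstanceAs (IsNoetherianRing A)
  haveI : IsNoetherian (Spec (CommRingCat.of A)) := {}
  haveI : IsNoetherian (U : Scheme.{u}) := by
    haveI : IsLocallyNoetherian (U : Scheme.{u}) := isLocallyNoetherian_of_isOpenImmersion U.ι
    haveI : CompactSpace (U : Scheme.{u}) :=
      isCompact_iff_compactSpace.1 (TopologicalSpace.NoetherianSpace.isCompact _)
    exact {}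
  let W := U.ι ⁻¹ᵁ U'
  have hpur : ∀ x : (U : Scheme.{u}), x ∉ W → FEt.PurityHolds ((U : Scheme.{u}).presheaf.stalk x) := by
    intro x hx
    have hU₀ : ∀ q : PrimeSpectrum A, q ∈ U → f ∈ q.asIdeal → q ∈ U' := fun q hq hfq => by
      obtain ⟨y, hy⟩ : (⟨q, hq⟩ : (U : Scheme.{u})) ∈ Set.range (HyperFEt.r0 A f) := by
        rw [HyperFEt.range_r0]; exact hfq
      have h3 := (u' y).2
      rw [show ((u' y).1 : PrimeSpectrum A) = (u' ≫ U'.ι) y from rfl, hu'] at h3
      rwa [Scheme.Hom.comp_apply, show pullback.fst U.ι _ y = ⟨q, hq⟩ from hy] at h3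
    let p : PrimeSpectrum A := x.1
    have hfp : f ∉ p.asIdeal := fun hfp => hx (hU₀ p x.2 hfp)
    have hmax := isMaximal_of_closed hf p.asIdeal hfp fun q hq hpq hfq => by
      by_contra hqm
      refine hx ?_
      have hsp : p ⤳ (⟨q, hq⟩ : PrimeSpectrum A) := (PrimeSpectrum.le_iff_specializes _ _).1 hpq
      exact hsp.mem_open U'.isOpen (hU₀ ⟨q, hq⟩ (fun he => hqm (congrArg PrimeSpectrum.asIdeal he)) hfq)
    refine purityHolds_stalk U x _ ?_ (hp _ hmax)
    refine IsLocalization.under_map_of_isPrime_disjoint (Submonoid.powers f) _ p.2 ?_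
    rw [Set.disjoint_left]
    rintro _ ⟨n, rfl⟩ hn
    exact hfp (p.2.mem_of_pow_mem n hn)
  haveI := S0250.result W hpur
  have hrW : Set.range (W.ι ≫ U.ι) ⊆ Set.range U'.ι := by
    rintro _ ⟨z, rfl⟩
    rw [Scheme.Opens.range_ι]
    exact z.2
  let θ := IsOpenImmersion.lift U'.ι (W.ι ≫ U.ι) hrW
  have hrw : Set.range (HyperFEt.r0 A f) ⊆ Set.range W.ι := by
    rintro _ ⟨y, rfl⟩
    rw [Scheme.Opens.range_ι]
    show U.ι (pullback.fst U.ι _ y) ∈ U'
    rw [← Scheme.Hom.comp_apply, ← hu']
    exact (u' y).2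
  let w := IsOpenImmersion.lift W.ι (HyperFEt.r0 A f) hrw
  have hw : w ≫ W.ι = HyperFEt.r0 A f := IsOpenImmersion.lift_fac _ _ _
  have hwθ : w ≫ θ = u' := by
    rw [← cancel_mono U'.ι, Category.assoc, IsOpenImmersion.lift_fac, ← Category.assoc, hw, hu']
  let Z := (FEt.restrict W.ι).objPreimage ((FEt.restrict θ).obj V')
  exact ⟨Z, ⟨(MorphismProperty.Over.pullbackComp w W.ι (HyperFEt.r0 A f) hw.symm).app Z ≪≫
    (FEt.restrict w).mapIso ((FEt.restrict W.ι).objObjPreimageIso _) ≪≫
    (MorphismProperty.Over.pullbackComp w θ u' hwθ.symm).symm.app V' ≪≫ iso⟩⟩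

end Groth.Agent.HyperAlg

namespace Groth.Agent.HyperAlg

variable {A : Type u} [CommRing A] [IsLocalRing A]

/-- Purity descends to the hypersurface along essential surjectivity of restriction. -/
theorem purityHolds_quotient (f : A) [IsLocalRing (A ⧸ Ideal.span {f})] [(FEt.restrict (HyperFEt.r0 A f)).EssSurj]
    (hA : FEt.PurityHolds A) : FEt.PurityHolds (A ⧸ Ideal.span {f}) := by
  unfold FEt.PurityHolds at hA ⊢
  haveI := hA
  let q := Spec.map (CommRingCat.ofHom (Ideal.Quotient.mk (Ideal.span {f})))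
  let ι' := (FEt.puncturedSpec (A ⧸ Ideal.span {f})).ι
  haveI : IsLocalHom (Ideal.Quotient.mk (Ideal.span {f})) := IsLocalHom.of_surjective _ Ideal.Quotient.mk_surjective
  haveI : IsClosedImmersion q := IsClosedImmersion.spec_of_surjective _ Ideal.Quotient.mk_surjective
  have hp : q ⁻¹ᵁ FEt.puncturedSpec A = FEt.puncturedSpec (A ⧸ Ideal.span {f}) := by
    have hc : q (IsLocalRing.closedPoint (A ⧸ Ideal.span {f})) = IsLocalRing.closedPoint A :=
      IsLocalRing.comap_closedPoint (Ideal.Quotient.mk (Ideal.span {f}))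
    refine TopologicalSpace.Opens.ext (Set.ext fun z => not_congr ⟨fun hz => ?_, fun hz => ?_⟩)
    · exact (q.isClosedEmbedding.injective (Eq.trans hz hc.symm) : z = IsLocalRing.closedPoint _)
    · rw [show z = IsLocalRing.closedPoint (A ⧸ Ideal.span {f}) from hz]
      exact hc
  have hr : Set.range (ι' ≫ q) ⊆ Set.range (FEt.puncturedSpec A).ι := by
    rintro _ ⟨z, rfl⟩
    rw [Scheme.Opens.range_ι]
    exact (TopologicalSpace.Opens.ext_iff.1 hp).ge z.2
  have hsq : IsPullback (IsOpenImmersion.lift (FEt.puncturedSpec A).ι _ hr) ι' (FEt.puncturedSpec A).ι q :=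
    IsOpenImmersion.isPullback _ _ _ _ (IsOpenImmersion.lift_fac _ _ _).symm (by
      rw [Scheme.Opens.opensRange_ι, Scheme.Opens.opensRange_ι, hp])
  let κ := hsq.isoPullback.hom
  haveI := (S0238.result κ).essSurj
  refine ⟨fun V => ?_⟩
  let W₀ := (FEt.restrict κ).objPreimage V
  let Z := (FEt.restrict (HyperFEt.r0 A f)).objPreimage W₀
  let Y := (FEt.restrict (FEt.puncturedSpec A).ι).objPreimage Z
  exact ⟨(FEt.restrict q).obj Y,
    ⟨(MorphismProperty.Over.pullbackComp ι' q (ι' ≫ q) rfl).symm.app Y ≪≫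
      (MorphismProperty.Over.pullbackComp (κ ≫ HyperFEt.r0 A f) (FEt.puncturedSpec A).ι (ι' ≫ q)
        ((IsOpenImmersion.lift_fac _ _ hr).symm.trans (congrArg (· ≫ _) hsq.isoPullback_hom_fst.symm))).app Y ≪≫
      (FEt.restrict (κ ≫ HyperFEt.r0 A f)).mapIso
        ((FEt.restrict (FEt.puncturedSpec A).ι).objObjPreimageIso Z) ≪≫
      (MorphismProperty.Over.pullbackComp κ (HyperFEt.r0 A f) (κ ≫ HyperFEt.r0 A f) rfl).app Z ≪≫
      (FEt.restrict κ).mapIso ((FEt.restrict (HyperFEt.r0 A f)).objObjPreimageIso W₀) ≪≫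
      (FEt.restrict κ).objObjPreimageIso V⟩⟩

end Groth.Agent.HyperAlg
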