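import Groth.Agent.HyperFEt.Extend
import Mathlib.AlgebraicGeometry.Morphisms.Affine
import Mathlib.RingTheory.TensorProduct.Quotient

/-! Global functions over a quasi-affine open, and their restrictions to affine pieces. -/

set_option autoImplicit false
set_option linter.style.haveILetI false
set_option backward.isDefEq.respectTransparency false
set_option backward.isDefEq.respectTransparency.types false

universe u

open CategoryTheory CategoryTheory.Limits AlgebraicGeometry TopologicalSpace Opposite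

noncomputable section

namespace Groth.Agent.HyperAlg

/-- A pushout of a surjection is surjective, with the extended kernel. -/
theorem ker_of_isPushout {R R' P Q : CommRingCat.{u}} {a : R ⟶ P} {q : R ⟶ R'} {b : P ⟶ Q} {c : R' ⟶ Q}
    (h : IsPushout a q b c) (hq : Function.Surjective q) :
    Function.Surjective b ∧ RingHom.ker b.hom = (RingHom.ker q.hom).map a.hom := by
  let I : Ideal P := (RingHom.ker q.hom).map a.hom
  let mk : P ⟶ CommRingCat.of (P ⧸ I) := CommRingCat.ofHom (Ideal.Quotient.mk I)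
  have hle : RingHom.ker q.hom ≤ RingHom.ker ((Ideal.Quotient.mk I).comp a.hom) := fun x hx =>
    Ideal.Quotient.eq_zero_iff_mem.2 (Ideal.mem_map_of_mem _ hx)
  let c' : R' ⟶ CommRingCat.of (P ⧸ I) := CommRingCat.ofHom ((q.hom.liftOfSurjective hq) ⟨_, hle⟩)
  have hc' : a ≫ mk = q ≫ c' := CommRingCat.hom_ext (by
    show (Ideal.Quotient.mk I).comp a.hom = ((q.hom.liftOfSurjective hq) ⟨_, hle⟩).comp q.hom
    exact (RingHom.liftOfSurjective_comp q.hom hq ⟨_, hle⟩).symm)
  have hI : I ≤ RingHom.ker b.hom := Ideal.map_le_iff_le_comap.2 fun x hx => by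
    show b (a x) = 0
    rw [← CategoryTheory.comp_apply, h.w, CategoryTheory.comp_apply]
    show c (q.hom x) = 0
    rw [show q.hom x = 0 from hx, map_zero]
  let d : CommRingCat.of (P ⧸ I) ⟶ Q := CommRingCat.ofHom (Ideal.Quotient.lift I b.hom fun x hx => hI hx)
  let e := h.desc mk c' hc'
  have hed : e ≫ d = 𝟙 Q := h.hom_ext (by
    rw [Category.comp_id, h.inl_desc_assoc]
    exact CommRingCat.hom_ext (RingHom.ext fun _ => rfl)) (by
    rw [Category.comp_id, h.inr_desc_assoc]
    refine CommRingCat.hom_ext (RingHom.ext fun x => ?_)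
    obtain ⟨r, rfl⟩ := hq x
    show d (c' (q r)) = c (q r)
    rw [← CategoryTheory.comp_apply q c', ← hc', CategoryTheory.comp_apply, ← CategoryTheory.comp_apply q c, ← h.w,
      CategoryTheory.comp_apply]
    rfl)
  refine ⟨fun y => ?_, le_antisymm (fun x hx => ?_) hI⟩
  · obtain ⟨x, hx⟩ := Ideal.Quotient.mk_surjective (I := I) (e y)
    refine ⟨x, ?_⟩
    have := congr($(hed) y)
    rw [CategoryTheory.comp_apply, ← hx] at this
    exact this
  · have h1 : e (b x) = mk x := by rw [← CategoryTheory.comp_apply, h.inl_desc]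
    rw [show b x = 0 from hx, map_zero] at h1
    exact Ideal.Quotient.eq_zero_iff_mem.1 h1.symm

variable {A : Type u} [CommRing A]

/-- Global functions of a scheme over `Spec A`. -/
def Gam {X : Scheme.{u}} (_q : X ⟶ Spec (CommRingCat.of A)) : Type u := Γ(X, ⊤)

instance {X : Scheme.{u}} (q : X ⟶ Spec (CommRingCat.of A)) : CommRing (Gam q) :=
  inferInstanceAs (CommRing Γ(X, ⊤))

instance algebraGam {X : Scheme.{u}} (q : X ⟶ Spec (CommRingCat.of A)) : Algebra A (Gam q) :=
  ((Scheme.ΓSpecIso (CommRingCat.of A)).inv ≫ q.appTop).hom.toAlgebra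

theorem algebraMap_gam {X : Scheme.{u}} (q : X ⟶ Spec (CommRingCat.of A)) (a : A) :
    algebraMap A (Gam q) a = q.appTop ((Scheme.ΓSpecIso (CommRingCat.of A)).inv a) := rfl

theorem smul_gam {X : Scheme.{u}} (q : X ⟶ Spec (CommRingCat.of A)) (a : A) (z : Gam q) :
    a • z = algebraMap A (Gam q) a * z := Algebra.smul_def a z

/-- Pullback of functions along a map over `Spec A`. -/
def gamMap {X Y : Scheme.{u}} {p : X ⟶ Spec (CommRingCat.of A)} {q : Y ⟶ Spec (CommRingCat.of A)}
    (φ : X ⟶ Y) (h : φ ≫ q = p) : Gam q →ₐ[A] Gam p where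
  toRingHom := φ.appTop.hom
  commutes' a := by
    show φ.appTop (q.appTop ((Scheme.ΓSpecIso (CommRingCat.of A)).inv a)) = p.appTop ((Scheme.ΓSpecIso (CommRingCat.of A)).inv a)
    rw [← h, Scheme.Hom.comp_appTop, CategoryTheory.comp_apply]

theorem gamMap_apply {X Y : Scheme.{u}} {p : X ⟶ Spec (CommRingCat.of A)} {q : Y ⟶ Spec (CommRingCat.of A)}
    (φ : X ⟶ Y) (h : φ ≫ q = p) (x : Gam q) : gamMap φ h x = φ.appTop x := rfl

variable {X : Scheme.{u}} (q : X ⟶ Spec (CommRingCat.of A))

/-- The part over a basic open. -/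
abbrev piece (a : A) : X.Opens := q ⁻¹ᵁ PrimeSpectrum.basicOpen a

/-- Restriction to the part over a basic open. -/
abbrev resP (a : A) : Gam q →ₐ[A] Gam ((piece q a).ι ≫ q) := gamMap (piece q a).ι rfl

theorem piece_eq (a : A) : piece q a = X.basicOpen (algebraMap A (Gam q) a : Γ(X, ⊤)) := by
  show q ⁻¹ᵁ PrimeSpectrum.basicOpen a = _
  rw [← basicOpen_eq_of_affine (R := CommRingCat.of A), Scheme.preimage_basicOpen]
  rfl

theorem isUnit_piece (a : A) : IsUnit (algebraMap A (Gam ((piece q a).ι ≫ q)) a) := by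
  have h : piece ((piece q a).ι ≫ q) a = ⊤ := TopologicalSpace.Opens.ext (Set.eq_univ_of_forall fun x => x.2)
  have := RingedSpace.isUnit_res_basicOpen (piece q a).toScheme.toRingedSpace
    (U := ⊤) (algebraMap A (Gam ((piece q a).ι ≫ q)) a : Γ((piece q a).toScheme, ⊤))
  replace h : (piece q a).toScheme.basicOpen
      (algebraMap A (Gam ((piece q a).ι ≫ q)) a : Γ((piece q a).toScheme, ⊤)) = ⊤ := by
    rw [← piece_eq]; exact h
  have key : ∀ (W : (piece q a).toScheme.Opens) (hW : W ≤ ⊤), W = ⊤ →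
      IsUnit ((piece q a).toScheme.presheaf.map (homOfLE hW).op
        (algebraMap A (Gam ((piece q a).ι ≫ q)) a : Γ((piece q a).toScheme, ⊤))) →
      IsUnit (algebraMap A (Gam ((piece q a).ι ≫ q)) a : Γ((piece q a).toScheme, ⊤)) := by
    rintro W hW rfl hu
    rwa [show (homOfLE hW).op = 𝟙 _ from rfl, CategoryTheory.Functor.map_id] at hu
  exact key _ le_top h this

theorem res_piece_loc [CompactSpace X] [QuasiSeparatedSpace X] (a : A) :
    (∀ x : Gam ((piece q a).ι ≫ q), ∃ (k : ℕ) (z : Gam q), resP q a z = a ^ k • x) ∧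
      ∀ z : Gam q, resP q a z = 0 → ∃ k : ℕ, a ^ k • z = 0 := by
  let c : Γ(X, ⊤) := algebraMap A (Gam q) a
  letI : Algebra Γ(X, ⊤) Γ((piece q a).toScheme, ⊤) := (piece q a).ι.appTop.hom.toAlgebra
  haveI : IsLocalization.Away c Γ((piece q a).toScheme, ⊤) := by
    have key : ∀ (V : X.Opens), V = X.basicOpen c →
        @IsLocalization.Away Γ(X, ⊤) _ c Γ(V.toScheme, ⊤) _ V.ι.appTop.hom.toAlgebra := by
      rintro V rfl
      letI := (X.presheaf.map (homOfLE (le_top : X.basicOpen c ≤ ⊤)).op).hom.toAlgebra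
      haveI : IsLocalization.Away c Γ(X, X.basicOpen c) :=
        isLocalization_basicOpen_of_qcqs isCompact_univ isQuasiSeparated_univ c
      letI := (X.basicOpen c).ι.appTop.hom.toAlgebra
      let e := (X.basicOpen c).topIso.symm.commRingCatIsoToRingEquiv
      have he : e.toRingHom.comp (algebraMap Γ(X, ⊤) Γ(X, X.basicOpen c)) =
          algebraMap Γ(X, ⊤) Γ((X.basicOpen c).toScheme, ⊤) := by
        have : X.presheaf.map (homOfLE (le_top : X.basicOpen c ≤ ⊤)).op ≫ (X.basicOpen c).topIso.inv =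
            (X.basicOpen c).ι.appTop := by
          rw [Scheme.Opens.ι_appTop]
          show _ ≫ X.presheaf.map _ = _
          rw [← Functor.map_comp]
          congr 1
        rw [RingHom.algebraMap_toAlgebra, RingHom.algebraMap_toAlgebra, ← this]
        rfl
      exact IsLocalization.isLocalization_of_algEquiv (Submonoid.powers c)
        ({ e with commutes' := fun r => RingHom.congr_fun he r } : Γ(X, X.basicOpen c) ≃ₐ[Γ(X, ⊤)] _)
    exact key _ (piece_eq q a)
  refine ⟨fun x => ?_, fun z hz => ?_⟩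
  · let x' : Γ((piece q a).toScheme, ⊤) := x
    obtain ⟨k, z, hz⟩ := IsLocalization.Away.surj c x' 
    refine ⟨k, z, ?_⟩
    rw [Algebra.smul_def, map_pow, ← (resP q a).commutes]
    exact hz.symm.trans (mul_comm _ _)
  · obtain ⟨⟨_, k, rfl⟩, hk⟩ := (IsLocalization.map_eq_zero_iff (Submonoid.powers c)
      Γ((piece q a).toScheme, ⊤) (z : Γ(X, ⊤))).1 hz
    exact ⟨k, by rw [Algebra.smul_def, map_pow]; exact hk⟩

end Groth.Agent.HyperAlg
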