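import Groth.Agent.HyperAlg.Purity
import Groth.Agent.PicLiftLib.Main
import Groth.Agent.S0262
import Groth.Agent.S0247
import Groth.Agent.S0318

/-! Purity for complete intersections of dimension at least three. -/

set_option autoImplicit false
set_option linter.style.haveILetI false
set_option backward.isDefEq.respectTransparency false

universe u

open CategoryTheory CategoryTheory.Limits AlgebraicGeometry IsLocalRing RingTheory.Sequence

noncomputable section

namespace Groth.Agent.HyperAlg

open PicLiftLib (withBot_cancel dim_ci depth_ci ofList_ne_top comap_lt)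

/-- Purity descends from the completion. -/
theorem purityHolds_of_completion (A : Type u) [CommRing A] [IsNoetherianRing A] [IsLocalRing A]
    [IsLocalRing (AdicCompletion (maximalIdeal A) A)]
    (h : FEt.PurityHolds (AdicCompletion (maximalIdeal A) A)) : FEt.PurityHolds A := by
  unfold FEt.PurityHolds at h ⊢
  haveI := h
  let Ah := AdicCompletion (maximalIdeal A) A
  let t := Spec.map (CommRingCat.ofHom (algebraMap A Ah))
  have hne := (maximalIdeal.isMaximal A).ne_top
  have hmax : maximalIdeal Ah = (maximalIdeal A).map (algebraMap A Ah) := RegLocal.maximalIdeal_completion A _ hne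
  have hp : t ⁻¹ᵁ FEt.puncturedSpec A = FEt.puncturedSpec Ah := by
    refine TopologicalSpace.Opens.ext (Set.ext fun y => not_congr ⟨fun hy => ?_, fun hy => ?_⟩)
    · show (y : PrimeSpectrum Ah) = closedPoint Ah
      have hy' : (y : PrimeSpectrum Ah).asIdeal.comap (algebraMap A Ah) = maximalIdeal A := congrArg PrimeSpectrum.asIdeal hy
      refine PrimeSpectrum.ext (le_antisymm (le_maximalIdeal (Ideal.IsPrime.ne_top inferInstance)) ?_)
      exact hmax.trans_le (Ideal.map_le_iff_le_comap.2 hy'.ge)
    · rw [show (y : PrimeSpectrum Ah) = closedPoint Ah from hy]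
      refine PrimeSpectrum.ext (((maximalIdeal.isMaximal A).eq_of_le (Ideal.IsPrime.ne_top inferInstance) ?_).symm)
      show maximalIdeal A ≤ (maximalIdeal Ah).comap (algebraMap A Ah)
      rw [hmax]
      exact Ideal.le_comap_map
  have hr : Set.range ((FEt.puncturedSpec Ah).ι ≫ t) ⊆ Set.range (FEt.puncturedSpec A).ι := by
    rintro _ ⟨z, rfl⟩
    rw [Scheme.Opens.range_ι]
    exact (TopologicalSpace.Opens.ext_iff.1 hp).ge z.2
  have hsq : IsPullback (IsOpenImmersion.lift (FEt.puncturedSpec A).ι _ hr) (FEt.puncturedSpec Ah).ι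
      (FEt.puncturedSpec A).ι t :=
    IsOpenImmersion.isPullback _ _ _ _ (IsOpenImmersion.lift_fac _ _ _).symm (by
      rw [Scheme.Opens.opensRange_ι, Scheme.Opens.opensRange_ι, hp])
  let κ := hsq.isoPullback.hom
  haveI := S0238.result κ
  refine ⟨fun V => ?_⟩
  let W := (FEt.restrict (pullback.fst (FEt.puncturedSpec A).ι t)).obj V
  let Y' := (FEt.restrict (FEt.puncturedSpec Ah).ι).objPreimage ((FEt.restrict κ).obj W)
  obtain ⟨Y, e⟩ := (S0262.result A V).2 ⟨Y', ⟨(FEt.restrict κ).preimageIso
    ((MorphismProperty.Over.pullbackComp κ (pullback.snd (FEt.puncturedSpec A).ι t) _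
      hsq.isoPullback_hom_snd.symm).symm.app Y' ≪≫
      (FEt.restrict (FEt.puncturedSpec Ah).ι).objObjPreimageIso _)⟩⟩
  exact ⟨Y, e⟩

/-- Primes maximal among those avoiding `f` have one-dimensional quotient. -/
theorem eq_maximalIdeal_of_max_avoiding {B : Type u} [CommRing B] [IsLocalRing B] [IsNoetherianRing B] {f : B}
    (hf : f ∈ maximalIdeal B) (q : Ideal B) [q.IsPrime] (hfq : f ∉ q)
    (h : ∀ q' : Ideal B, q'.IsPrime → q < q' → f ∈ q') (q' : Ideal B) (hq' : q'.IsPrime) (hlt : q < q') :
    q' = maximalIdeal B := by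
  classical
  let π := Ideal.Quotient.mk q
  haveI : IsLocalRing (B ⧸ q) := .of_surjective' π Ideal.Quotient.mk_surjective
  let m := maximalIdeal (B ⧸ q)
  have hall : ∀ P : Ideal (B ⧸ q), P.IsPrime → P ≠ ⊥ → π f ∈ P := fun P hP hne => by
    haveI := hP
    refine h (P.comap π) inferInstance (lt_of_le_of_ne (fun a ha => ?_) fun e => hne ?_)
    · show π a ∈ P
      rw [Ideal.Quotient.eq_zero_iff_mem.2 ha]
      exact P.zero_mem
    · rw [← Ideal.map_comap_of_surjective π Ideal.Quotient.mk_surjective P, ← e, Ideal.map_eq_bot_iff_le_ker, Ideal.mk_ker]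
  have hf0 : π f ≠ 0 := fun e => hfq (Ideal.Quotient.eq_zero_iff_mem.1 e)
  have hfin : ((Ideal.span {π f}).minimalPrimes).Finite := Ideal.finite_minimalPrimes_of_isNoetherianRing _ _
  have hsub : (m : Set (B ⧸ q)) ⊆ ⋃ P ∈ (hfin.toFinset : Set (Ideal (B ⧸ q))), (P : Set (B ⧸ q)) := by
    intro g hg
    by_cases hg0 : g = 0
    · have hfm : π f ∈ m := fun hu => (maximalIdeal.isMaximal B).ne_top (Ideal.eq_top_of_isUnit_mem _ hf (by
        haveI : IsLocalHom π := IsLocalHom.of_surjective _ Ideal.Quotient.mk_surjective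
        exact isUnit_of_map_unit π f hu))
      obtain ⟨P, hP, -⟩ := Ideal.exists_minimalPrimes_le (J := m) ((Ideal.span_singleton_le_iff_mem _).2 hfm)
      exact Set.mem_biUnion (hfin.mem_toFinset.2 hP) (hg0 ▸ P.zero_mem)
    obtain ⟨P, hP, -⟩ := Ideal.exists_minimalPrimes_le (J := m) ((Ideal.span_singleton_le_iff_mem _).2 hg)
    haveI := hP.1.1
    have hgP : g ∈ P := hP.1.2 (Ideal.mem_span_singleton_self g)
    have h1 := Ideal.height_le_one_of_isPrincipal_of_mem_minimalPrimes _ _ hP
    refine Set.mem_biUnion (hfin.mem_toFinset.2 ⟨⟨hP.1.1, (Ideal.span_singleton_le_iff_mem _).2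
      (hall P hP.1.1 fun e => hg0 (by rw [e] at hgP; exact hgP))⟩, fun Q hQ hQP => ?_⟩) hgP
    haveI := hQ.1
    by_contra hne
    have hQP' : Q < P := lt_of_le_of_ne hQP fun e => hne (e ▸ le_rfl)
    have h0 : (⊥ : Ideal (B ⧸ q)) < Q := bot_lt_iff_ne_bot.2 fun e => hf0 (by
      have := hQ.2 (Ideal.mem_span_singleton_self (π f))
      rwa [e] at this)
    haveI : (⊥ : Ideal (B ⧸ q)).IsPrime := Ideal.isPrime_bot
    have h5 : (2 : ℕ∞) ≤ 1 := le_trans (by rw [add_assoc]; exact le_add_self)
      ((add_le_add (Ideal.height_add_one_le_of_lt_of_isPrime h0) le_rfl).trans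
        ((Ideal.height_add_one_le_of_lt_of_isPrime hQP').trans h1))
    exact absurd h5 (by norm_num)
  obtain ⟨M, hM, hmM⟩ := (Ideal.subset_union_prime ⊥ ⊥ (fun P hP _ _ => (hfin.mem_toFinset.1 hP).1.1)).1 hsub
  have hMm := le_antisymm hmM (le_maximalIdeal (hfin.mem_toFinset.1 hM).1.1.ne_top)
  have h1 : m.height ≤ 1 :=
    Ideal.height_le_one_of_isPrincipal_of_mem_minimalPrimes _ _ (hMm.symm ▸ hfin.mem_toFinset.1 hM)
  haveI := hq'
  haveI : (q'.map π).IsPrime :=
    Ideal.map_isPrime_of_surjective Ideal.Quotient.mk_surjective (by rw [Ideal.mk_ker]; exact hlt.le)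
  have h0 : (⊥ : Ideal (B ⧸ q)) < q'.map π := bot_lt_iff_ne_bot.2 fun e => hlt.not_ge (by
    rwa [Ideal.map_eq_bot_iff_le_ker, Ideal.mk_ker] at e)
  haveI : (⊥ : Ideal (B ⧸ q)).IsPrime := Ideal.isPrime_bot
  have he : q'.map π = m := by
    by_contra hne
    have h5 : (2 : ℕ∞) ≤ 1 := le_trans (by rw [add_assoc]; exact le_add_self)
      ((add_le_add (Ideal.height_add_one_le_of_lt_of_isPrime h0) le_rfl).trans
        ((Ideal.height_add_one_le_of_lt_of_isPrime
          (lt_of_le_of_ne (le_maximalIdeal (Ideal.IsPrime.ne_top inferInstance)) hne)).trans h1))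
    exact absurd h5 (by norm_num)
  have := congrArg (Ideal.comap π) he
  rw [Ideal.comap_map_of_surjective π Ideal.Quotient.mk_surjective, ← RingHom.ker_eq_comap_bot, Ideal.mk_ker,
    sup_eq_left.2 hlt.le] at this
  rw [this]
  exact IsLocalRing.eq_maximalIdeal (Ideal.comap_isMaximal_of_surjective _ Ideal.Quotient.mk_surjective)

theorem mem_nonZeroDivisors_of_regular {B : Type u} [CommRing B] {f : B} (h : IsSMulRegular B f) :
    f ∈ nonZeroDivisors B :=
  mem_nonZeroDivisors_iff.2 ⟨fun x hx => h.right_eq_zero_of_smul hx,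
    fun x hx => h.right_eq_zero_of_smul (by rw [smul_eq_mul, mul_comm]; exact hx)⟩

/-- The descent step: from `B` to `B/fB`. -/
theorem purityHolds_quot_step {B : Type u} [CommRing B] [IsLocalRing B] [IsNoetherianRing B] (f : B)
    (hf : f ∈ maximalIdeal B) (hreg : IsSMulRegular B f) [IsAdicComplete (Ideal.span {f}) B]
    [IsLocalRing (B ⧸ Ideal.span {f})] (hd : (3 : ℕ∞) ≤ LocCoh.depth (B ⧸ Ideal.span {f}) (B ⧸ Ideal.span {f}))
    (hB : FEt.PurityHolds B)
    (hpar : ∀ (q : Ideal B) [q.IsPrime], f ∉ q → q ≠ maximalIdeal B →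
      (∀ q' : Ideal B, q'.IsPrime → q < q' → q' = maximalIdeal B) → FEt.PurityHolds (Localization.AtPrime q)) :
    FEt.PurityHolds (B ⧸ Ideal.span {f}) := by
  have hsub : ∀ i < 3, Subsingleton (LocCoh.H (maximalIdeal B) i (B ⧸ Ideal.span {f})) := by
    have hI : maximalIdeal B • (⊤ : Submodule B (B ⧸ Ideal.span {f})) ≠ ⊤ := CAlgBasics.maximalIdeal_smul_top_ne_top
    obtain ⟨rs, hrs⟩ := Depth.exists_isMaxSeq (M := B ⧸ Ideal.span {f}) hI
    have hn := Depth.idealDepth_eq_length hI hrs
    have h3 : (3 : ℕ∞) ≤ LocCoh.depth B (B ⧸ Ideal.span {f}) := by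
      rw [← FlatDepth.depth_of_surjective (R := B ⧸ Ideal.span {f}) Ideal.Quotient.mk_surjective]
      exact hd
    rw [LocCoh.depth, hn] at h3
    exact fun i hi => ((S0318.result B (maximalIdeal B) (B ⧸ Ideal.span {f}) hI rs.length).1 hn).1 i
      (lt_of_lt_of_le hi (by exact_mod_cast h3))
  haveI := hsub 1 (by norm_num)
  haveI := hsub 2 (by norm_num)
  haveI := essSurj_restrict f hf (mem_nonZeroDivisors_of_regular hreg) inferInstance inferInstance
    fun P hP => by
      haveI := hP
      let q := P.comap (algebraMap B (Localization.Away f))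
      have hfq : f ∉ q := fun h => hP.ne_top (Ideal.eq_top_of_isUnit_mem _ h (IsLocalization.Away.algebraMap_isUnit f))
      have hmax : ∀ q' : Ideal B, q'.IsPrime → q < q' → f ∈ q' := fun q' hq' hlt => by
        by_contra hfq'
        have hd' : Disjoint (Submonoid.powers f : Set B) (q' : Set B) := by
          rw [Set.disjoint_left]
          rintro _ ⟨n, rfl⟩ hn
          exact hfq' (hq'.mem_of_pow_mem n hn)
        have hp' := IsLocalization.isPrime_of_isPrime_disjoint (Submonoid.powers f) (Localization.Away f) q' hq' hd'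
        have hle : P ≤ q'.map (algebraMap B (Localization.Away f)) :=
          (IsLocalization.map_under (Submonoid.powers f) (Localization.Away f) P).ge.trans (Ideal.map_mono hlt.le)
        have := congrArg (Ideal.comap (algebraMap B (Localization.Away f))) (hP.eq_of_le hp'.ne_top hle)
        rw [show (q'.map (algebraMap B (Localization.Away f))).comap (algebraMap B (Localization.Away f)) = q' from
          IsLocalization.under_map_of_isPrime_disjoint (Submonoid.powers f) _ hq' hd'] at this
        exact hlt.ne this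
      haveI : IsLocalization.AtPrime (Localization.AtPrime P) q :=
        IsLocalization.isLocalization_isLocalization_atPrime_isLocalization (Submonoid.powers f) _ P
      exact purityHolds_of_ringEquiv
        (IsLocalization.algEquiv q.primeCompl (Localization.AtPrime q) (Localization.AtPrime P)).toRingEquiv
        (hpar q hfq (fun e => hfq (e ▸ hf)) (eq_maximalIdeal_of_max_avoiding hf q hfq hmax))
  exact purityHolds_quotient f hB

theorem three_le_depth {R : Type u} [CommRing R] [IsRegularLocalRing R] {rs : List R} (hm : ∀ r ∈ rs, r ∈ maximalIdeal R)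
    (hreg : IsRegular R rs) [IsLocalRing (R ⧸ Ideal.ofList rs)]
    (h : (3 : WithBot ℕ∞) ≤ ringKrullDim (R ⧸ Ideal.ofList rs)) :
    (3 : ℕ∞) ≤ LocCoh.depth (R ⧸ Ideal.ofList rs) (R ⧸ Ideal.ofList rs) := by
  have := withBot_cancel (n := rs.length) (le_of_eq ((dim_ci hm hreg).trans (depth_ci hm hreg).symm))
  exact WithBot.coe_le_coe.1 (h.trans this)

theorem purityHolds_ci : ∀ (k : ℕ) (R : Type u) [CommRing R] [IsRegularLocalRing R] (rs : List R),
    rs.length = k → (∀ r ∈ rs, r ∈ maximalIdeal R) → IsRegular R rs →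
    ∀ (A : Type u) [CommRing A] [IsNoetherianRing A] [IsLocalRing A], (A ≃+* R ⧸ Ideal.ofList rs) →
      (3 : WithBot ℕ∞) ≤ ringKrullDim A → FEt.PurityHolds A := by
  intro k
  induction k with
  | zero =>
    intro R _ _ rs hlen _ _ A _ _ _ e hdim
    obtain rfl : rs = [] := List.eq_nil_of_length_eq_zero hlen
    let e' : A ≃+* R := e.trans ((Ideal.quotEquivOfEq (Ideal.ofList_nil (R := R))).trans (RingEquiv.quotientBot R))
    refine purityHolds_of_ringEquiv e'.symm (S0247.result R ?_)
    rw [← ringKrullDim_eq_of_ringEquiv e']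
    exact le_trans (by norm_num) hdim
  | succ k ih =>
    -- the complete case
    have key : ∀ (R : Type u) [CommRing R] [IsRegularLocalRing R] [IsAdicComplete (maximalIdeal R) R] (rs : List R),
        rs.length = k + 1 → (∀ r ∈ rs, r ∈ maximalIdeal R) → IsRegular R rs →
        ∀ [IsLocalRing (R ⧸ Ideal.ofList rs)], (3 : WithBot ℕ∞) ≤ ringKrullDim (R ⧸ Ideal.ofList rs) →
        FEt.PurityHolds (R ⧸ Ideal.ofList rs) := by
      intro R _ _ _ rs hlen hm hreg _ hdim
      have hne : rs ≠ [] := List.ne_nil_of_length_eq_add_one hlen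
      obtain ⟨rs₀, l, rfl⟩ : ∃ rs₀ l, rs = rs₀ ++ [l] := ⟨rs.dropLast, rs.getLast hne, (List.dropLast_append_getLast hne).symm⟩
      have hlen₀ : rs₀.length = k := by simpa using hlen
      have hm₀ : ∀ r ∈ rs₀, r ∈ maximalIdeal R := fun r hr => hm r (List.mem_append_left _ hr)
      have hl : l ∈ maximalIdeal R := hm l (by simp)
      obtain ⟨hw₀, hwl⟩ := (isWeaklyRegular_append_iff R rs₀ [l]).1 hreg.1
      have hreg₀ : IsRegular R rs₀ := (IsLocalRing.isRegular_iff_isWeaklyRegular_of_subset_maximalIdeal
        (R := R) (M := R) hm₀).2 hw₀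
      let I := Ideal.ofList rs₀
      let B := R ⧸ I
      have hI : I ≠ ⊤ := ofList_ne_top hm₀
      haveI : IsLocalRing B := RegLocal.isLocalRing_quot hI
      let f : B := Ideal.Quotient.mk I l
      have hf : f ∈ maximalIdeal B := by
        rw [RegLocal.maximalIdeal_quot hI]; exact Ideal.mem_map_of_mem _ hl
      have hregf : IsSMulRegular B f := by
        have h1 := (isWeaklyRegular_singleton_iff _ l).1 hwl
        have e : Ideal.ofList rs₀ • (⊤ : Submodule R R) = I := by rw [smul_eq_mul, Ideal.mul_top]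
        have h2 : IsSMulRegular B l := ((Submodule.quotEquivOfEq _ _ e).isSMulRegular_congr l).1 h1
        exact fun x y hxy => h2 ((Algebra.smul_def l x).trans (hxy.trans (Algebra.smul_def l y).symm))
      haveI : IsAdicComplete (maximalIdeal B) B := FiniteCompleteLib.isAdicComplete_maximalIdeal R B
      haveI : IsAdicComplete (Ideal.span {f}) B := AdicLemmas.isAdicComplete_of_le_of_fg
        ((Ideal.span_singleton_le_iff_mem _).2 hf) (Submodule.fg_span_singleton f) B
      let e : (B ⧸ Ideal.span {f}) ≃+* R ⧸ Ideal.ofList (rs₀ ++ [l]) :=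
        (Ideal.quotEquivOfEq (show Ideal.span {f} = (Ideal.span {l}).map (Ideal.Quotient.mk I) by
          rw [Ideal.map_span, Set.image_singleton])).trans
        ((DoubleQuot.quotQuotEquivQuotSup I (Ideal.span {l})).trans
          (Ideal.quotEquivOfEq (by rw [Ideal.ofList_append, Ideal.ofList_singleton])))
      haveI : IsLocalRing (B ⧸ Ideal.span {f}) := e.symm.isLocalRing
      have hd : (3 : ℕ∞) ≤ LocCoh.depth (B ⧸ Ideal.span {f}) (B ⧸ Ideal.span {f}) := by
        rw [FlatDepth.depth_eq_of_ringEquiv e.symm]; exact three_le_depth hm hreg hdim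
      have hdimB : (4 : WithBot ℕ∞) ≤ ringKrullDim B := by
        refine withBot_cancel (n := k) ?_
        rw [show ringKrullDim B + k = ringKrullDim R by rw [← hlen₀]; exact dim_ci hm₀ hreg₀]
        refine le_trans (le_of_eq ?_) ((add_le_add hdim (le_refl ((k + 1 : ℕ) : WithBot ℕ∞))).trans
          (le_of_eq (hlen ▸ dim_ci hm hreg)))
        norm_cast
        omega
      refine purityHolds_of_ringEquiv e (purityHolds_quot_step f hf hregf hd
        (ih R rs₀ hlen₀ hm₀ hreg₀ B (RingEquiv.refl _) (le_trans (by norm_num) hdimB)) ?_)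
      intro q hq hfq hqm hmax
      let P : Ideal R := q.comap (Ideal.Quotient.mk I)
      haveI : P.IsPrime := Ideal.IsPrime.comap _
      haveI : IsRegularLocalRing (Localization.AtPrime P) := RegLocal.isRegularLocalRing_localization R P
      have hmemP : ∀ r ∈ rs₀, r ∈ P := fun r hr => by
        show Ideal.Quotient.mk I r ∈ q
        rw [Ideal.Quotient.eq_zero_iff_mem.2 (Ideal.subset_span hr : r ∈ I)]
        exact q.zero_mem
      let rsP := rs₀.map (algebraMap R (Localization.AtPrime P))
      have hregP : IsRegular (Localization.AtPrime P) rsP :=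
        hreg₀.1.isRegular_of_isLocalization_of_mem (Localization.AtPrime P) P hmemP
      have hmP : ∀ r ∈ rsP, r ∈ maximalIdeal (Localization.AtPrime P) := fun r hr => by
        obtain ⟨s, hs, rfl⟩ := List.mem_map.1 hr
        exact (IsLocalization.AtPrime.to_map_mem_maximal_iff (Localization.AtPrime P) P s).2 (hmemP s hs)
      have hS : Algebra.algebraMapSubmonoid B P.primeCompl = q.primeCompl := by
        ext x
        constructor
        · rintro ⟨r, hr, rfl⟩
          exact hr
        · intro hx
          obtain ⟨r, rfl⟩ := Ideal.Quotient.mk_surjective x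
          exact ⟨r, hx, rfl⟩
      let Q := Localization.AtPrime P ⧸ I.map (algebraMap R (Localization.AtPrime P))
      haveI : IsLocalization (Algebra.algebraMapSubmonoid B P.primeCompl) Q := inferInstance
      haveI : IsLocalization q.primeCompl Q := hS ▸ inferInstance
      let eq' : Localization.AtPrime q ≃+* Localization.AtPrime P ⧸ Ideal.ofList rsP :=
        (IsLocalization.algEquiv q.primeCompl (Localization.AtPrime q) Q).toRingEquiv.trans
          (Ideal.quotEquivOfEq (Ideal.map_ofList _ _))
      refine ih (Localization.AtPrime P) rsP (by simp [rsP, hlen₀]) hmP hregP _ eq' ?_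
      haveI : IsLocalRing (Localization.AtPrime P ⧸ Ideal.ofList rsP) := eq'.isLocalRing
      rw [ringKrullDim_eq_of_ringEquiv eq']
      refine withBot_cancel (n := k) ?_
      rw [show ringKrullDim (Localization.AtPrime P ⧸ Ideal.ofList rsP) + k = ringKrullDim (Localization.AtPrime P) by
        rw [← (by simp [rsP, hlen₀] : rsP.length = k)]; exact dim_ci hmP hregP,
        IsLocalization.AtPrime.ringKrullDim_eq_height P (Localization.AtPrime P)]
      have h1 : ringKrullDim (R ⧸ P) ≤ 1 := by
        haveI : Nontrivial (R ⧸ P) := Ideal.Quotient.nontrivial_iff.2 (Ideal.IsPrime.ne_top ‹_›)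
        refine Order.krullDim_le_one_iff.2 fun x => ?_
        by_contra hx
        push Not at hx
        obtain ⟨⟨y, hy⟩, hz⟩ := (show (∃ y, y < x) ∧ ∃ z, x < z from
          ⟨not_isMin_iff.1 hx.1, not_isMax_iff.1 hx.2⟩)
        obtain ⟨z, hz⟩ := hz
        let π := Ideal.Quotient.mk P
        have hPx : P < x.asIdeal.comap π := by
          refine lt_of_le_of_lt (fun r hr => ?_) (comap_lt π Ideal.Quotient.mk_surjective hy)
          show π r ∈ y.asIdeal
          rw [Ideal.Quotient.eq_zero_iff_mem.2 hr]
          exact y.asIdeal.zero_mem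
        have hIx : I ≤ x.asIdeal.comap π := le_trans (Ideal.span_le.2 hmemP) hPx.le
        haveI : ((x.asIdeal.comap π).map (Ideal.Quotient.mk I)).IsPrime :=
          Ideal.map_isPrime_of_surjective Ideal.Quotient.mk_surjective (by rw [Ideal.mk_ker]; exact hIx)
        have hc : ((x.asIdeal.comap π).map (Ideal.Quotient.mk I)).comap (Ideal.Quotient.mk I) = x.asIdeal.comap π := by
          rw [Ideal.comap_map_of_surjective _ Ideal.Quotient.mk_surjective, ← RingHom.ker_eq_comap_bot, Ideal.mk_ker,
            sup_eq_left.2 hIx]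
        have hle : q ≤ (x.asIdeal.comap π).map (Ideal.Quotient.mk I) :=
          (Ideal.map_comap_of_surjective (Ideal.Quotient.mk I) Ideal.Quotient.mk_surjective q).ge.trans
            (Ideal.map_mono hPx.le)
        have hx' := hmax _ inferInstance (lt_of_le_of_ne hle
          fun e => hPx.ne ((congrArg (Ideal.comap (Ideal.Quotient.mk I)) e).trans hc))
        rw [hx'] at hc
        have hmax' : x.asIdeal.comap π = maximalIdeal R := by
          rw [← hc]; exact IsLocalRing.eq_maximalIdeal (Ideal.comap_isMaximal_of_surjective _ Ideal.Quotient.mk_surjective)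
        exact (hmax' ▸ comap_lt π Ideal.Quotient.mk_surjective hz : maximalIdeal R < z.asIdeal.comap π).not_ge
          (le_maximalIdeal (Ideal.IsPrime.ne_top inferInstance))
      have h2 := GorLib.height_add_ringKrullDim_quotient (GorLib.gorensteinLocal_of_regular R) P
      refine withBot_cancel (n := 1) ?_
      refine le_trans ?_ (add_le_add (le_refl _) h1)
      rw [h2]
      refine le_trans (le_of_eq ?_) ((add_le_add hdimB (le_refl ((k : ℕ) : WithBot ℕ∞))).trans (le_of_eq (hlen₀ ▸ dim_ci hm₀ hreg₀)))
      norm_cast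
      omega
    -- reduction to the complete case
    intro R _ _ rs hlen hm hreg A _ _ _ e hdim
    have hI : Ideal.ofList rs ≠ ⊤ := ofList_ne_top hm
    haveI : IsLocalRing (R ⧸ Ideal.ofList rs) := RegLocal.isLocalRing_quot hI
    refine purityHolds_of_ringEquiv e.symm ?_
    let A' := R ⧸ Ideal.ofList rs
    have hne : maximalIdeal R ≠ ⊤ := (maximalIdeal.isMaximal R).ne_top
    have hne' : maximalIdeal A' ≠ ⊤ := (maximalIdeal.isMaximal A').ne_top
    haveI := RegLocal.isLocalRing_completion R (maximalIdeal R) hne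
    haveI := RegLocal.isLocalRing_completion A' (maximalIdeal A') hne'
    haveI := (RegLocal.isRegularLocalRing_completion_iff R (maximalIdeal R) hne).1 inferInstance
    haveI := RegLocal.faithfullyFlat_completion R (maximalIdeal R) hne
    haveI := RegLocal.faithfullyFlat_completion A' (maximalIdeal A') hne'
    let Rh := AdicCompletion (maximalIdeal R) R
    let Ah := AdicCompletion (maximalIdeal A') A'
    haveI : IsNoetherianRing Ah := RegLocal.isNoetherianRing_adicCompletion _ (maximalIdeal A').fg_of_isNoetherianRing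
    haveI : IsAdicComplete (maximalIdeal Rh) Rh := by
      rw [RegLocal.maximalIdeal_completion R _ hne]
      exact AdicCompletion.isAdicComplete_self _ (maximalIdeal R).fg_of_isNoetherianRing
    let rsh := rs.map (algebraMap R Rh)
    have hmh : ∀ r ∈ rsh, r ∈ maximalIdeal Rh := fun r hr => by
      obtain ⟨s, hs, rfl⟩ := List.mem_map.1 hr
      rw [RegLocal.maximalIdeal_completion R _ hne]
      exact Ideal.mem_map_of_mem _ (hm s hs)
    obtain ⟨eh, -⟩ := CMCat.exists_complQuotEquiv (A := R) (Ideal.ofList rs)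
    let e2 : Ah ≃+* Rh ⧸ Ideal.ofList rsh := eh.symm.trans (Ideal.quotEquivOfEq (Ideal.map_ofList _ _))
    haveI : IsLocalRing (Rh ⧸ Ideal.ofList rsh) := e2.isLocalRing
    have hdimh : ringKrullDim Ah = ringKrullDim A' := RegLocal.ringKrullDim_completion A' _ hne'
    have hAh : FEt.PurityHolds Ah := purityHolds_of_ringEquiv e2.symm (key Rh rsh (by simp [rsh, hlen]) hmh
      hreg.of_faithfullyFlat (by rw [← ringKrullDim_eq_of_ringEquiv e2, hdimh, ← ringKrullDim_eq_of_ringEquiv e]; exact hdim))
    exact purityHolds_of_completion A' hAh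

end Groth.Agent.HyperAlg
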