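import Groth.Agent.HyperAlg.Sys
import Mathlib.RingTheory.Idempotents

/-! Rings of compatible families on localisations. -/

set_option autoImplicit false
set_option linter.style.haveILetI false
set_option backward.isDefEq.respectTransparency false

universe u

noncomputable section

namespace Groth.Agent.HyperAlg

variable {A : Type u} [CommRing A] {ι : Type u} (g : ι → A)
  {R : Type u} [CommRing R] [Algebra A R] {R' : Type u} [CommRing R'] [Algebra A R']
  {R'' : Type u} [CommRing R''] [Algebra A R'']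

/-- The localisation at an element of the base. -/
abbrev Lof (R : Type u) [CommRing R] [Algebra A R] (a : A) : Type u := Localization.Away (algebraMap A R a)

theorem isUnit_lof (a : A) : IsUnit (algebraMap A (Lof R a) a) := by
  rw [IsScalarTower.algebraMap_apply A R (Lof R a)]
  exact IsLocalization.Away.algebraMap_isUnit (algebraMap A R a)

theorem isUnit_lof_comp (q : R →ₐ[A] R') (a b : A) (h : IsUnit (algebraMap A (Lof R' b) a)) :
    IsUnit (((algebraMap R' (Lof R' b)).comp q.toRingHom) (algebraMap A R a)) := by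
  show IsUnit (algebraMap R' (Lof R' b) (q (algebraMap A R a)))
  rw [q.commutes, ← IsScalarTower.algebraMap_apply]
  exact h

/-- The map of localisations. -/
def lofMap (q : R →ₐ[A] R') (a b : A) (h : IsUnit (algebraMap A (Lof R' b) a)) : Lof R a →ₐ[A] Lof R' b :=
  { toRingHom := IsLocalization.Away.lift (algebraMap A R a) (isUnit_lof_comp q a b h)
    commutes' := fun r => by
      show IsLocalization.Away.lift (algebraMap A R a) (isUnit_lof_comp q a b h) (algebraMap A (Lof R a) r) = _
      rw [IsScalarTower.algebraMap_apply A R (Lof R a), IsLocalization.Away.lift_eq]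
      show algebraMap R' (Lof R' b) (q (algebraMap A R r)) = _
      rw [q.commutes, ← IsScalarTower.algebraMap_apply] }

theorem lofMap_eq (q : R →ₐ[A] R') (a b : A) (h : IsUnit (algebraMap A (Lof R' b) a)) (x : R) :
    lofMap q a b h (algebraMap R (Lof R a) x) = algebraMap R' (Lof R' b) (q x) :=
  IsLocalization.Away.lift_eq (algebraMap A R a) (isUnit_lof_comp q a b h) x

theorem lof_num {a : A} (z : Lof R a) : ∃ (k : ℕ) (b : R), a ^ k • z = algebraMap R (Lof R a) b := by
  obtain ⟨k, b, hb⟩ := IsLocalization.Away.surj (algebraMap A R a) z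
  refine ⟨k, b, ?_⟩
  rw [Algebra.smul_def, map_pow, IsScalarTower.algebraMap_apply A R (Lof R a), mul_comm]
  exact hb

theorem lof_eq_zero {a : A} (x : R) :
    algebraMap R (Lof R a) x = 0 ↔ ∃ k : ℕ, a ^ k • x = 0 := by
  rw [IsLocalization.map_eq_zero_iff (Submonoid.powers (algebraMap A R a))]
  constructor
  · rintro ⟨⟨_, k, rfl⟩, h⟩
    exact ⟨k, by rw [Algebra.smul_def, map_pow]; exact h⟩
  · rintro ⟨k, h⟩
    exact ⟨⟨_, k, rfl⟩, by rw [Algebra.smul_def, map_pow] at h; exact h⟩

theorem lof_cancel {a : A} {z w : Lof R a} {k : ℕ} (h : a ^ k • z = a ^ k • w) : z = w := by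
  rw [Algebra.smul_def, Algebra.smul_def, map_pow] at h
  exact ((isUnit_lof a).pow k).mul_left_cancel h

theorem lofMap_ext {a b : A} (f₁ f₂ : Lof R a →ₐ[A] Lof R' b)
    (h : ∀ x, f₁ (algebraMap R _ x) = f₂ (algebraMap R _ x)) (z : Lof R a) : f₁ z = f₂ z := by
  obtain ⟨k, x, hx⟩ := lof_num z
  refine lof_cancel (k := k) ?_
  have h1 := congrArg f₁ hx
  have h2 := congrArg f₂ hx
  rw [map_smul] at h1 h2
  have : IsUnit (algebraMap A (Lof R' b) a) := by
    rw [← f₁.commutes]
    exact (isUnit_lof a).map f₁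
  rw [Algebra.smul_def, map_pow] at h1 h2
  have hz : f₁ z = f₂ z := (this.pow k).mul_left_cancel (h1.trans ((h x).trans h2.symm))
  rw [hz]

theorem lofMap_comp (q : R →ₐ[A] R') (q' : R' →ₐ[A] R'') (a b c : A) (h : IsUnit (algebraMap A (Lof R' b) a))
    (h' : IsUnit (algebraMap A (Lof R'' c) b)) (h'' : IsUnit (algebraMap A (Lof R'' c) a)) (z : Lof R a) :
    lofMap q' b c h' (lofMap q a b h z) = lofMap (q'.comp q) a c h'' z :=
  lofMap_ext ((lofMap q' b c h').comp (lofMap q a b h)) (lofMap (q'.comp q) a c h'') (fun x => by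
    rw [AlgHom.comp_apply, lofMap_eq, lofMap_eq, lofMap_eq]; rfl) z

/-- Elements of the kernel of a localised surjection are nilpotent if those of the surjection are. -/
theorem isNilpotent_of_lofMap_eq_zero (q : R →ₐ[A] R') (a : A) (hq : ∀ x, q x = 0 → IsNilpotent x) (z : Lof R a)
    (hz : lofMap q a a (isUnit_lof a) z = 0) : IsNilpotent z := by
  obtain ⟨k, x, hx⟩ := lof_num z
  have h := congrArg (lofMap q a a (isUnit_lof a)) hx
  rw [map_smul, hz, smul_zero, lofMap_eq] at h
  obtain ⟨l, hl⟩ := (lof_eq_zero (q x)).1 h.symm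
  rw [← map_smul] at hl
  have h2 : IsNilpotent (a ^ (l + k) • z) := by
    rw [pow_add, mul_smul, hx, Algebra.smul_def, IsScalarTower.algebraMap_apply A R (Lof R a), ← map_mul,
      ← Algebra.smul_def]
    exact (hq _ hl).map (algebraMap R (Lof R a))
  rw [Algebra.smul_def, map_pow] at h2
  obtain ⟨n, hn⟩ := h2
  rw [mul_pow] at hn
  exact ⟨n, ((((isUnit_lof a).pow (l + k)).pow n)).mul_right_eq_zero.1 hn⟩

theorem surjective_lofMap (q : R →ₐ[A] R') (a : A) (hq : Function.Surjective q) :
    Function.Surjective (lofMap q a a (isUnit_lof a)) := fun z => by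
  obtain ⟨k, x, hx⟩ := lof_num z
  obtain ⟨x, rfl⟩ := hq x
  refine ⟨(↑((isUnit_lof (R := R) a).pow k).unit⁻¹ : Lof R a) * algebraMap R _ x, lof_cancel (k := k) ?_⟩
  rw [hx, ← map_smul, Algebra.smul_def, map_pow, ← mul_assoc, IsUnit.mul_val_inv, one_mul, lofMap_eq]

theorem isUnit_left (a b : A) : IsUnit (algebraMap A (Lof R (a * b)) a) :=
  isUnit_of_mul_isUnit_left (y := algebraMap A (Lof R (a * b)) b) (by rw [← map_mul]; exact isUnit_lof _)

theorem isUnit_right (a b : A) : IsUnit (algebraMap A (Lof R (a * b)) b) :=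
  isUnit_of_mul_isUnit_right (x := algebraMap A (Lof R (a * b)) a) (by rw [← map_mul]; exact isUnit_lof _)

/-- Compatible families. -/
def cechSub (R : Type u) [CommRing R] [Algebra A R] : Subalgebra A (∀ j, Lof R (g j)) where
  carrier := {x | ∀ i j, lofMap (AlgHom.id A R) (g i) (g i * g j) (isUnit_left _ _) (x i) =
    lofMap (AlgHom.id A R) (g j) (g i * g j) (isUnit_right _ _) (x j)}
  mul_mem' {x y} hx hy i j := by simp only [Pi.mul_apply, map_mul, hx i j, hy i j]
  one_mem' i j := by rw [Pi.one_apply, Pi.one_apply, map_one, map_one]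
  add_mem' {x y} hx hy i j := by rw [Pi.add_apply, Pi.add_apply, map_add, map_add, hx i j, hy i j]
  zero_mem' i j := by rw [Pi.zero_apply, Pi.zero_apply, map_zero, map_zero]
  algebraMap_mem' a i j := by rw [Pi.algebraMap_apply, Pi.algebraMap_apply, AlgHom.commutes, AlgHom.commutes]

/-- The canonical map to compatible families. -/
def toCech (R : Type u) [CommRing R] [Algebra A R] : R →ₐ[A] cechSub g R :=
  (AlgHom.pi (R := A) (A := fun j => Lof R (g j)) fun j => IsScalarTower.toAlgHom A R (Lof R (g j))).codRestrict _ fun x i j => by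
    show lofMap (AlgHom.id A R) _ _ _ (algebraMap R _ x) = lofMap (AlgHom.id A R) _ _ _ (algebraMap R _ x)
    rw [lofMap_eq, lofMap_eq]

theorem toCech_apply (x : R) (j : ι) : (toCech g R x).1 j = algebraMap R (Lof R (g j)) x := rfl

theorem cech_torsion [Finite ι] {x : cechSub g R} {j : ι} (h : x.1 j = 0) : ∃ k : ℕ, g j ^ k • x = 0 := by
  classical
  haveI := Fintype.ofFinite ι
  have : ∀ i, ∃ k : ℕ, g j ^ k • x.1 i = 0 := fun i => by
    have h0 := x.2 i j
    rw [h, map_zero] at h0
    obtain ⟨m, r, hr⟩ := lof_num (x.1 i)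
    have h1 := congrArg (lofMap (AlgHom.id A R) (g i) (g i * g j) (isUnit_left _ _)) hr
    rw [map_smul, h0, smul_zero, lofMap_eq] at h1
    obtain ⟨k, hk⟩ := (lof_eq_zero _).1 h1.symm
    refine ⟨k, lof_cancel (k := m + k) ?_⟩
    rw [smul_zero, pow_add, mul_smul, ← mul_smul (g i ^ k) (g j ^ k), ← mul_pow, smul_comm, hr, Algebra.smul_def,
      IsScalarTower.algebraMap_apply A R (Lof R (g i)), ← map_mul, ← Algebra.smul_def]
    rw [show (g i * g j) ^ k • r = 0 from hk, map_zero]
  choose k hk using this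
  refine ⟨Finset.univ.sup k, Subtype.ext (funext fun i => ?_)⟩
  show g j ^ Finset.univ.sup k • x.1 i = 0
  rw [← Nat.sub_add_cancel (Finset.le_sup (f := k) (Finset.mem_univ i)), pow_add, mul_smul, hk, smul_zero]

theorem cech_num [Finite ι] (j : ι) (x : cechSub g R) : ∃ (k : ℕ) (b : R), toCech g R b = g j ^ k • x := by
  obtain ⟨k, b, hb⟩ := lof_num (x.1 j)
  obtain ⟨l, hl⟩ := cech_torsion g (x := toCech g R b - g j ^ k • x) (j := j) (sub_eq_zero.2 hb.symm)
  exact ⟨l + k, g j ^ l • b, by rw [map_smul, pow_add, mul_smul, ← sub_eq_zero, ← smul_sub, hl]⟩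

theorem toCech_eq_zero {b : R} (h : toCech g R b = 0) (j : ι) : ∃ k : ℕ, g j ^ k • b = 0 :=
  (lof_eq_zero b).1 (congrFun (congrArg Subtype.val h) j)

theorem toCech_smul_eq_zero [Finite ι] {b : R} (j : ι) {k : ℕ} (h : g j ^ k • b = 0) :
    (toCech g R b).1 j = 0 := (lof_eq_zero b).2 ⟨k, h⟩

theorem isClosedMod_cech [IsNoetherianRing A] : IsClosedMod g (cechSub g R) := by
  refine ⟨fun z hz => Subtype.ext (funext fun j => ?_), fun k y hy => ?_⟩
  · obtain ⟨k, hk⟩ := hz j
    exact lof_cancel (k := k) ((congrFun (congrArg Subtype.val hk) j).trans (smul_zero _).symm)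
  · choose w hw using fun j => (show ∃ w : Lof R (g j), g j ^ k • w = (y j).1 j from
      ⟨(↑((isUnit_lof (R := R) (g j)).pow k).unit⁻¹ : Lof R (g j)) * (y j).1 j, by
        rw [Algebra.smul_def, map_pow, ← mul_assoc, IsUnit.mul_val_inv, one_mul]⟩)
    have key : ∀ i j, g j ^ k • w i = (y j).1 i := fun i j => lof_cancel (k := k) (by
      rw [smul_comm, hw]
      exact congrFun (congrArg Subtype.val (hy i j)) i)
    refine ⟨⟨w, fun i j => lof_cancel (k := k) ?_⟩, fun j => Subtype.ext (funext fun i => key i j)⟩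
    have h1 := (y i).2 i j
    rw [← key i i, ← key j i, map_smul, map_smul] at h1
    have hu : IsUnit (algebraMap A (Lof R (g i * g j)) (g i) ^ k) := (isUnit_left _ _).pow k
    rw [Algebra.smul_def, Algebra.smul_def, map_pow] at h1
    rw [hu.mul_left_cancel h1]

/-- Functoriality of compatible families. -/
def cechMap (q : R →ₐ[A] R') : cechSub g R →ₐ[A] cechSub g R' :=
  ((AlgHom.pi (R := A) (A := fun j => Lof R' (g j)) fun j => (lofMap q (g j) (g j) (isUnit_lof _)).comp
    ((Pi.evalAlgHom A (fun j => Lof R (g j)) j).comp (cechSub g R).val))).codRestrict _ fun x i j => by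
    show lofMap (AlgHom.id A R') _ _ _ (lofMap q (g i) (g i) (isUnit_lof _) (x.1 i)) = lofMap (AlgHom.id A R') _ _ _ (lofMap q (g j) (g j) (isUnit_lof _) (x.1 j))
    rw [lofMap_comp q (AlgHom.id A R') _ _ _ (isUnit_lof _) (isUnit_left _ _) (isUnit_left _ _),
      lofMap_comp q (AlgHom.id A R') _ _ _ (isUnit_lof _) (isUnit_right _ _) (isUnit_right _ _)]
    have h1 := congrArg (lofMap q (g i * g j) (g i * g j) (isUnit_lof _)) (x.2 i j)
    rw [lofMap_comp (AlgHom.id A R) q _ _ _ (isUnit_left _ _) (isUnit_lof _) (isUnit_left _ _),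
      lofMap_comp (AlgHom.id A R) q _ _ _ (isUnit_right _ _) (isUnit_lof _) (isUnit_right _ _)] at h1
    simp only [AlgHom.comp_id, AlgHom.id_comp] at h1 ⊢
    exact h1

theorem cechMap_apply (q : R →ₐ[A] R') (x : cechSub g R) (j : ι) :
    (cechMap g q x).1 j = lofMap q (g j) (g j) (isUnit_lof _) (x.1 j) := rfl

theorem cechMap_toCech (q : R →ₐ[A] R') (b : R) : cechMap g q (toCech g R b) = toCech g R' (q b) :=
  Subtype.ext (funext fun j => lofMap_eq q _ _ (isUnit_lof _) b)

/-- Idempotents lift uniquely along nilpotent thickenings. -/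
theorem exists_idem_lift (q : R →ₐ[A] R') (hq : Function.Surjective q) (hn : ∀ x, q x = 0 → IsNilpotent x)
    (e : cechSub g R') (he : IsIdempotentElem e) :
    ∃ e' : cechSub g R, IsIdempotentElem e' ∧ cechMap g q e' = e := by
  choose w hw hwe using fun j => exists_isIdempotentElem_eq_of_ker_isNilpotent
    (lofMap q (g j) (g j) (isUnit_lof _)).toRingHom (fun z hz => isNilpotent_of_lofMap_eq_zero q _ hn z hz) (e.1 j)
    (surjective_lofMap q _ hq _) (congrFun (congrArg Subtype.val he) j)
  refine ⟨⟨w, fun i j => ?_⟩, Subtype.ext (funext hw), Subtype.ext (funext hwe)⟩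
  refine eq_of_isNilpotent_sub_of_isIdempotentElem ((hw i).map _) ((hw j).map _)
    (isNilpotent_of_lofMap_eq_zero q _ hn _ ?_)
  rw [map_sub, sub_eq_zero, lofMap_comp (AlgHom.id A R) q _ _ _ (isUnit_left _ _) (isUnit_lof _) (isUnit_left _ _),
    lofMap_comp (AlgHom.id A R) q _ _ _ (isUnit_right _ _) (isUnit_lof _) (isUnit_right _ _)]
  have h1 := e.2 i j
  rw [← show lofMap q (g i) (g i) (isUnit_lof _) (w i) = e.1 i from hwe i,
    ← show lofMap q (g j) (g j) (isUnit_lof _) (w j) = e.1 j from hwe j,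
    lofMap_comp q (AlgHom.id A R') _ _ _ (isUnit_lof _) (isUnit_left _ _) (isUnit_left _ _),
    lofMap_comp q (AlgHom.id A R') _ _ _ (isUnit_lof _) (isUnit_right _ _) (isUnit_right _ _)] at h1
  simp only [AlgHom.comp_id, AlgHom.id_comp] at h1 ⊢
  exact h1

end Groth.Agent.HyperAlg
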