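import Groth.Agent.PuncSecLib.TowerLim
import Groth.Agent.PuncSecLib.LocFree
import Groth.Agent.PuncSecLib.Principal

/-! Modules which are their own sections on a punctured spectrum. -/

set_option autoImplicit false
set_option linter.style.haveILetI false
set_option backward.isDefEq.respectTransparency false
set_option backward.isDefEq.respectTransparency.types false

universe u

open CategoryTheory AlgebraicGeometry TopologicalSpace

noncomputable section

namespace Groth.Agent.HyperAlg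

open PuncSecLib

variable {A : Type u} [CommRing A] [IsNoetherianRing A] {ι : Type u} (g : ι → A)

local notation "𝔤" => Ideal.span (Set.range g)
local notation "𝐔" => LocCoh.puncturedOpen A (Ideal.span (Set.range g))

omit [IsNoetherianRing A] in
theorem loc_of_gen {P : A → Prop} (h : ∀ j, ∃ k, P (g j ^ k)) : Loc 𝔤 P := fun p hp => by
  obtain ⟨_, ⟨j, rfl⟩, hj⟩ := Set.not_subset.1 (fun hc : Set.range g ⊆ p.asIdeal => hp (Ideal.span_le.2 hc))
  obtain ⟨k, hk⟩ := h j
  exact ⟨g j ^ k, fun hc => hj (p.2.mem_of_pow_mem k hc), hk⟩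

theorem cokTors_of_gen {M N : Type u} [AddCommGroup M] [Module A M] [AddCommGroup N] [Module A N] {φ : M →ₗ[A] N}
    (h : ∀ j y, ∃ k, g j ^ k • y ∈ LinearMap.range φ) : CokTors 𝔤 φ :=
  cokTors_of_loc fun y => loc_of_gen g fun j => h j y

/-- The module equals its sections: separated and glueable for powers of the generators. -/
structure IsClosedMod (M : Type u) [AddCommGroup M] [Module A M] : Prop where
  sep : ∀ z : M, (∀ j, ∃ k, g j ^ k • z = 0) → z = 0
  glue : ∀ (k : ℕ) (y : ι → M), (∀ i j, g j ^ k • y i = g i ^ k • y j) → ∃ x, ∀ j, g j ^ k • x = y j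

theorem bijective_υ {M : Type u} [AddCommGroup M] [Module A M] (h : IsClosedMod g M) :
    Function.Bijective (υ 𝐔 M) := by
  have hinj : Function.Injective (υ 𝐔 M) := (injective_iff_map_eq_zero _).2 fun z hz => h.sep z fun j => by
    obtain ⟨n, hn⟩ := (υ_eq_zero_iff z).1 hz
    exact ⟨n, hn _ (Ideal.pow_mem_pow (Ideal.subset_span (Set.mem_range_self j)) n)⟩
  refine ⟨hinj, fun s => ?_⟩
  obtain ⟨n, hn⟩ := cokTors_υ (𝔞 := Ideal.span (Set.range g)) s
  choose y hy using fun j => hn _ (Ideal.pow_mem_pow (Ideal.subset_span (Set.mem_range_self j)) n)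
  obtain ⟨x, hx⟩ := h.glue n y fun i j => hinj (by rw [map_smul, map_smul, hy, hy, smul_comm])
  refine ⟨x, sub_eq_zero.1 (eq_zero_of_loc (loc_of_gen g fun j => ⟨n, ?_⟩))⟩
  rw [smul_sub, ← map_smul, hx j, hy j, sub_self]

/-- The comparison with sections. -/
def secEquiv {M : Type u} [AddCommGroup M] [Module A M] (h : IsClosedMod g M) :
    M ≃ₗ[A] Γp 𝔤 ((tR 𝐔).obj (ModuleCat.of A M)) :=
  LinearEquiv.ofBijective (υ 𝐔 M) (bijective_υ g h)

/-- A finite submodule with the same localizations gives finiteness. -/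
theorem finite_of_submodule {M : Type u} [AddCommGroup M] [Module A M] (h : IsClosedMod g M) (N : Submodule A M)
    [Module.Finite A N] (hN : ∀ j z, ∃ k, g j ^ k • z ∈ N) (hH : Module.Finite A (LocCoh.H 𝔤 1 N)) :
    Module.Finite A M := by
  haveI := isIso_tR (𝔞 := Ideal.span (Set.range g)) (φ := N.subtype) Subtype.val_injective
    (cokTors_of_gen g fun j y => (hN j y).imp fun k hk => ⟨⟨_, hk⟩, rfl⟩)
  haveI := finite_sec (𝔞 := Ideal.span (Set.range g)) (↥N) hH
  exact Module.Finite.equiv (((χ 𝐔 (↥N)).trans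
    ((ΓU 𝐔).mapIso (asIso ((tR 𝐔).map (ModuleCat.ofHom N.subtype)))).toLinearEquiv).trans (secEquiv g h).symm)

/-- Finiteness of local cohomology of modules locally retracts of free modules over `A/I`. -/
theorem finite_H_of_split (I : Ideal A) (h₁ : Module.Finite A (LocCoh.H 𝔤 1 (A ⧸ I)))
    (h₂ : Module.Finite A (LocCoh.H 𝔤 2 (A ⧸ I))) (N : Type u) [AddCommGroup N] [Module A N] [Module.Finite A N]
    (hs : ∀ j, ∃ (r k : ℕ) (α : N →ₗ[A] Fin r → A ⧸ I) (β : (Fin r → A ⧸ I) →ₗ[A] N),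
      ∀ m, β (α m) = g j ^ k • m) (i : ℕ) (hi : i ≤ 2) : Module.Finite A (LocCoh.H 𝔤 i N) := by
  classical
  have hF : ∀ j ≤ 2, Module.Finite A (LocCoh.H 𝔤 j (A ⧸ I)) := fun j hj => by
    interval_cases j
    · exact finite_H_zero _
    · exact h₁
    · exact h₂
  have ht : ∀ j : Fin 3, ∃ t : ℕ, ∀ z : LocCoh.H 𝔤 (j : ℕ) (A ⧸ I), ∀ b ∈ 𝔤 ^ t, b • z = 0 := fun j => by
    haveI := hF j (by omega)
    exact exists_pow_kill _ _
  choose t ht using ht
  let T := Finset.univ.sup t
  let J : Ideal A :=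
    { carrier := {a | ∀ j ≤ 2, ∀ z : LocCoh.H 𝔤 j N, a • z = 0}
      add_mem' := fun ha hb j hj z => by rw [add_smul, ha j hj z, hb j hj z, add_zero]
      zero_mem' := fun j hj z => zero_smul A z
      smul_mem' := fun c a ha j hj z => by rw [smul_eq_mul, mul_smul, ha j hj z, smul_zero] }
  refine ((Groth.Agent.S0329.result A 𝔤 N 2).2 ⟨J, Ideal.span_le.2 ?_, fun j hj a ha z => ha j hj z⟩) i hi
  rintro _ ⟨j, rfl⟩
  obtain ⟨r, k, α, β, hβα⟩ := hs j
  refine ⟨T + k, fun l hl z => ?_⟩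
  rw [pow_add]
  exact smul_eq_zero_of_factor (M' := ModuleCat.of A (Fin r → A ⧸ I)) (ModuleCat.ofHom α) (ModuleCat.ofHom β) _ _ l
    (ModuleCat.hom_ext (LinearMap.ext hβα)) (fun w => smul_eq_zero_pi _ r _ l (fun v => ht ⟨l, by omega⟩ v _
      (Ideal.pow_le_pow_right (Finset.le_sup (f := t) (Finset.mem_univ _))
        (Ideal.pow_mem_pow (Ideal.subset_span (Set.mem_range_self j)) T))) w) z

end Groth.Agent.HyperAlg
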