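import Groth.Agent.FibreDepth.DepthAlong
import Groth.Agent.FibreDepth.Scheme
import Groth.Agent.FibreDepth.Loci
import Groth.Agent.DepthAlongLib.FlatInv
import Groth.Agent.S14105
import Groth.Agent.GeomRk.AnyExt
import Groth.Agent.ASp.GeomRedEt
import Groth.Agent.FlatLocus.SmoothFibres
import Groth.Agent.CILib.SmoothFlat

/-! Closed subsets of codimension two in every fibre of a smooth morphism: openness and base change. -/

set_option autoImplicit false
set_option linter.style.haveILetI false
set_option backward.isDefEq.respectTransparency false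
set_option maxHeartbeats 1000000

universe u

open CategoryTheory CategoryTheory.Limits AlgebraicGeometry IsLocalRing Topology

noncomputable section

namespace Groth.Agent.HyperAlg

/-- The depth of the local ring of the fibre. -/
abbrev fibDep {X S : Scheme.{u}} (f : X ⟶ S) (x : X) : ℕ∞ :=
  LocCoh.depth ((f.fiber (f.base x)).presheaf.stalk (f.asFiber x))
    ((f.fiber (f.base x)).presheaf.stalk (f.asFiber x))

/-- `Z` has codimension at least two in every fibre. -/
def FibTwo {X S : Scheme.{u}} (f : X ⟶ S) (Z : Set X) : Prop :=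
  ∀ (s : S) (z : f.fiber s), f.fiberι s z ∈ Z → (2 : WithBot ℕ∞) ≤ ringKrullDim ((f.fiber s).presheaf.stalk z)

/-- The points near which `Z` has depth at least two along the fibres. -/
abbrev goodSet {X S : Scheme.{u}} (f : X ⟶ S) (Z : Set X) : Set X :=
  {x | FibreDepth.DepthAlongGE f (fibDep f) Z ((2 : ℕ) : ℕ∞) x}

theorem dim_stalk_congr {Y : Scheme.{u}} {a b : Y} (h : a = b) :
    ringKrullDim (Y.presheaf.stalk a) = ringKrullDim (Y.presheaf.stalk b) := by subst h; rfl

theorem two_le_fibDep_iff {X S : Scheme.{u}} (f : X ⟶ S) [Smooth f] (x : X) :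
    ((2 : ℕ) : ℕ∞) ≤ fibDep f x ↔
      (2 : WithBot ℕ∞) ≤ ringKrullDim ((f.fiber (f.base x)).presheaf.stalk (f.asFiber x)) := by
  haveI : Smooth (f.fiberToSpecResidueField (f.base x)) :=
    MorphismProperty.pullback_snd (P := @Smooth) _ _ inferInstance
  haveI : IsRegularLocalRing ((f.fiber (f.base x)).presheaf.stalk (f.asFiber x)) :=
    ASp.isRegularLocalRing_stalk_of_smooth_field (f.fiberToSpecResidueField (f.base x)) (f.asFiber x)
  rw [← GeomRk.depth_eq_dim_of_regular]
  exact (WithBot.coe_le_coe (a := ((2 : ℕ) : ℕ∞))).symm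

/-- The good set is open. -/
theorem isOpen_goodSet {X S : Scheme.{u}} (f : X ⟶ S) [Smooth f] {Z : Set X} (hZ : IsClosed Z) :
    IsOpen (goodSet f Z) := by
  refine FibreDepth.isOpen_of_models (fun x => FibreDepth.exists_model_self f x) _ fun 𝔐 => ?_
  obtain ⟨U, hU, -, h⟩ := 𝔐.exists_depthAlong (fun x => Flat.stalkMap f x) Z hZ 2
  convert hU using 1
  ext q
  exact (h q).symm

/-- The dimension of the local ring of a fibre at a point, at the canonical point of the fibre. -/
theorem dim_fibre_congr {X S : Scheme.{u}} (f : X ⟶ S) {t : S} (w : f.fiber t) {z : X} (hw : f.fiberι t w = z) :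
    ringKrullDim ((f.fiber t).presheaf.stalk w) =
      ringKrullDim ((f.fiber (f.base z)).presheaf.stalk (f.asFiber z)) := by
  obtain rfl : f z = t := by
    have : z ∈ Set.range (f.fiberι t) := ⟨w, hw⟩
    rw [Scheme.Hom.range_fiberι] at this
    exact this
  exact dim_stalk_congr ((f.fiberι _).isEmbedding.injective (hw.trans (f.fiberι_asFiber z).symm))

/-- Good points of `Z` have codimension two in their fibres. -/
theorem fibTwo_inter_goodSet {X S : Scheme.{u}} (f : X ⟶ S) [Smooth f] (Z : Set X) :
    FibTwo f (Z ∩ goodSet f Z) := by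
  intro s z hz
  exact ((two_le_fibDep_iff f _).1 (hz.2 _ hz.1 (specializes_refl _) rfl)).trans_eq (dim_fibre_congr f z rfl).symm

theorem dim_le_of_flat {A B : Scheme.{u}} (r : A ⟶ B) [Flat r] (z : A) :
    ringKrullDim (B.presheaf.stalk (r z)) ≤ ringKrullDim (A.presheaf.stalk z) := by
  letI := (r.stalkMap z).hom.toAlgebra
  haveI : IsLocalHom (algebraMap (B.presheaf.stalk (r z)) (A.presheaf.stalk z)) :=
    inferInstanceAs (IsLocalHom (r.stalkMap z).hom)
  haveI : Module.Flat (B.presheaf.stalk (r z)) (A.presheaf.stalk z) := Flat.stalkMap r z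
  exact S14105.ringKrullDim_le_of_flat_local

/-- Codimension two in the fibres is stable under base change. -/
theorem fibTwo_of_isPullback {X S X' S' : Scheme.{u}} {p : X' ⟶ X} {f' : X' ⟶ S'} {f : X ⟶ S} {g : S' ⟶ S}
    (h : IsPullback p f' f g) {Z : Set X} (hZ : FibTwo f Z) : FibTwo f' (p ⁻¹' Z) := by
  intro s z hz
  let r : f'.fiber s ⟶ f.fiber (g s) := pullback.map f' (S'.fromSpecResidueField s) f
    (S.fromSpecResidueField (g s)) p (Spec.map (g.residueFieldMap s)) g h.w.symm (by simp)
  have hc : IsPullback r (f'.fiberToSpecResidueField s) (f.fiberToSpecResidueField (g s))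
      (Spec.map (g.residueFieldMap s)) := isPullback_fiberToSpecResidueField_of_isPullback h s
  haveI : Flat r := MorphismProperty.of_isPullback hc.flip (by
    rw [HasRingHomProperty.Spec_iff (P := @Flat)]
    algebraize [(g.residueFieldMap s).hom]
    exact Module.Flat.of_free)
  refine (hZ (g s) (r z) ?_).trans (dim_le_of_flat r z)
  have hr : r ≫ f.fiberι (g s) = f'.fiberι s ≫ p := pullback.lift_fst _ _ _
  rwa [← Scheme.Hom.comp_apply, hr, Scheme.Hom.comp_apply]

/-- Codimension two in the fibres is stable under composition with étale morphisms. -/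
theorem fibTwo_etale_comp {P X S : Scheme.{u}} (π : P ⟶ X) [Etale π] (f : X ⟶ S) {Z : Set X}
    (hZ : FibTwo f Z) : FibTwo (π ≫ f) (π ⁻¹' Z) := by
  intro s z hz
  have hpb := FlatLocus.isPullback_fiberMap π f s
  haveI : Etale (MoreMor.fiberMap π f s) := MorphismProperty.of_isPullback hpb ‹Etale π›
  refine (hZ s (MoreMor.fiberMap π f s z) ?_).trans (dim_le_of_flat _ z)
  rwa [← Scheme.Hom.comp_apply, ← hpb.w, Scheme.Hom.comp_apply]

/-- The image of a base change in which `Z` has codimension two lies in the good set. -/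
theorem mem_goodSet_of_isPullback {X S X' S' : Scheme.{u}} {p : X' ⟶ X} {f' : X' ⟶ S'} {f : X ⟶ S}
    {g : S' ⟶ S} (h : IsPullback p f' f g) [Smooth f] [IsLocallyNoetherian S] {Z : Set X}
    (hZ : FibTwo f' (p ⁻¹' Z)) (x : X') : p x ∈ goodSet f Z := by
  intro z hzZ hzx hfz
  rw [two_le_fibDep_iff]
  haveI : Smooth f' := MorphismProperty.of_isPullback h ‹Smooth f›
  let s := f' x
  let r : f'.fiber s ⟶ f.fiber (g s) := pullback.map f' (S'.fromSpecResidueField s) f
    (S.fromSpecResidueField (g s)) p (Spec.map (g.residueFieldMap s)) g h.w.symm (by simp)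
  have hc : IsPullback r (f'.fiberToSpecResidueField s) (f.fiberToSpecResidueField (g s))
      (Spec.map (g.residueFieldMap s)) := isPullback_fiberToSpecResidueField_of_isPullback h s
  haveI : Flat r := MorphismProperty.of_isPullback hc.flip (by
    rw [HasRingHomProperty.Spec_iff (P := @Flat)]
    algebraize [(g.residueFieldMap s).hom]
    exact Module.Flat.of_free)
  have hr : r ≫ f.fiberι (g s) = f'.fiberι s ≫ p := pullback.lift_fst _ _ _
  haveI : LocallyOfFiniteType (f.fiberToSpecResidueField (g s)) :=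
    MorphismProperty.pullback_snd (P := @LocallyOfFiniteType) _ _ inferInstance
  haveI : LocallyOfFiniteType (f'.fiberToSpecResidueField s) :=
    MorphismProperty.pullback_snd (P := @LocallyOfFiniteType) _ _ inferInstance
  haveI : IsLocallyNoetherian (f.fiber (g s)) :=
    LocallyOfFiniteType.isLocallyNoetherian (f.fiberToSpecResidueField (g s))
  haveI : IsLocallyNoetherian (f'.fiber s) :=
    LocallyOfFiniteType.isLocallyNoetherian (f'.fiberToSpecResidueField s)
  have hs : f z = g s := by
    rw [← Scheme.Hom.comp_apply f' g, ← h.w, Scheme.Hom.comp_apply]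
    exact hfz
  obtain ⟨z₁, hz₁⟩ : z ∈ Set.range (f.fiberι (g s)) := by rw [Scheme.Hom.range_fiberι]; exact hs
  have hx : f'.fiberι s (f'.asFiber x) = x := f'.fiberι_asFiber x
  have hz₁x : z₁ ⤳ r (f'.asFiber x) := by
    rw [← (f.fiberι (g s)).isEmbedding.isInducing.specializes_iff, hz₁, ← Scheme.Hom.comp_apply, hr,
      Scheme.Hom.comp_apply, hx]
    exact hzx
  obtain ⟨z', -, hrz', hmax⟩ := DepthAlongLib.exists_generic_lift r _ hz₁x
  have hgood := hZ s z' (by
    show p (f'.fiberι s z') ∈ Z
    rwa [← Scheme.Hom.comp_apply, ← hr, Scheme.Hom.comp_apply, hrz', hz₁])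
  have heq : ringKrullDim ((f'.fiber s).presheaf.stalk z') =
      ringKrullDim ((f.fiber (g s)).presheaf.stalk (r z')) := by
    letI := (r.stalkMap z').hom.toAlgebra
    haveI : IsLocalHom (algebraMap ((f.fiber (g s)).presheaf.stalk (r z')) ((f'.fiber s).presheaf.stalk z')) :=
      inferInstanceAs (IsLocalHom (r.stalkMap z').hom)
    haveI : Module.Flat ((f.fiber (g s)).presheaf.stalk (r z')) ((f'.fiber s).presheaf.stalk z') :=
      Flat.stalkMap r z'
    rw [CILib.ringKrullDim_eq_add_of_flat (R := (f.fiber (g s)).presheaf.stalk (r z'))]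
    let I := (maximalIdeal ((f.fiber (g s)).presheaf.stalk (r z'))).map (r.stalkMap z').hom
    have hI : I ≤ maximalIdeal _ := IsLocalRing.map_maximalIdeal_le (r.stalkMap z').hom
    haveI : Nontrivial (((f'.fiber s).presheaf.stalk z') ⧸ I) := Ideal.Quotient.nontrivial_iff.2 fun h =>
      (maximalIdeal.isMaximal _).ne_top (top_le_iff.1 (h ▸ hI))
    haveI : Ring.KrullDimLE 0 (((f'.fiber s).presheaf.stalk z') ⧸ I) :=
      Ring.krullDimLE_zero_iff.2 fun P hP => by
        have := hmax (P.comap (Ideal.Quotient.mk I)) (Ideal.IsPrime.comap _) (by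
          intro a ha
          show Ideal.Quotient.mk I a ∈ P
          rw [Ideal.Quotient.eq_zero_iff_mem.2 ha]; exact P.zero_mem)
        rw [← Ideal.map_comap_of_surjective (Ideal.Quotient.mk I) Ideal.Quotient.mk_surjective P, this]
        exact Ideal.IsMaximal.map_of_surjective_of_ker_le Ideal.Quotient.mk_surjective (by rw [Ideal.mk_ker]; exact hI)
    show ringKrullDim _ + ringKrullDim (((f'.fiber s).presheaf.stalk z') ⧸ I) = _
    rw [(Ring.krullDimLE_iff.1 ‹Ring.KrullDimLE 0 (((f'.fiber s).presheaf.stalk z') ⧸ I)›).antisymm ringKrullDim_nonneg_of_nontrivial]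
    exact add_zero _
  rw [heq, hrz'] at hgood
  exact hgood.trans_eq (dim_fibre_congr f z₁ hz₁)

end Groth.Agent.HyperAlg
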