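import Groth.Agent.HyperAlg.CodimTwo
import Groth.Agent.HyperAlg.SmoothPoint
import Groth.Agent.FPModelLib.ZModel
import Groth.Agent.FPModelLib.Affine
import Groth.Agent.PropPi1.LimEss
import Groth.Agent.PropPi1.Surj
import Groth.Agent.FlatSecLib.Glue

/-! Purity in relative codimension two over an affine base, by passage to a Noetherian base. -/

set_option autoImplicit false
set_option linter.style.haveILetI false
set_option backward.isDefEq.respectTransparency false
set_option backward.defeqAttrib.useBackward true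
set_option maxHeartbeats 1000000

universe u

open CategoryTheory CategoryTheory.Limits AlgebraicGeometry IsLocalRing Topology TopologicalSpace

noncomputable section

namespace Groth.Agent.HyperAlg

/-- Every finite étale cover of `U` extends to `X` and every function on `U` extends uniquely to `X`. -/
structure PureTop {X : Scheme.{u}} (U : X.Opens) : Prop where
  essSurj : (FEt.restrict U.ι).EssSurj
  bij : Function.Bijective U.ι.appTop

theorem opens_ι_appTop {X : Scheme.{u}} (U : X.Opens) :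
    U.ι.appTop = X.presheaf.map (homOfLE (le_top : U.ι ''ᵁ ⊤ ≤ (⊤ : X.Opens))).op := rfl

theorem bijective_map_of_eq {X : Scheme.{u}} {A A' B B' : X.Opens} (k : A' ⟶ A) (k' : B' ⟶ B) (h : A = B)
    (h' : A' = B') (hb : Function.Bijective (X.presheaf.map k.op)) :
    Function.Bijective (X.presheaf.map k'.op) := by
  subst h; subst h'
  rwa [Subsingleton.elim k' k]

/-- The Noetherian case. -/
theorem pureTop_of_noetherian {X S : Scheme.{u}} (f : X ⟶ S) [Smooth f] [IsLocallyNoetherian S] [IsAffine X]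
    (U : X.Opens) (h : FibTwo f (U : Set X)ᶜ) : PureTop U := by
  haveI : IsLocallyNoetherian X := LocallyOfFiniteType.isLocallyNoetherian f
  have key : ∀ x : X, x ∉ U → (2 : ℕ∞) ≤ LocCoh.depth (X.presheaf.stalk x) (X.presheaf.stalk x) ∧
      FEt.PurityHolds (X.presheaf.stalk x) := by
    intro x hx
    refine depth_purity_of_fibre_two f (by rw [Scheme.Hom.smoothLocus_eq_top]; trivial) ?_
    have transport : ∀ x' : X, x' = x → (2 : WithBot ℕ∞) ≤ ringKrullDim (X.presheaf.stalk x' ⧸
        (maximalIdeal (S.presheaf.stalk (f x'))).map (f.stalkMap x').hom) → (2 : WithBot ℕ∞) ≤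
        ringKrullDim (X.presheaf.stalk x ⧸ (maximalIdeal (S.presheaf.stalk (f x))).map (f.stalkMap x).hom) := by
      rintro x' rfl h
      exact h
    refine transport _ (f.fiberι_asFiber x) ?_
    rw [dim_fibre_stalk]
    exact h _ _ (by rw [Scheme.Hom.fiberι_asFiber]; exact hx)
  refine ⟨(isEquivalence_restrict_of_purity U (fun x hx => (key x hx).1) fun x hx => (key x hx).2).essSurj, ?_⟩
  rw [opens_ι_appTop]
  exact bijective_map_of_eq _ _ rfl (by simp)
    (FlatSecLib.bijective_restrict (𝟙 X) U (fun x hx => (key x hx).1) (isAffineOpen_top X))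

section Limit

variable {I : Type u} [SmallCategory I] [IsCofiltered I] (E : I ⥤ Scheme.{u}) (c : Cone E) (hc : IsLimit c)
  [∀ {i j : I} (f : i ⟶ j), IsAffineHom (E.map f)] [∀ i, CompactSpace (E.obj i)]
  [∀ i, QuasiSeparatedSpace (E.obj i)] (i : I) (W : (E.obj i).Opens)

include hc in
/-- Purity at all stages gives purity in the limit. -/
theorem pureTop_of_stages (hW : IsCompact (W : Set (E.obj i)))
    (h : ∀ j : Over i, PureTop (E.map j.hom ⁻¹ᵁ W)) : PureTop (c.π.app i ⁻¹ᵁ W) := by
  let E' := opensDiagram E i W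
  let c' : Cone E' := opensCone E c i W
  have hc' : IsLimit c' := isLimitOpensCone E c hc i W
  haveI : ∀ j, CompactSpace (E'.obj j) := fun j =>
    isCompact_iff_compactSpace.1 (QuasiCompact.isCompact_preimage (f := E.map j.hom) _ W.2 hW)
  haveI : ∀ j, QuasiSeparatedSpace (E'.obj j) := fun j =>
    QuasiSeparatedSpace.of_isOpenEmbedding (E.map j.hom ⁻¹ᵁ W).ι.isOpenEmbedding
  let U := c.π.app i ⁻¹ᵁ W
  have sq : ∀ j : Over i, c'.π.app j ≫ (E.map j.hom ⁻¹ᵁ W).ι = U.ι ≫ c.π.app j.left := fun j => by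
    simp [c', U]
  have nat : ∀ (j : Over i) (t : Γ(E.obj j.left, ⊤)),
      U.ι.appTop ((c.π.app j.left).appTop t) = (c'.π.app j).appTop ((E.map j.hom ⁻¹ᵁ W).ι.appTop t) := fun j t => by
    have h' := congrArg Scheme.Hom.appTop (sq j)
    rw [Scheme.Hom.comp_appTop, Scheme.Hom.comp_appTop] at h'
    exact (ConcreteCategory.congr_hom h'.symm t :)
  have natE : ∀ {k l : Over i} (a : l ⟶ k) (t : Γ(E.obj k.left, ⊤)),
      (E.map l.hom ⁻¹ᵁ W).ι.appTop ((E.map a.left).appTop t) =
        (E'.map a).appTop ((E.map k.hom ⁻¹ᵁ W).ι.appTop t) := fun {k l} a t => by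
    have h' : E'.map a ≫ (E.map k.hom ⁻¹ᵁ W).ι = (E.map l.hom ⁻¹ᵁ W).ι ≫ E.map a.left :=
      Scheme.Hom.resLE_comp_ι _ _
    have h'' := congrArg Scheme.Hom.appTop h'
    rw [Scheme.Hom.comp_appTop, Scheme.Hom.comp_appTop] at h''
    exact (ConcreteCategory.congr_hom h''.symm t :)
  refine ⟨⟨fun F => ?_⟩, ?_, fun s => ?_⟩
  · haveI : IsFinite F.hom := F.prop.1
    haveI : Etale F.hom := F.prop.2
    obtain ⟨j, Vi, vi, q, hfin, het, hpb⟩ := PropPi1.exists_finiteEtale_stage E' c' hc' (V := F.left) F.hom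
    haveI := (h j).essSurj
    let Vj : FEt.Cat (E'.obj j) := MorphismProperty.Over.mk ⊤ vi ⟨hfin, het⟩
    let Z := (FEt.restrict (E.map j.hom ⁻¹ᵁ W).ι).objPreimage Vj
    let φ := (FEt.restrict (E.map j.hom ⁻¹ᵁ W).ι).objObjPreimageIso Vj
    let ψ : (FEt.restrict (c'.π.app j)).obj Vj ≅ F :=
      MorphismProperty.Over.isoMk hpb.isoPullback.symm (by
        simp only [Iso.symm_hom]
        exact hpb.isoPullback_inv_snd)
    have he := congrArg (fun m => (FEt.restrict m).obj Z) (sq j)
    exact ⟨(FEt.restrict (c.π.app j.left)).obj Z,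
      ⟨((PropPi1.restrictCompIso U.ι (c.π.app j.left)).app Z).symm ≪≫ eqToIso he.symm ≪≫
        (PropPi1.restrictCompIso (c'.π.app j) (E.map j.hom ⁻¹ᵁ W).ι).app Z ≪≫
        (FEt.restrict (c'.π.app j)).mapIso φ ≪≫ ψ⟩⟩
  · intro s s' hs
    obtain ⟨k, t, ht⟩ := exists_appTop_π_eq_of_isLimit E c hc (s - s')
    -- move to a stage over `i`
    obtain ⟨m, a, b, -⟩ : ∃ (m : I) (_ : m ⟶ k) (_ : m ⟶ i), True :=
      ⟨IsCofiltered.min k i, IsCofiltered.minToLeft k i, IsCofiltered.minToRight k i, trivial⟩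
    let j : Over i := Over.mk b
    let t₁ : Γ(E.obj j.left, ⊤) := (E.map a).appTop t
    have ht₁ : (c.π.app j.left).appTop t₁ = s - s' := by
      rw [ht]
      show ((E.map a).appTop ≫ (c.π.app j.left).appTop) t = _
      rw [← Scheme.Hom.comp_appTop, c.w]
      rfl
    have h0 : (c'.π.app j).appTop ((E.map j.hom ⁻¹ᵁ W).ι.appTop t₁) = 0 := by
      rw [← nat, ht₁, map_sub, hs, sub_self]
    obtain ⟨l, g, hg⟩ := exists_appTop_map_eq_zero_of_isLimit E' c' hc' _ h0
    rw [← natE g t₁] at hg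
    have h1 : (E.map g.left).appTop t₁ = 0 := (h l).bij.1 (hg.trans (map_zero _).symm)
    rw [← sub_eq_zero, ← ht₁, ← c.w g.left, Scheme.Hom.comp_appTop, CommRingCat.comp_apply, h1, map_zero]
  · obtain ⟨j, t, ht⟩ := exists_appTop_π_eq_of_isLimit E' c' hc' s
    obtain ⟨t', ht'⟩ := (h j).bij.2 t
    exact ⟨(c.π.app j.left).appTop t', by rw [nat, ht', ← ht]⟩

end Limit

/-- The case of a quasi-compact open over an affine base. -/
theorem pureTop_of_qc {A : CommRingCat.{u}} {X : Scheme.{u}} [IsAffine X] (f : X ⟶ Spec A) [Smooth f]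
    (U : X.Opens) (hU : IsCompact (U : Set X)) (h : FibTwo f (U : Set X)ᶜ) : PureTop U := by
  let D := FPModelLib.zSys A
  let c : Cone D := FPModelLib.zCone A
  have hc : IsLimit c := FPModelLib.isLimitZCone A
  haveI hD : ∀ i, IsAffine (D.obj i) := fun i => FPModelLib.isAffine_zSys A i
  haveI hDN : ∀ i, AlgebraicGeometry.IsNoetherian (D.obj i) := fun i => FPModelLib.isNoetherian_zSys A i
  haveI hDm : ∀ {i j} (a : i ⟶ j), IsAffineHom (D.map a) := fun a => FPModelLib.isAffineHom_zSys A a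
  obtain ⟨i, U₀, f₀, q₀, hU₀, hlfp, hpb⟩ := FPModelLib.exists_affine_model D c hc (U := X) f
  obtain ⟨k, a, G, g, r, hr, hg⟩ := FPModelLib.attained_smooth D c hc i f₀ f q₀
    inferInstance inferInstance hlfp hpb ‹Smooth f›
  haveI := hg
  haveI : IsAffineHom g := MorphismProperty.of_isPullback hr (inferInstanceAs (IsAffineHom f₀))
  haveI : IsAffine G := isAffine_of_isAffineHom g
  let s : X ⟶ G := hr.lift q₀ (f ≫ c.π.app k) (by rw [Category.assoc, c.w]; exact hpb.w)
  have hs : IsPullback s f g (c.π.app k) :=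
    IsPullback.of_right (by rw [hr.lift_fst, c.w]; exact hpb) (hr.lift_snd _ _ _) hr
  let E := AffLim.baseChange D k g
  let c' : Cone E := FlatStage.vCone D c k g hs
  have hc' : IsLimit c' := (FlatStage.nonempty_isLimit_vCone D c k g hs hc).some
  haveI hEa : ∀ l, IsAffine (E.obj l) := fun l =>
    haveI : IsAffineHom (pullback.fst g (D.map l.hom)) :=
      MorphismProperty.pullback_fst (P := @IsAffineHom) g (D.map l.hom) inferInstance
    isAffine_of_isAffineHom (pullback.fst g (D.map l.hom))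
  haveI hEm : ∀ {l m : Over k} (b : l ⟶ m), IsAffineHom (E.map b) := fun {l m} b =>
    AffLim.isAffineHom_baseChange_map D k g b
  obtain ⟨l, W, hW, hWU⟩ := exists_preimage_eq E c' hc' U hU
  let fs : E.obj l ⟶ D.obj l.left := pullback.snd g (D.map l.hom)
  haveI : Smooth fs := MorphismProperty.pullback_snd (P := @Smooth) _ _ inferInstance
  haveI : IsLocallyNoetherian (E.obj l) := LocallyOfFiniteType.isLocallyNoetherian fs
  haveI : AlgebraicGeometry.IsNoetherian (E.obj l) := {}
  have hst : IsPullback (c'.π.app l) f fs (c.π.app l.left) := by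
    refine IsPullback.of_right ?_ (FlatStage.vMap_snd D c k g hs l) (IsPullback.of_hasPullback g (D.map l.hom))
    show IsPullback (FlatStage.vMap D c k g hs l ≫ _) f g _
    rw [FlatStage.vMap_fst, c.w]
    exact hs
  let Gd := goodSet fs (W : Set (E.obj l))ᶜ
  have hGd : IsOpen Gd := isOpen_goodSet fs W.2.isClosed_compl
  let C : Set (E.obj l) := (W : Set (E.obj l))ᶜ ∩ Gdᶜ
  have hC : IsConstructible C := by
    have hO : ∀ {s : Set (E.obj l)}, IsOpen s → IsConstructible s := fun hs =>
      IsRetrocompact.isConstructible hs (fun _ _ _ => NoetherianSpace.isCompact _)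
    exact (hO W.2).compl.inter (hO hGd).compl
  have hWU' : c'.π.app l ⁻¹' (W : Set (E.obj l))ᶜ = (U : Set X)ᶜ := by
    rw [Set.preimage_compl, ← hWU]; rfl
  have hempty : c'.π.app l ⁻¹' C = ∅ := by
    refine Set.eq_empty_iff_forall_notMem.2 fun x hx => hx.2 ?_
    refine mem_goodSet_of_isPullback hst ?_ x
    rw [hWU']
    exact h
  obtain ⟨m, φ, hφ⟩ := AffLim.exists_preimage_eq_empty E c' hc' hC hempty
  have key : c'.π.app m ⁻¹ᵁ (E.map φ ⁻¹ᵁ W) = U := by
    rw [← Scheme.Hom.comp_preimage, c'.w, hWU]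
  rw [← key]
  refine pureTop_of_stages E c' hc' m _ (QuasiCompact.isCompact_preimage (f := E.map φ) _ W.2 hW) fun j => ?_
  let b : j.left ⟶ l := j.hom ≫ φ
  let fb : E.obj j.left ⟶ D.obj j.left.left := pullback.snd g (D.map j.left.hom)
  haveI : Smooth fb := MorphismProperty.pullback_snd (P := @Smooth) _ _ inferInstance
  have hsq : IsPullback (E.map b) fb fs (D.map b.left) := by
    refine IsPullback.of_right ?_ (by simp [fb, fs, E]) (IsPullback.of_hasPullback g (D.map l.hom))
    rw [← D.map_comp, Over.w b]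
    show IsPullback (E.map b ≫ _) fb g _
    rw [show E.map b ≫ pullback.fst g (D.map l.hom) = pullback.fst g (D.map j.left.hom) by simp [E]]
    exact IsPullback.of_hasPullback g (D.map j.left.hom)
  rw [← Scheme.Hom.comp_preimage, ← E.map_comp]
  refine pureTop_of_noetherian fb _ fun t z hz => ?_
  refine fibTwo_of_isPullback hsq (fibTwo_inter_goodSet fs (W : Set (E.obj l))ᶜ) t z ⟨hz, ?_⟩
  by_contra hG
  refine Set.eq_empty_iff_forall_notMem.1 hφ (E.map j.hom (fb.fiberι t z)) ?_
  rw [Set.mem_preimage, ← Scheme.Hom.comp_apply, ← E.map_comp]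
  exact ⟨hz, hG⟩

end Groth.Agent.HyperAlg
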