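import Groth.Agent.HyperAlg.CodimTwoGlobal
import Groth.Agent.PurePairDesc.Extend
import Groth.Agent.FEtRegExt.Main

/-! Gluing local extensions of covers; purity in relative codimension two. -/

set_option autoImplicit false
set_option linter.style.haveILetI false
set_option backward.isDefEq.respectTransparency false
set_option backward.defeqAttrib.useBackward true
set_option maxHeartbeats 1600000

universe u

open CategoryTheory CategoryTheory.Limits AlgebraicGeometry Opposite TopologicalSpace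

noncomputable section

namespace Groth.Agent.HyperAlg

section Extend

variable {X : Scheme.{u}} (U : X.Opens) {Y : Scheme.{u}} (f : Y ⟶ U.toScheme) [IsFinite f] [Etale f]
  [QuasiCompact U.ι]

theorem exists_extension_of_basis (P : X.Opens → Prop) (hP : ∀ V, P V → IsAffineOpen V)
    (hbasis : ∀ (x : X) (W : X.Opens), x ∈ W → ∃ V : X.Opens, P V ∧ x ∈ V ∧ V ≤ W)
    (hfe : ∀ V : X.Opens, P V → ((f ≫ U.ι).app V).hom.Finite ∧ ((f ≫ U.ι).app V).hom.Etale) :
    ∃ (Z : Scheme.{u}) (π : Z ⟶ X) (j : Y ⟶ Z), IsFinite π ∧ Etale π ∧ IsPullback j f π U.ι := by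
  let g : Y ⟶ X := f ≫ U.ι
  haveI : QuasiCompact g := inferInstanceAs (QuasiCompact (f ≫ U.ι))
  haveI : QuasiSeparated g := inferInstanceAs (QuasiSeparated (f ≫ U.ι))
  let π : g.normalization ⟶ X := g.fromNormalization
  -- on an affine open the integral closure is everything
  have hall : ∀ V : X.affineOpens, P V.1 → letI := (g.app V.1).hom.toAlgebra
      Function.Bijective (integralClosure Γ(X, V.1) Γ(Y, g ⁻¹ᵁ V.1)).val := fun V hV => by
    letI := (g.app V.1).hom.toAlgebra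
    haveI : Module.Finite Γ(X, V.1) Γ(Y, g ⁻¹ᵁ V.1) := (hfe V.1 hV).1
    exact ⟨Subtype.val_injective, fun b => ⟨⟨b, Algebra.IsIntegral.isIntegral b⟩, rfl⟩⟩
  have hdiag : ∀ V : X.affineOpens, P V.1 → (g.normalizationDiagramMap.app (op V.1)).hom.Finite ∧
      (g.normalizationDiagramMap.app (op V.1)).hom.Etale := fun V hV => by
    letI := (g.app V.1).hom.toAlgebra
    obtain ⟨h1, h2⟩ := hfe V.1 hV
    let e : integralClosure Γ(X, V.1) Γ(Y, g ⁻¹ᵁ V.1) ≃ₐ[Γ(X, V.1)] Γ(Y, g ⁻¹ᵁ V.1) :=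
      AlgEquiv.ofBijective _ (hall V hV)
    haveI : Module.Finite Γ(X, V.1) Γ(Y, g ⁻¹ᵁ V.1) := h1
    haveI : Algebra.Etale Γ(X, V.1) Γ(Y, g ⁻¹ᵁ V.1) := h2
    exact ⟨RingHom.finite_algebraMap.2 (Module.Finite.equiv e.symm.toLinearEquiv),
      RingHom.etale_algebraMap.2 (Algebra.Etale.of_equiv e.symm)⟩
  have hsup : ⨆ V : {V : X.affineOpens // P V.1}, (V.1.1 : X.Opens) = ⊤ := by
    refine top_le_iff.1 fun x _ => ?_
    obtain ⟨V, hV, hxV, -⟩ := hbasis x ⊤ trivial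
    exact Opens.mem_iSup.2 ⟨⟨⟨V, hP V hV⟩, hV⟩, hxV⟩
  have hloc : ∀ (Q : MorphismProperty Scheme.{u}) [IsZariskiLocalAtTarget Q],
      (∀ V : X.affineOpens, P V.1 → Q (Spec.map (g.normalizationDiagramMap.app (op V.1)))) → Q π := fun Q _ hQ => by
    rw [IsZariskiLocalAtTarget.iff_of_iSup_eq_top (P := Q) _ hsup]
    rintro ⟨V, hV⟩
    let e := IsOpenImmersion.isoOfRangeEq (π ⁻¹ᵁ V.1).ι (g.normalizationOpenCover.f V)
      (by simpa using congr($(g.fromNormalization_preimage V).1))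
    rw [← MorphismProperty.cancel_left_of_respectsIso Q e.inv,
      ← MorphismProperty.cancel_right_of_respectsIso Q _ V.2.isoSpec.hom]
    convert! hQ V hV
    rw [← cancel_mono V.2.fromSpec]
    simp [IsAffineOpen.isoSpec_hom, e, π, Scheme.Hom.ι_fromNormalization]
  haveI hπf : IsFinite π := hloc @IsFinite fun V hV => (IsFinite.SpecMap_iff _).2 (hdiag V hV).1
  haveI hπe : Etale π := hloc @Etale fun V hV => (HasRingHomProperty.Spec_iff (P := @Etale)).2 (hdiag V hV).2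
  refine ⟨g.normalization, π, g.toNormalization, hπf, hπe, ?_⟩
  let U' : g.normalization.Opens := π ⁻¹ᵁ U
  have hsrc : g.toNormalization ⁻¹ᵁ U' = ⊤ := by
    show (g.toNormalization ≫ π) ⁻¹ᵁ U = ⊤
    rw [Scheme.Hom.toNormalization_fromNormalization]
    exact top_le_iff.1 fun z _ => (f z).2
  have hiso : IsIso (g.toNormalization ∣_ U') := by
    let S := {V : X.affineOpens // P V.1 ∧ V.1 ≤ U}
    have hS : ⨆ V : S, U'.ι ⁻¹ᵁ (π ⁻¹ᵁ V.1.1) = ⊤ := by
      refine top_le_iff.1 fun z _ => ?_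
      obtain ⟨V, hV, hzV, hVU⟩ := hbasis (π z.1) U z.2
      exact Opens.mem_iSup.2 ⟨⟨⟨V, hP V hV⟩, hV, hVU⟩, hzV⟩
    rw [← MorphismProperty.isomorphisms.iff,
      IsZariskiLocalAtTarget.iff_of_iSup_eq_top (P := MorphismProperty.isomorphisms Scheme) _ hS]
    rintro ⟨V, hVP, hVU⟩
    have hle : π ⁻¹ᵁ V.1 ≤ U' := π.preimage_mono hVU
    rw [(MorphismProperty.isomorphisms Scheme).arrow_mk_iso_iff (morphismRestrictRestrict _ _ _)]
    have himg : U'.ι ''ᵁ (U'.ι ⁻¹ᵁ (π ⁻¹ᵁ V.1)) = π ⁻¹ᵁ V.1 := by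
      rw [Scheme.Hom.image_preimage_eq_opensRange_inf, U'.opensRange_ι]
      exact inf_eq_right.2 hle
    rw [himg, MorphismProperty.isomorphisms.iff]
    haveI : IsAffine (π ⁻¹ᵁ V.1 : g.normalization.Opens).toScheme := V.2.preimage π
    haveI : IsAffine (g.toNormalization ⁻¹ᵁ (π ⁻¹ᵁ V.1) : Y.Opens).toScheme := by
      show IsAffineOpen (g.toNormalization ⁻¹ᵁ (π ⁻¹ᵁ V.1))
      rw [← Scheme.Hom.comp_preimage, Scheme.Hom.toNormalization_fromNormalization]
      exact (V.2.preimage_of_isOpenImmersion U.ι (by rw [U.opensRange_ι]; exact hVU)).preimage f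
    have happ : IsIso (g.toNormalization.app (π ⁻¹ᵁ V.1)) := by
      rw [g.toNormalization_app_preimage V]
      letI := (g.app V.1).hom.toAlgebra
      haveI : IsIso (CommRingCat.ofHom (integralClosure Γ(X, V.1) Γ(Y, g ⁻¹ᵁ V.1)).val.toRingHom) :=
        (ConcreteCategory.isIso_iff_bijective _).2 (hall V hVP)
      refine @IsIso.comp_isIso _ _ _ _ _ _ _ inferInstance (@IsIso.comp_isIso _ _ _ _ _ _ _ this ?_)
      exact Functor.map_isIso _ _
    haveI : IsIso (g.toNormalization ∣_ π ⁻¹ᵁ V.1).appTop := by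
      rw [morphismRestrict_appTop]
      have e : π ⁻¹ᵁ V.1 = (π ⁻¹ᵁ V.1).ι ''ᵁ ⊤ := by simp
      have happ' : ∀ W, W = π ⁻¹ᵁ V.1 → IsIso (g.toNormalization.app W) := fun W hW => hW ▸ happ
      exact @IsIso.comp_isIso _ _ _ _ _ _ _ (happ' _ e.symm) (Functor.map_isIso _ _)
    exact isIso_of_isAffine_of_isIso_appTop _
  haveI : IsIso ((g.toNormalization ⁻¹ᵁ U').ι) := by
    rw [hsrc]; exact inferInstanceAs (IsIso (Scheme.topIso Y).hom)
  have hfac : g.toNormalization = inv (g.toNormalization ⁻¹ᵁ U').ι ≫ (g.toNormalization ∣_ U') ≫ U'.ι := by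
    rw [morphismRestrict_ι, IsIso.inv_hom_id_assoc]
  haveI : IsOpenImmersion g.toNormalization := by rw [hfac]; infer_instance
  refine (IsOpenImmersion.isPullback f g.toNormalization U.ι π
    (g.toNormalization_fromNormalization) ?_).flip
  rw [U.opensRange_ι]
  refine le_antisymm (fun z hz => ?_) ?_
  · refine ⟨inv (g.toNormalization ∣_ U') ⟨z, hz⟩ |>.1, ?_⟩
    have := congrArg (fun k : U'.toScheme ⟶ U'.toScheme => k ⟨z, hz⟩) (IsIso.inv_hom_id (g.toNormalization ∣_ U'))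
    simp only [Scheme.Hom.comp_apply] at this
    exact (morphismRestrict_base_coe _ _ _).symm.trans (congrArg Subtype.val this)
  · rintro _ ⟨z, rfl⟩
    show π (g.toNormalization z) ∈ U
    rw [← Scheme.Hom.comp_apply, Scheme.Hom.toNormalization_fromNormalization]
    exact (f z).2
where
  isIso_of_isAffine_of_isIso_appTop {A B : Scheme.{u}} (k : A ⟶ B) [IsAffine A] [IsAffine B] [IsIso k.appTop] :
      IsIso k := by
    have h := HasAffineProperty.iff_of_isAffine (P := MorphismProperty.isomorphisms Scheme.{u}) (f := k)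
    exact h.2 ⟨inferInstance, inferInstance⟩

end Extend

variable {X S : Scheme.{u}} (f : X ⟶ S)

/-- Functions on the preimage of `O` extend to a cover. -/
theorem bijective_app_of_range [Smooth f] (O : X.Opens) (h : FibTwo f (O : Set X)ᶜ) {Z Y : Scheme.{u}}
    (z : Z ⟶ X) [Etale z] (q : Y ⟶ Z) [IsOpenImmersion q] (hr : z ⁻¹' (O : Set X) = Set.range q) (V : Z.Opens) :
    Function.Bijective (q.app V) := by
  let e := IsOpenImmersion.isoOfRangeEq q (z ⁻¹ᵁ O).ι (by rw [Scheme.Opens.range_ι, ← hr]; rfl)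
  have he : e.hom ≫ (z ⁻¹ᵁ O).ι = q := IsOpenImmersion.isoOfRangeEq_hom_fac _ _ _
  have hb := bijective_app (z ≫ f) (z ⁻¹ᵁ O) (fibTwo_etale_comp z f h) V
  have key : ∀ q' : Y ⟶ Z, e.hom ≫ (z ⁻¹ᵁ O).ι = q' → Function.Bijective (q'.app V) := by
    rintro q' rfl
    rw [Scheme.Hom.comp_app]
    exact (ConcreteCategory.bijective_of_isIso (e.hom.app _)).comp hb
  exact key q he

/-- Maps of covers extend uniquely. -/
theorem existsUnique_hom [Smooth f] (O : X.Opens) (h : FibTwo f (O : Set X)ᶜ) {Z₁ Z₂ Y : Scheme.{u}}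
    (z₁ : Z₁ ⟶ X) (z₂ : Z₂ ⟶ X) [IsFinite z₁] [Etale z₁] [IsFinite z₂] [Etale z₂]
    (q₁ : Y ⟶ Z₁) (q₂ : Y ⟶ Z₂) [IsOpenImmersion q₁] (hw : q₁ ≫ z₁ = q₂ ≫ z₂)
    (h₁ : z₁ ⁻¹' (O : Set X) = Set.range q₁) :
    ∃! t : Z₁ ⟶ Z₂, t ≫ z₂ = z₁ ∧ q₁ ≫ t = q₂ := by
  have hb := bijective_app_of_range f O h z₁ q₁ h₁
  let w := pullback.fst z₁ z₂
  haveI : IsAffineHom w := MorphismProperty.pullback_fst (P := @IsAffineHom) z₁ z₂ inferInstance
  let s : Y ⟶ pullback z₁ z₂ := pullback.lift q₁ q₂ hw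
  have hs : s ≫ w = q₁ := pullback.lift_fst _ _ _
  obtain ⟨t, ht1, ht2⟩ := FEtLib.exists_section_descent hb w s hs
  refine ⟨t ≫ pullback.snd z₁ z₂, ⟨?_, ?_⟩, fun t' ⟨h1, h2⟩ => ?_⟩
  · rw [Category.assoc, ← pullback.condition, ← Category.assoc, ht1, Category.id_comp]
  · rw [← Category.assoc, ht2, pullback.lift_snd]
  · let t₂ : Z₁ ⟶ pullback z₁ z₂ := pullback.lift (𝟙 _) t' (by rw [Category.id_comp, h1])
    have e : t₂ = t := by
      refine Scheme.Cover.hom_ext Z₁.directedAffineCover _ _ fun V => ?_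
      refine (FEtLib.existsUnique_over_affine hb w s hs V.1 V.2).unique ⟨?_, ?_⟩ ⟨?_, ?_⟩
      · show (V.1.ι ≫ t₂) ≫ w = _
        rw [Category.assoc, pullback.lift_fst]; exact Category.comp_id _
      · show (q₁ ∣_ V.1) ≫ V.1.ι ≫ t₂ = _
        rw [← Category.assoc, morphismRestrict_ι, Category.assoc]
        congr 1
        apply pullback.hom_ext <;> simp [t₂, s, h2]
      · show (V.1.ι ≫ t) ≫ w = _
        rw [Category.assoc, ht1]; exact Category.comp_id _
      · show (q₁ ∣_ V.1) ≫ V.1.ι ≫ t = _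
        rw [← Category.assoc, morphismRestrict_ι, Category.assoc, ht2]
    rw [← e, pullback.lift_snd]

/-- Two extensions are uniquely isomorphic. -/
theorem exists_iso_codim [Smooth f] (O : X.Opens) (h : FibTwo f (O : Set X)ᶜ) {Z₁ Z₂ Y : Scheme.{u}}
    (z₁ : Z₁ ⟶ X) (z₂ : Z₂ ⟶ X) [IsFinite z₁] [Etale z₁] [IsFinite z₂] [Etale z₂]
    (q₁ : Y ⟶ Z₁) (q₂ : Y ⟶ Z₂) [IsOpenImmersion q₁] [IsOpenImmersion q₂] (hw : q₁ ≫ z₁ = q₂ ≫ z₂)
    (h₁ : z₁ ⁻¹' (O : Set X) = Set.range q₁) (h₂ : z₂ ⁻¹' (O : Set X) = Set.range q₂) :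
    ∃ t : Z₁ ⟶ Z₂, IsIso t ∧ t ≫ z₂ = z₁ ∧ q₁ ≫ t = q₂ ∧
      ∀ t' : Z₁ ⟶ Z₂, t' ≫ z₂ = z₁ → q₁ ≫ t' = q₂ → t' = t := by
  obtain ⟨t, ⟨ht1, ht2⟩, htu⟩ := existsUnique_hom f O h z₁ z₂ q₁ q₂ hw h₁
  obtain ⟨s, ⟨hs1, hs2⟩, -⟩ := existsUnique_hom f O h z₂ z₁ q₂ q₁ hw.symm h₂
  refine ⟨t, ⟨s, ?_, ?_⟩, ht1, ht2, fun t' a b => htu t' ⟨a, b⟩⟩
  · exact (existsUnique_hom f O h z₁ z₁ q₁ q₁ rfl h₁).unique ⟨by rw [Category.assoc, hs1, ht1],
      by rw [reassoc_of% ht2, hs2]⟩ ⟨Category.id_comp _, Category.comp_id _⟩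
  · exact (existsUnique_hom f O h z₂ z₂ q₂ q₂ rfl h₂).unique ⟨by rw [Category.assoc, ht1, hs1],
      by rw [reassoc_of% hs2, ht2]⟩ ⟨Category.id_comp _, Category.comp_id _⟩

variable (U : X.Opens)

/-- An extension over `A` from essential surjectivity over `A`. -/
theorem nonempty_ext (E : FEt.Cat U.toScheme) (A : X.Opens) [(FEt.restrict (A.ι ⁻¹ᵁ U).ι).EssSurj] :
    Nonempty (FEtRegExt.Ext U (E.hom ≫ U.ι) A) := by
  haveI : IsFinite E.hom := E.prop.1
  haveI : Etale E.hom := E.prop.2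
  let g := E.hom ≫ U.ι
  let a := A.ι
  let E₁ := (FEt.restrict (a ∣_ U)).obj E
  let Z₁ := (FEt.restrict (a ⁻¹ᵁ U).ι).objPreimage E₁
  let φ := (FEt.restrict (a ⁻¹ᵁ U).ι).objObjPreimageIso E₁
  haveI : IsIso φ.inv.left :=
    inferInstanceAs (IsIso ((MorphismProperty.Over.forget _ _ _ ⋙ Over.forget _).map φ.inv))
  let j₁ : E₁.left ⟶ Z₁.left := φ.inv.left ≫ pullback.fst Z₁.hom (a ⁻¹ᵁ U).ι
  have hj₁w : j₁ ≫ Z₁.hom = pullback.snd E.hom (a ∣_ U) ≫ (a ⁻¹ᵁ U).ι := by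
    have h : φ.inv.left ≫ pullback.snd Z₁.hom (a ⁻¹ᵁ U).ι = pullback.snd E.hom (a ∣_ U) :=
      CategoryTheory.Over.w φ.inv.hom
    simp only [j₁, Category.assoc]
    rw [pullback.condition, ← Category.assoc, h]
  haveI : IsOpenImmersion j₁ :=
    inferInstanceAs (IsOpenImmersion (φ.inv.left ≫ pullback.fst Z₁.hom (a ⁻¹ᵁ U).ι))
  have hj₁r : j₁.opensRange = Z₁.hom ⁻¹ᵁ (a ⁻¹ᵁ U) := by
    show (φ.inv.left ≫ pullback.fst Z₁.hom (a ⁻¹ᵁ U).ι).opensRange = _
    simp only [Scheme.Hom.opensRange_comp_of_isIso, Scheme.Hom.opensRange_pullbackFst,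
      Scheme.Opens.opensRange_ι]
  have s2 : IsPullback (pullback.fst E.hom (a ∣_ U)) (j₁ ≫ Z₁.hom) g a := by
    rw [hj₁w]
    exact (IsPullback.of_hasPullback E.hom (a ∣_ U)).paste_vert (isPullback_morphismRestrict a U)
  let e := (isPullback_morphismRestrict g A).flip.isoIsPullback _ _ s2
  have he : e.hom ≫ j₁ ≫ Z₁.hom = g ∣_ A := IsPullback.isoIsPullback_hom_snd _ _ _ _
  refine ⟨⟨Z₁.left, Z₁.hom, Z₁.prop.1, Z₁.prop.2, e.hom ≫ j₁, inferInstance, ?_, ?_⟩⟩
  · rw [Category.assoc]; exact he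
  · have : (e.hom ≫ j₁).opensRange = Z₁.hom ⁻¹ᵁ (a ⁻¹ᵁ U) := by
      rw [Scheme.Hom.opensRange_comp_of_isIso, hj₁r]
    exact (congrArg (fun o : Z₁.left.Opens => (o : Set Z₁.left)) this).symm

/-- Covers extend from a retrocompact open. -/
theorem essSurj_retrocompact [Smooth f] [QuasiCompact U.ι] (h : FibTwo f (U : Set X)ᶜ) :
    (FEt.restrict U.ι).EssSurj := by
  refine ⟨fun E => ?_⟩
  haveI : IsFinite E.hom := E.prop.1
  haveI : Etale E.hom := E.prop.2
  let g := E.hom ≫ U.ι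
  suffices hfe : ∀ W : X.Opens, IsSmall f W → (g.app W).hom.Finite ∧ (g.app W).hom.Etale by
    obtain ⟨Z, π, j, h1, h2, hpb⟩ := exists_extension_of_basis U E.hom (IsSmall f) (fun _ hV => hV.1)
      (fun x W hx => exists_small f hx) hfe
    exact ⟨MorphismProperty.Over.mk ⊤ π ⟨h1, h2⟩,
      ⟨MorphismProperty.Over.isoMk hpb.isoPullback.symm (by
        simp only [Iso.symm_hom]
        exact hpb.isoPullback_inv_snd)⟩⟩
  rintro W ⟨hW, T, hT, e⟩
  haveI : IsAffine W.toScheme := hW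
  haveI : IsAffine T.toScheme := hT
  haveI : Smooth (f.resLE T W e) := MorphismProperty.of_isPullback (P := @Smooth) (isPullback_resLE_small f e)
    inferInstance
  have hW2 := fibTwo_resLE f U h e
  haveI := essSurj_affine (f.resLE T W e) (W.ι ⁻¹ᵁ U) hW2
  obtain ⟨Ex⟩ := nonempty_ext U E W
  haveI := Ex.fin
  haveI := Ex.et
  haveI := Ex.open_q
  obtain ⟨hZa, hZf⟩ := (HasAffineProperty.iff_of_isAffine (P := @IsFinite) (f := Ex.z)).1 inferInstance
  haveI := hZa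
  have hZe : Ex.z.appTop.hom.Etale := (HasRingHomProperty.iff_of_isAffine (P := @Etale) (f := Ex.z)).1 inferInstance
  haveI : IsIso Ex.q.appTop := (ConcreteCategory.isIso_iff_bijective _).2
    (bijective_app_of_range (f.resLE T W e) (W.ι ⁻¹ᵁ U) hW2 Ex.z Ex.q Ex.range_q ⊤)
  have k1 : (g ∣_ W).appTop.hom.Finite := by
    rw [← Ex.w, Scheme.Hom.comp_appTop]
    exact (RingHom.finite_respectsIso.cancel_right_isIso _ _).mpr hZf
  have k2 : (g ∣_ W).appTop.hom.Etale := by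
    rw [← Ex.w, Scheme.Hom.comp_appTop]
    exact (RingHom.Etale.respectsIso.cancel_right_isIso _ _).mpr hZe
  show (g.app W).hom.Finite ∧ (g.app W).hom.Etale
  rw [morphismRestrict_appTop] at k1 k2
  haveI he : IsIso (E.left.presheaf.map (eqToHom (image_morphismRestrict_preimage g W ⊤)).op) := inferInstance
  have key : ∀ (W' : X.Opens), W' = W → (g.app W').hom.Finite → (g.app W').hom.Etale →
      (g.app W).hom.Finite ∧ (g.app W).hom.Etale := by
    rintro W' rfl hF hE; exact ⟨hF, hE⟩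
  exact key _ W.ι_image_top ((RingHom.finite_respectsIso.cancel_right_isIso _ _).mp k1)
    ((RingHom.Etale.respectsIso.cancel_right_isIso _ _).mp k2)

/-- Covers extend, on an affine scheme. -/
theorem essSurj_of_isAffine [Smooth f] [IsAffine X] (h : FibTwo f (U : Set X)ᶜ) : (FEt.restrict U.ι).EssSurj := by
  obtain ⟨U', hle, hc, h'⟩ := exists_compact_le f U h
  haveI : CompactSpace U'.toScheme := isCompact_iff_compactSpace.1 hc
  haveI : QuasiCompact U'.ι := quasiCompact_of_compactSpace U'.ι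
  haveI := essSurj_retrocompact f U' h'
  exact essSurj_of_le f U hle h'

/-- The comparison maps between extensions exist, uniquely, and are cartesian. -/
theorem exists_trans [Smooth f] (h2 : FibTwo f (U : Set X)ᶜ) {Y : Scheme.{u}} {g : Y ⟶ X} {A B : X.Opens}
    (h : A ≤ B) (EA : FEtRegExt.Ext U g A) (EB : FEtRegExt.Ext U g B) :
    ∃ t : EA.Z ⟶ EB.Z, IsPullback t EA.z EB.z (X.homOfLE h) ∧
      EA.q ≫ t = Y.homOfLE (g.preimage_mono h) ≫ EB.q ∧
      ∀ t' : EA.Z ⟶ EB.Z, t' ≫ EB.z = EA.z ≫ X.homOfLE h →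
        EA.q ≫ t' = Y.homOfLE (g.preimage_mono h) ≫ EB.q → t' = t := by
  let i := X.homOfLE h
  let z' := pullback.snd EB.z i
  haveI : IsFinite z' := MorphismProperty.pullback_snd (P := @IsFinite) _ _ EB.fin
  haveI : Etale z' := MorphismProperty.pullback_snd (P := @Etale) _ _ EB.et
  let q' : (g ⁻¹ᵁ A).toScheme ⟶ pullback EB.z i :=
    pullback.lift (Y.homOfLE (g.preimage_mono h) ≫ EB.q) (g ∣_ A) (by
      rw [← cancel_mono B.ι, Category.assoc, Category.assoc, Category.assoc, reassoc_of% EB.w,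
        morphismRestrict_ι, Scheme.homOfLE_ι_assoc, Scheme.homOfLE_ι, morphismRestrict_ι])
  haveI : IsOpenImmersion (q' ≫ pullback.fst EB.z i) := by rw [pullback.lift_fst]; infer_instance
  haveI : IsOpenImmersion q' := IsOpenImmersion.of_comp q' (pullback.fst EB.z i)
  have hr' : z' ⁻¹' (A.ι ⁻¹ᵁ U : Set A.toScheme) = Set.range q' := by
    ext w
    constructor
    · intro hw
      have hB : B.ι (EB.z (pullback.fst EB.z i w)) = A.ι (z' w) := by
        rw [← Scheme.Hom.comp_apply, ← Scheme.Hom.comp_apply, pullback.condition_assoc,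
          Scheme.homOfLE_ι, Scheme.Hom.comp_apply]
      have h1 : pullback.fst EB.z i w ∈ Set.range EB.q := by
        rw [← EB.range_q]
        change B.ι (EB.z (pullback.fst EB.z i w)) ∈ U
        rw [hB]; exact hw
      obtain ⟨y, hy⟩ := h1
      rw [← hy, ← Scheme.Hom.comp_apply EB.z, ← Scheme.Hom.comp_apply, reassoc_of% EB.w, morphismRestrict_ι,
        Scheme.Hom.comp_apply] at hB
      have hyA : g y.1 ∈ A := by rw [show g y.1 = _ from hB]; exact (z' w).2
      refine ⟨⟨y.1, hyA⟩, (pullback.fst EB.z i).isOpenEmbedding.injective ?_⟩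
      rw [← Scheme.Hom.comp_apply, pullback.lift_fst, ← hy, Scheme.Hom.comp_apply]
      congr 1
      apply (g ⁻¹ᵁ B).ι.isOpenEmbedding.injective
      rw [← Scheme.Hom.comp_apply, Scheme.homOfLE_ι]
      rfl
    · rintro ⟨y, rfl⟩
      have h2 : EA.q y ∈ EA.z ⁻¹' (A.ι ⁻¹ᵁ U : Set A.toScheme) := EA.range_q ▸ ⟨y, rfl⟩
      change EA.z (EA.q y) ∈ A.ι ⁻¹ᵁ U at h2
      change z' (q' y) ∈ A.ι ⁻¹ᵁ U
      rw [← Scheme.Hom.comp_apply, pullback.lift_snd]
      rwa [← Scheme.Hom.comp_apply, EA.w] at h2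
  obtain ⟨t₀, ht₀, ht1, ht2, ht3⟩ := exists_iso_codim (A.ι ≫ f) (A.ι ⁻¹ᵁ U) (fibTwo_open f h2 A) EA.z z' EA.q q'
    (by rw [EA.w, pullback.lift_snd]) EA.range_q hr'
  refine ⟨t₀ ≫ pullback.fst EB.z i, ?_, ?_, fun t' k1 k2 => ?_⟩
  · haveI := ht₀
    refine IsPullback.of_iso_pullback ⟨?_⟩ (asIso t₀) rfl ht1
    rw [Category.assoc, pullback.condition, ← ht1, Category.assoc]
  · rw [reassoc_of% ht2, pullback.lift_fst]
  · rw [← ht3 (pullback.lift t' EA.z k1) (pullback.lift_snd _ _ _) (by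
      apply pullback.hom_ext <;> simp [q', k2, EA.w]), pullback.lift_fst]

/-- Restriction to an open of relative codimension two is an equivalence. -/
theorem isEquivalence_of_fibTwo [Smooth f] (h : FibTwo f (U : Set X)ᶜ) : (FEt.restrict U.ι).IsEquivalence := by
  obtain ⟨hF, hFa⟩ := fullyFaithful f U h
  haveI : (FEt.restrict U.ι).EssSurj := by
    refine ⟨fun E => ?_⟩
    let g := E.hom ≫ U.ι
    have hE : ∀ A : X.AffineZariskiSite, Nonempty (FEtRegExt.Ext U g A.toOpens) := fun A => by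
      haveI : IsAffine A.toOpens.toScheme := A.2
      haveI := essSurj_of_isAffine (A.toOpens.ι ≫ f) (A.toOpens.ι ⁻¹ᵁ U) (fibTwo_open f h A.toOpens)
      exact nonempty_ext U E A.toOpens
    let Ex := fun A => (hE A).some
    have ht := fun (A B : X.AffineZariskiSite) (hAB : A ⟶ B) =>
      exists_trans f U h (Scheme.AffineZariskiSite.toOpens_mono (leOfHom hAB)) (Ex A) (Ex B)
    choose t ht1 ht2 ht3 using ht
    let F : X.AffineZariskiSite ⥤ Scheme.{u} :=
      { obj := fun A => (Ex A).Z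
        map := fun {A B} k => t A B k
        map_id := fun A => (ht3 A A (𝟙 A) (𝟙 _) (by simp) (by simp)).symm
        map_comp := fun {A B C} k k' => (ht3 A C (k ≫ k') _
          (by rw [Category.assoc, (ht1 B C k').w, ← Category.assoc, (ht1 A B k).w, Category.assoc,
            Scheme.homOfLE_homOfLE])
          (by rw [reassoc_of% ht2 A B k, ht2 B C k']; erw [Scheme.homOfLE_homOfLE_assoc]; rfl)).symm }
    let η : F ⟶ (Scheme.AffineZariskiSite.directedCover X).functorOfLocallyDirected :=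
      { app := fun A => (Ex A).z
        naturality := fun A B k => (ht1 A B k).w }
    let d : Scheme.Cover.RelativeGluingData (Scheme.AffineZariskiSite.directedCover X) :=
      { functor := F
        natTrans := η
        equifibered := fun {A B} k => ht1 A B k }
    obtain ⟨Z, p, j, h1, h2, sq⟩ := FEtRegExt.exists_glued_aux (U := U) (g := g) E.hom rfl d (fun A => (Ex A).q)
      (fun A => (Ex A).fin) (fun A => (Ex A).et) (fun A => (Ex A).open_q) (fun A => (Ex A).w)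
      (fun A => (Ex A).range_q) ht2
    exact ⟨MorphismProperty.Over.mk ⊤ p ⟨h1, h2⟩,
      ⟨MorphismProperty.Over.isoMk sq.isoPullback.symm sq.isoPullback_inv_snd⟩⟩
  exact Functor.IsEquivalence.mk

end Groth.Agent.HyperAlg
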