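import Groth.Agent.HyperAlg.CodimTwoAffine
import Groth.Agent.FEtLib.PushO
import Groth.Agent.PurePairDesc.Main

/-! Purity in relative codimension two over an arbitrary base. -/

set_option autoImplicit false
set_option linter.style.haveILetI false
set_option backward.isDefEq.respectTransparency false
set_option backward.defeqAttrib.useBackward true
set_option maxHeartbeats 1000000

universe u

open CategoryTheory CategoryTheory.Limits AlgebraicGeometry IsLocalRing Topology TopologicalSpace Opposite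

noncomputable section

namespace Groth.Agent.HyperAlg

variable {X S : Scheme.{u}} (f : X ⟶ S)

theorem fibTwo_mono {Z Z' : Set X} (h : Z' ⊆ Z) (hZ : FibTwo f Z) : FibTwo f Z' :=
  fun s z hz => hZ s z (h hz)

theorem fibTwo_open {U : X.Opens} (h : FibTwo f (U : Set X)ᶜ) (V : X.Opens) :
    FibTwo (V.ι ≫ f) ((V.ι ⁻¹ᵁ U : V.toScheme.Opens) : Set V.toScheme)ᶜ :=
  fibTwo_etale_comp V.ι f h

/-- A quasi-compact open, over an affine base. -/
theorem pureTop_of_isCompact [Smooth f] [IsAffine X] [IsAffine S] (U : X.Opens) (hU : IsCompact (U : Set X))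
    (h : FibTwo f (U : Set X)ᶜ) : PureTop U := by
  have sq : IsPullback (𝟙 X) (f ≫ S.isoSpec.hom) f S.isoSpec.inv :=
    IsPullback.of_horiz_isIso ⟨by simp⟩
  have h' := fibTwo_of_isPullback sq h
  exact pureTop_of_qc (f ≫ S.isoSpec.hom) U hU h'

/-- A quasi-compact open inside `U` still of codimension two. -/
theorem exists_compact_le [Smooth f] [CompactSpace X] (U : X.Opens) (h : FibTwo f (U : Set X)ᶜ) :
    ∃ U' : X.Opens, U' ≤ U ∧ IsCompact (U' : Set X) ∧ FibTwo f (U' : Set X)ᶜ := by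
  let ι := {U' : X.Opens // U' ≤ U ∧ IsCompact (U' : Set X)}
  let O : ι → Set X := fun i => (i.1 : Set X) ∪ goodSet f (i.1 : Set X)ᶜ
  have hO : ∀ i, IsOpen (O i) := fun i => i.1.2.union (isOpen_goodSet f i.1.2.isClosed_compl)
  have hcov : Set.univ ⊆ ⋃ i, O i := by
    intro x _
    rw [Set.mem_iUnion]
    by_cases hx : x ∈ U
    · obtain ⟨W, hW, hxW, hWU⟩ := exists_isAffineOpen_mem_and_subset (x := x) (U := U) hx
      exact ⟨⟨W, hWU, hW.isCompact⟩, Or.inl hxW⟩
    · let s := f x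
      haveI : QuasiCompact (S.fromSpecResidueField s) := ⟨fun V _ _ => (Set.toFinite _).isCompact⟩
      haveI : QuasiCompact (f.fiberι s) := MorphismProperty.pullback_fst (P := @QuasiCompact) _ _ inferInstance
      haveI : CompactSpace (f.fiber s) := QuasiCompact.compactSpace_of_compactSpace (f.fiberι s)
      haveI : LocallyOfFiniteType (f.fiberToSpecResidueField s) :=
        MorphismProperty.pullback_snd (P := @LocallyOfFiniteType) _ _ inferInstance
      haveI : IsLocallyNoetherian (f.fiber s) :=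
        LocallyOfFiniteType.isLocallyNoetherian (f.fiberToSpecResidueField s)
      haveI : AlgebraicGeometry.IsNoetherian (f.fiber s) := {}
      have hc : IsCompact ((f.fiberι s) ⁻¹' (U : Set X)) := NoetherianSpace.isCompact _
      obtain ⟨t, ht⟩ := hc.elim_finite_subcover (fun W : {W : X.Opens // W ≤ U ∧ IsAffineOpen W} =>
          (f.fiberι s) ⁻¹' (W.1 : Set X)) (fun W => W.1.2.preimage (f.fiberι s).continuous) (fun z hz => by
        obtain ⟨W, hW, hzW, hWU⟩ := exists_isAffineOpen_mem_and_subset (x := f.fiberι s z) (U := U) hz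
        exact Set.mem_iUnion.2 ⟨⟨W, hWU, hW⟩, hzW⟩)
      let U' : X.Opens := ⨆ W ∈ t, W.1
      have hU' : U' ≤ U := iSup₂_le fun W _ => W.2.1
      have hU'c : IsCompact (U' : Set X) := by
        simp only [U', Opens.coe_iSup]
        exact t.finite_toSet.isCompact_biUnion fun W _ => W.2.2.isCompact
      refine ⟨⟨U', hU', hU'c⟩, Or.inr fun z hz _ hzs => (two_le_fibDep_iff f z).2 ?_⟩
      obtain ⟨w, hw⟩ : z ∈ Set.range (f.fiberι s) := by rw [Scheme.Hom.range_fiberι]; exact hzs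
      rw [← dim_fibre_congr f w hw]
      refine h s w fun hwU => hz ?_
      obtain ⟨W, hWt, hwW⟩ := Set.mem_iUnion₂.1 (ht hwU)
      rw [← hw]
      exact Opens.mem_iSup.2 ⟨W, Opens.mem_iSup.2 ⟨hWt, hwW⟩⟩
  obtain ⟨t, ht⟩ := isCompact_univ.elim_finite_subcover O hO hcov
  let U' : X.Opens := ⨆ i ∈ t, i.1
  refine ⟨U', iSup₂_le fun i _ => i.2.1, ?_, ?_⟩
  · simp only [U', Opens.coe_iSup]
    exact t.finite_toSet.isCompact_biUnion fun i _ => i.2.2
  · refine fibTwo_mono f (Z := (U' : Set X)ᶜ ∩ goodSet f (U' : Set X)ᶜ) (fun z hz => ⟨hz, ?_⟩) (fibTwo_inter_goodSet f (U' : Set X)ᶜ)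
    obtain ⟨i, hi, hzi⟩ := Set.mem_iUnion₂.1 (ht (Set.mem_univ z))
    have hle : i.1 ≤ U' := le_iSup₂ (f := fun (j : ι) (_ : j ∈ t) => j.1) i hi
    rcases hzi with hzi | hzi
    · exact absurd (hle hzi) hz
    · exact fun w hw => hzi w fun hwi => hw (hle hwi)

/-- Functions extend, over an affine base. -/
theorem bijective_appTop_ι [Smooth f] [IsAffine X] [IsAffine S] (U : X.Opens) (h : FibTwo f (U : Set X)ᶜ) :
    Function.Bijective U.ι.appTop := by
  obtain ⟨U', hle, hc, h'⟩ := exists_compact_le f U h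
  have hb := (pureTop_of_isCompact f U' hc h').bij
  have hfac : ∀ a : Γ(X, ⊤), U'.ι.appTop a = (X.homOfLE hle).appTop (U.ι.appTop a) := fun a => by
    rw [← CommRingCat.comp_apply, ← Scheme.Hom.comp_appTop, Scheme.homOfLE_ι]
  refine ⟨fun a b hab => hb.1 (by rw [hfac, hfac, hab]), fun s => ?_⟩
  obtain ⟨a, ha⟩ := hb.2 ((X.homOfLE hle).appTop s)
  refine ⟨a, ?_⟩
  rw [← sub_eq_zero]
  have hd : (X.homOfLE hle).appTop (U.ι.appTop a - s) = 0 := by
    rw [map_sub, ← hfac, ha, sub_self]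
  generalize U.ι.appTop a - s = d at hd
  refine TopCat.Sheaf.eq_of_locally_eq' U.toScheme.sheaf (fun W : U.toScheme.affineOpens => W.1) ⊤
    (fun W => homOfLE le_top) (iSup_affineOpens_eq_top _).ge d 0 fun W => ?_
  rw [map_zero]
  haveI : IsAffine W.1.toScheme := W.2
  let j : W.1.toScheme ⟶ X := W.1.ι ≫ U.ι
  have hjc : IsCompact ((j ⁻¹ᵁ U' : W.1.toScheme.Opens) : Set W.1.toScheme) :=
    QuasiCompact.isCompact_preimage (f := j) _ U'.2 hc
  have hbW := (pureTop_of_isCompact (j ≫ f) (j ⁻¹ᵁ U') hjc (fibTwo_etale_comp j f h')).bij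
  have hW0 : W.1.ι.appTop d = 0 := by
    refine hbW.1 ?_
    rw [map_zero]
    let m : (j ⁻¹ᵁ U').toScheme ⟶ U'.toScheme := j ∣_ U'
    have hm : m ≫ X.homOfLE hle = (j ⁻¹ᵁ U').ι ≫ W.1.ι := by
      rw [← cancel_mono U.ι, Category.assoc, Scheme.homOfLE_ι, Category.assoc]
      exact morphismRestrict_ι j U'
    have h2 := congrArg (fun k : (j ⁻¹ᵁ U').toScheme ⟶ U.toScheme => k.appTop d) hm
    simp only [Scheme.Hom.comp_appTop, CommRingCat.comp_apply, hd, map_zero] at h2
    exact h2.symm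
  rw [opens_ι_appTop] at hW0
  have hres : ∀ (A B : U.toScheme.Opens) (k : A ⟶ ⊤) (k' : B ⟶ ⊤), A = B →
      U.toScheme.presheaf.map k.op d = 0 → U.toScheme.presheaf.map k'.op d = 0 := by
    rintro A B k k' rfl hk
    rwa [Subsingleton.elim k' k]
  exact hres _ _ _ _ (Scheme.Opens.ι_image_top _) hW0

variable (U : X.Opens)

/-- An affine open mapping into an affine open of the base. -/
def IsSmall (V : X.Opens) : Prop := IsAffineOpen V ∧ ∃ T : S.Opens, IsAffineOpen T ∧ V ≤ f ⁻¹ᵁ T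

theorem exists_small {x : X} {W : X.Opens} (hx : x ∈ W) : ∃ V : X.Opens, IsSmall f V ∧ x ∈ V ∧ V ≤ W := by
  obtain ⟨T, hT, hxT, -⟩ := exists_isAffineOpen_mem_and_subset (X := S) (x := f x) (U := ⊤) trivial
  obtain ⟨V, hV, hxV, hVW⟩ := exists_isAffineOpen_mem_and_subset (x := x) (U := W ⊓ f ⁻¹ᵁ T) ⟨hx, hxT⟩
  exact ⟨V, ⟨hV, T, hT, fun z hz => (hVW hz).2⟩, hxV, fun z hz => (hVW hz).1⟩

theorem isPullback_resLE_small {V : X.Opens} {T : S.Opens} (e : V ≤ f ⁻¹ᵁ T) :
    IsPullback (𝟙 V.toScheme) (f.resLE T V e) (V.ι ≫ f) T.ι :=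
  IsPullback.of_horiz_isIso_mono ⟨by rw [Category.id_comp, Scheme.Hom.resLE_comp_ι]⟩

theorem res_res {A B C : X.Opens} (h₁ : B ≤ A) (h₂ : C ≤ B) (s : Γ(X, A)) :
    X.presheaf.map (homOfLE h₂).op (X.presheaf.map (homOfLE h₁).op s) =
      X.presheaf.map (homOfLE (h₂.trans h₁)).op s := by
  rw [← CommRingCat.comp_apply, ← Functor.map_comp]
  rfl

theorem fibTwo_resLE (h : FibTwo f (U : Set X)ᶜ) {V : X.Opens} {T : S.Opens} (e : V ≤ f ⁻¹ᵁ T) :
    FibTwo (f.resLE T V e) ((V.ι ⁻¹ᵁ U : V.toScheme.Opens) : Set V.toScheme)ᶜ :=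
  fibTwo_of_isPullback (isPullback_resLE_small f e) (fibTwo_open f h V)

theorem bijective_small [Smooth f] (h : FibTwo f (U : Set X)ᶜ) {V : X.Opens} (hV : IsSmall f V) :
    Function.Bijective (X.presheaf.map (homOfLE (inf_le_left : V ⊓ U ≤ V)).op) := by
  obtain ⟨hVa, T, hT, e⟩ := hV
  haveI : IsAffine V.toScheme := hVa
  haveI : IsAffine T.toScheme := hT
  haveI : Smooth (f.resLE T V e) := MorphismProperty.of_isPullback (P := @Smooth) (isPullback_resLE_small f e)
    inferInstance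
  have hb := bijective_appTop_ι (f.resLE T V e) (V.ι ⁻¹ᵁ U) (fibTwo_resLE f U h e)
  rw [opens_ι_appTop] at hb
  refine bijective_map_of_eq (homOfLE (Scheme.Hom.image_mono (f := V.ι) le_top)) _
    (Scheme.Opens.ι_image_top V) ?_ hb
  rw [Scheme.Opens.ι_image_top, Scheme.Hom.image_preimage_eq_opensRange_inf, Scheme.Opens.opensRange_ι]

/-- Functions extend across a closed set of codimension two in the fibres. -/
theorem bijective_res [Smooth f] (h : FibTwo f (U : Set X)ᶜ) (V : X.Opens) :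
    Function.Bijective (X.presheaf.map (homOfLE (inf_le_left : V ⊓ U ≤ V)).op) := by
  let ι := {W : X.Opens // IsSmall f W ∧ W ≤ V}
  have hcov : V ≤ ⨆ W : ι, W.1 := fun x hx => by
    obtain ⟨W, hW, hxW, hWV⟩ := exists_small f hx
    exact Opens.mem_iSup.2 ⟨⟨W, hW, hWV⟩, hxW⟩
  have hb : ∀ W : ι, Function.Bijective (X.presheaf.map (homOfLE (inf_le_left : W.1 ⊓ U ≤ W.1)).op) := fun W =>
    bijective_small f U h W.2.1
  have inj : ∀ (V' : X.Opens) (s t : Γ(X, V')), X.presheaf.map (homOfLE (inf_le_left : V' ⊓ U ≤ V')).op s =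
      X.presheaf.map (homOfLE (inf_le_left : V' ⊓ U ≤ V')).op t → s = t := by
    intro V' s t hst
    refine TopCat.Sheaf.eq_of_locally_eq' X.sheaf (fun W : {W : X.Opens // IsSmall f W ∧ W ≤ V'} => W.1) V'
      (fun W => homOfLE W.2.2) (fun x hx => ?_) s t fun W => ?_
    · obtain ⟨W, hW, hxW, hWV⟩ := exists_small f hx
      exact Opens.mem_iSup.2 ⟨⟨W, hW, hWV⟩, hxW⟩
    · refine (bijective_small f U h W.2.1).1 ?_
      have := congrArg (X.presheaf.map (homOfLE (inf_le_inf_right U W.2.2 : W.1 ⊓ U ≤ V' ⊓ U)).op) hst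
      erw [res_res, res_res] at this ⊢
      exact this
  refine ⟨fun s t => inj V s t, fun s => ?_⟩
  choose a ha using fun W : ι => (hb W).2 (X.presheaf.map (homOfLE (inf_le_inf_right U W.2.2 : W.1 ⊓ U ≤ V ⊓ U)).op s)
  obtain ⟨b, hb', -⟩ := TopCat.Sheaf.existsUnique_gluing' X.sheaf (fun W : ι => W.1) V (fun W => homOfLE W.2.2)
    hcov a fun W W' => by
      refine inj _ _ _ ?_
      have e1 := congrArg (X.presheaf.map (homOfLE (inf_le_inf_right U (inf_le_left : W.1 ⊓ W'.1 ≤ W.1))).op) (ha W)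
      have e2 := congrArg (X.presheaf.map (homOfLE (inf_le_inf_right U (inf_le_right : W.1 ⊓ W'.1 ≤ W'.1))).op) (ha W')
      erw [res_res, res_res] at e1 e2 ⊢
      exact e1.trans e2.symm
  refine ⟨b, ?_⟩
  refine TopCat.Sheaf.eq_of_locally_eq' X.sheaf (fun W : ι => W.1 ⊓ U) (V ⊓ U)
    (fun W => homOfLE (inf_le_inf_right U W.2.2)) (fun x hx => ?_) _ _ fun W => ?_
  · obtain ⟨W, hxW⟩ := Opens.mem_iSup.1 (hcov hx.1)
    exact Opens.mem_iSup.2 ⟨W, hxW, hx.2⟩
  · have e1 := congrArg (X.presheaf.map (homOfLE (inf_le_left : W.1 ⊓ U ≤ W.1)).op) (hb' W)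
    refine Eq.trans ?_ (e1.trans (ha W))
    erw [res_res, res_res]

theorem bijective_app [Smooth f] (h : FibTwo f (U : Set X)ᶜ) (V : X.Opens) : Function.Bijective (U.ι.app V) := by
  rw [Scheme.Opens.ι_app]
  refine bijective_map_of_eq _ _ rfl ?_ (bijective_res f U h V)
  rw [Scheme.Hom.image_preimage_eq_opensRange_inf, Scheme.Opens.opensRange_ι, inf_comm]

theorem fullyFaithful [Smooth f] (h : FibTwo f (U : Set X)ᶜ) :
    (FEt.restrict U.ι).Full ∧ (FEt.restrict U.ι).Faithful :=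
  FEtLib.fullyFaithful_of_bijective (bijective_app f U h)

/-- Covers extend from `U` when they extend from a smaller open of codimension two. -/
theorem essSurj_of_le [Smooth f] {U' : X.Opens} (hle : U' ≤ U) (h' : FibTwo f (U' : Set X)ᶜ)
    [(FEt.restrict U'.ι).EssSurj] : (FEt.restrict U.ι).EssSurj := by
  let U'' := U.ι ⁻¹ᵁ U'
  obtain ⟨hF, hFa⟩ := fullyFaithful (U.ι ≫ f) U'' (fibTwo_etale_comp U.ι f h')
  let j := X.homOfLE hle
  have hj : j.opensRange = U'' := Scheme.opensRange_homOfLE hle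
  let e := IsOpenImmersion.isoOfRangeEq j U''.ι (by
    rw [Scheme.Opens.range_ι, ← hj]; rfl)
  have he : e.hom ≫ U''.ι = j := IsOpenImmersion.isoOfRangeEq_hom_fac _ _ _
  haveI := PurePairDesc.isEquivalence_restrict_of_isIso e.hom
  have hi := PropPi1.restrictCompIso e.hom U''.ι
  rw [he] at hi
  haveI : (FEt.restrict j).Full := Functor.Full.of_iso hi.symm
  haveI : (FEt.restrict j).Faithful := Functor.Faithful.of_iso hi.symm
  refine ⟨fun F => ?_⟩
  have hi' := PropPi1.restrictCompIso j U.ι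
  rw [show j ≫ U.ι = U'.ι from Scheme.homOfLE_ι _ _] at hi'
  let G := (FEt.restrict j).obj F
  let Z := (FEt.restrict U'.ι).objPreimage G
  exact ⟨Z, ⟨(FEt.restrict j).preimageIso ((hi'.app Z).symm ≪≫ (FEt.restrict U'.ι).objObjPreimageIso G)⟩⟩

/-- Covers extend, over an affine base. -/
theorem essSurj_affine [Smooth f] [IsAffine X] [IsAffine S] (h : FibTwo f (U : Set X)ᶜ) :
    (FEt.restrict U.ι).EssSurj := by
  obtain ⟨U', hle, hc, h'⟩ := exists_compact_le f U h
  haveI := (pureTop_of_isCompact f U' hc h').essSurj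
  exact essSurj_of_le f U hle h'

end Groth.Agent.HyperAlg
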