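import Groth.Agent.CMFlatLib.Misc
import Groth.Agent.S0391

/-! Étaleness along a hypersurface from the reduction. -/

set_option autoImplicit false
set_option linter.style.haveILetI false
set_option backward.isDefEq.respectTransparency false

universe u

open TensorProduct

namespace Groth.Agent.HyperAlg

/-- Flatness survives replacing the base by a ring of fractions. -/
theorem flat_of_fractions {R₁ R₂ M : Type u} [CommRing R₁] [CommRing R₂] [Algebra R₁ R₂] [AddCommGroup M]
    [Module R₁ M] [Module R₂ M] [IsScalarTower R₁ R₂ M] [Module.Flat R₁ M]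
    (h : ∀ r : R₂, ∃ b s : R₁, IsUnit (algebraMap R₁ R₂ s) ∧ algebraMap R₁ R₂ s * r = algebraMap R₁ R₂ b) :
    Module.Flat R₂ M := by
  classical
  refine Module.Flat.iff_forall_isTrivialRelation.2 fun {l} a x hax => ?_
  choose b s hs hb using fun i => h (a i)
  let t : Fin l → R₁ := fun i => (∏ c ∈ Finset.univ.erase i, s c) * b i
  have ht : ∀ i, algebraMap R₁ R₂ (t i) = algebraMap R₁ R₂ (∏ c, s c) * a i := fun i => by
    rw [← Finset.mul_prod_erase _ s (Finset.mem_univ i), map_mul, map_mul, ← hb i]
    ring
  have hsum : ∑ i, t i • x i = 0 := by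
    rw [← smul_zero (algebraMap R₁ R₂ (∏ c, s c)), ← hax, Finset.smul_sum]
    exact Finset.sum_congr rfl fun i _ => by rw [← algebraMap_smul R₂ (t i) (x i), ht, mul_smul]
  obtain ⟨k, c, y, hy, hc⟩ := Module.Flat.isTrivialRelation_of_sum_smul_eq_zero hsum
  refine ⟨k, fun i j => algebraMap R₁ R₂ (c i j), y, fun i => ?_, fun j => ?_⟩
  · rw [hy i]
    exact Finset.sum_congr rfl fun j _ => (algebraMap_smul R₂ (c i j) (y j)).symm
  · have hu : IsUnit (algebraMap R₁ R₂ (∏ c, s c)) := by
      rw [map_prod]
      exact Finset.prod_induction _ IsUnit (fun _ _ => IsUnit.mul) isUnit_one fun i _ => hs i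
    refine hu.mul_right_eq_zero.1 ?_
    rw [Finset.mul_sum, ← map_zero (algebraMap R₁ R₂), ← hc j, map_sum]
    exact Finset.sum_congr rfl fun i _ => by rw [map_mul, ht, mul_assoc]

/-- Formal unramifiedness from the reduction modulo an element in the Jacobson radical. -/
theorem formallyUnramified_of_quotient_jac {A C : Type u} [CommRing A] [CommRing C] [Algebra A C]
    [Algebra.EssFiniteType A C] (I : Ideal A) (hI : I.map (algebraMap A C) ≤ Ideal.jacobson ⊥)
    [Algebra.FormallyUnramified A (C ⧸ I.map (algebraMap A C))] : Algebra.FormallyUnramified A C := by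
  let J := I.map (algebraMap A C)
  haveI : Module.Finite C (Ω[C⁄A]) := inferInstance
  let Q := Ω[C⁄A] ⧸ (J • ⊤ : Submodule C (Ω[C⁄A]))
  let d : C →ₗ[A] Q := ((J • ⊤ : Submodule C (Ω[C⁄A])).mkQ.restrictScalars A).comp
    (KaehlerDifferential.D A C).toLinearMap
  have hdJ : J.restrictScalars A ≤ LinearMap.ker d := by
    intro x hx
    show d x = 0
    have hx' : x ∈ Submodule.span C (algebraMap A C '' (I : Set A)) := hx
    clear hx
    induction hx' using Submodule.span_induction with
    | mem x hx =>
      obtain ⟨a, -, rfl⟩ := hx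
      show Submodule.Quotient.mk (KaehlerDifferential.D A C (algebraMap A C a)) = 0
      rw [Derivation.map_algebraMap]; rfl
    | zero => exact map_zero d
    | add x y hx hy h1 h2 => rw [map_add, h1, h2, add_zero]
    | smul c x hx h1 =>
      show Submodule.Quotient.mk (KaehlerDifferential.D A C (c * x)) = 0
      rw [Derivation.leibniz, Submodule.Quotient.mk_add, Submodule.Quotient.mk_smul, Submodule.Quotient.mk_smul,
        show Submodule.Quotient.mk (KaehlerDifferential.D A C x) = (0 : Q) from h1, smul_zero, zero_add,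
        ← Submodule.Quotient.mk_smul, Submodule.Quotient.mk_eq_zero]
      exact Submodule.smul_mem_smul hx Submodule.mem_top
  letI : Module (C ⧸ J) Q := inferInstance
  let lin : (C ⧸ J) →ₗ[A] Q :=
    ((J.restrictScalars A).liftQ d hdJ).comp (Submodule.Quotient.restrictScalarsEquiv A J).symm.toLinearMap
  have hlin : ∀ c, lin (Ideal.Quotient.mk J c) = d c := fun c => rfl
  let D' : Derivation A (C ⧸ J) Q :=
    { lin with
      map_one_eq_zero' := by
        show lin (Ideal.Quotient.mk J 1) = 0
        rw [hlin]
        show Submodule.Quotient.mk (KaehlerDifferential.D A C 1) = 0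
        rw [Derivation.map_one_eq_zero]; rfl
      leibniz' := fun x y => by
        obtain ⟨x, rfl⟩ := Ideal.Quotient.mk_surjective x
        obtain ⟨y, rfl⟩ := Ideal.Quotient.mk_surjective y
        show lin (Ideal.Quotient.mk J (x * y)) = Ideal.Quotient.mk J x • d y + Ideal.Quotient.mk J y • d x
        rw [hlin]
        show Submodule.Quotient.mk (KaehlerDifferential.D A C (x * y)) = _
        rw [Derivation.leibniz, Submodule.Quotient.mk_add, Submodule.Quotient.mk_smul, Submodule.Quotient.mk_smul]
        rfl }
  have hd : ∀ c, d c = 0 := fun c => by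
    have h : D' (Ideal.Quotient.mk J c) = 0 := by
      rw [← D'.liftKaehlerDifferential_comp_D, Subsingleton.elim (KaehlerDifferential.D A (C ⧸ J) _) 0, map_zero]
    rwa [show D' (Ideal.Quotient.mk J c) = d c from rfl] at h
  have htop : (⊤ : Submodule C (Ω[C⁄A])) ≤ J • ⊤ := by
    rw [← KaehlerDifferential.span_range_derivation, Submodule.span_le]
    rintro _ ⟨c, rfl⟩
    rw [KaehlerDifferential.span_range_derivation]
    exact (Submodule.Quotient.mk_eq_zero _).1 (hd c)
  have := Submodule.eq_bot_of_le_smul_of_le_jacobson_bot J _ Module.Finite.fg_top htop hI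
  exact ⟨(Submodule.subsingleton_iff C).1 (subsingleton_of_bot_eq_top this.symm)⟩

/-- A finite type algebra is étale at primes containing a regular element with étale reduction. -/
theorem isEtaleAt_of_reduction {A B : Type u} [CommRing A] [IsNoetherianRing A] [CommRing B] [Algebra A B]
    [Algebra.FinitePresentation A B] (f : A) (hB : IsSMulRegular B f) (a : B)
    [Module.Flat (A ⧸ Ideal.span {f})
      (Localization.Away a ⧸ (Ideal.span {f}).map (algebraMap A (Localization.Away a)))]
    [Algebra.FormallyUnramified A (Localization.Away a ⧸ (Ideal.span {f}).map (algebraMap A (Localization.Away a)))]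
    (P : Ideal B) [P.IsPrime] (hfP : algebraMap A B f ∈ P) (haP : a ∉ P) : Algebra.IsEtaleAt A P := by
  haveI : IsNoetherianRing B := Algebra.FiniteType.isNoetherianRing A B
  let Ba := Localization.Away a
  let C := Localization.AtPrime P
  let g : Ba →ₐ[B] C := IsLocalization.liftAlgHom (M := Submonoid.powers a) (f := Algebra.ofId B _) (by
    rintro ⟨_, n, rfl⟩
    simpa using (IsLocalization.map_units C (M := P.primeCompl) ⟨a, haP⟩).pow n)
  letI : Algebra Ba C := g.toRingHom.toAlgebra
  haveI : IsScalarTower B Ba C := IsScalarTower.of_algebraMap_eq fun b => (g.commutes b).symm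
  haveI : IsScalarTower A Ba C := IsScalarTower.of_algebraMap_eq fun r => by
    rw [IsScalarTower.algebraMap_apply A B C, IsScalarTower.algebraMap_apply B Ba C,
      ← IsScalarTower.algebraMap_apply A B Ba]
  haveI hloc : IsLocalization (Algebra.algebraMapSubmonoid Ba P.primeCompl) C :=
    IsLocalization.isLocalization_of_submonoid_le Ba C (Submonoid.powers a) P.primeCompl
      (by rintro _ ⟨n, rfl⟩; exact fun h => haP (Ideal.IsPrime.mem_of_pow_mem ‹_› n h))
  let I : Ideal A := Ideal.span {f}
  let J := I.map (algebraMap A Ba)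
  let J' := I.map (algebraMap A C)
  have hJ : J.map (algebraMap Ba C) = J' := by rw [Ideal.map_map, ← IsScalarTower.algebraMap_eq]
  have hmax : J' ≤ IsLocalRing.maximalIdeal C := by
    rw [Ideal.map_le_iff_le_comap, Ideal.span_le, Set.singleton_subset_iff]
    show algebraMap A C f ∈ IsLocalRing.maximalIdeal C
    rw [IsScalarTower.algebraMap_apply A B C]
    show algebraMap A B f ∈ Ideal.under B (IsLocalRing.maximalIdeal C)
    rw [IsLocalization.AtPrime.under_maximalIdeal C P]
    exact hfP
  let Q := Ba ⧸ J
  let Q' := C ⧸ J'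
  letI : Algebra Q Q' := (Ideal.quotientMap J' (algebraMap Ba C) (by rw [← hJ]; exact Ideal.le_comap_map)).toAlgebra
  haveI : IsScalarTower A Q Q' := IsScalarTower.of_algebraMap_eq (R := A) (S := Q) (A := Q') fun r =>
    congrArg (Ideal.Quotient.mk J') (IsScalarTower.algebraMap_apply A Ba C r)
  haveI : IsScalarTower (A ⧸ I) Q Q' := IsScalarTower.of_algebraMap_eq fun r => by
    obtain ⟨r, rfl⟩ := Ideal.Quotient.mk_surjective r
    exact congrArg (Ideal.Quotient.mk J') (IsScalarTower.algebraMap_apply A Ba C r)
  haveI : IsLocalization (Algebra.algebraMapSubmonoid Q (Algebra.algebraMapSubmonoid Ba P.primeCompl)) Q' := by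
    constructor
    constructor
    · rintro ⟨_, s, hs, rfl⟩
      exact (IsLocalization.map_units C ⟨s, hs⟩).map (Ideal.Quotient.mk J')
    · intro z
      obtain ⟨z, rfl⟩ := Ideal.Quotient.mk_surjective z
      obtain ⟨⟨x, s, hs⟩, hxs⟩ := IsLocalization.surj (Algebra.algebraMapSubmonoid Ba P.primeCompl) z
      exact ⟨⟨Ideal.Quotient.mk J x, _, s, hs, rfl⟩, congrArg (Ideal.Quotient.mk J') hxs⟩
    · intro x y hxy
      obtain ⟨x, rfl⟩ := Ideal.Quotient.mk_surjective x
      obtain ⟨y, rfl⟩ := Ideal.Quotient.mk_surjective y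
      have h : algebraMap Ba C (x - y) ∈ J.map (algebraMap Ba C) := by
        rw [hJ, map_sub]
        exact Ideal.Quotient.eq.1 hxy
      obtain ⟨⟨⟨w, hw⟩, ⟨s, hs⟩⟩, hws⟩ := (IsLocalization.mem_map_algebraMap_iff (Algebra.algebraMapSubmonoid Ba P.primeCompl) C).1 h
      rw [← map_mul] at hws
      obtain ⟨⟨d, hd⟩, hdeq⟩ := IsLocalization.exists_of_eq (M := Algebra.algebraMapSubmonoid Ba P.primeCompl) hws
      refine ⟨⟨_, d * s, mul_mem hd hs, rfl⟩, ?_⟩
      refine (map_mul (Ideal.Quotient.mk J) _ _).symm.trans ((Ideal.Quotient.eq.2 ?_).trans (map_mul _ _ _))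
      have : d * s * x - d * s * y = d * w := by
        rw [← hdeq]; ring
      rw [this]
      exact Ideal.mul_mem_left _ _ hw
  haveI : Algebra.FormallyUnramified Q Q' :=
    Algebra.FormallyUnramified.of_isLocalization (Algebra.algebraMapSubmonoid Q (Algebra.algebraMapSubmonoid Ba P.primeCompl))
  haveI : Algebra.FormallyUnramified A Q' := Algebra.FormallyUnramified.comp A Q Q'
  haveI : Module.Flat Q Q' := IsLocalization.flat Q' (Algebra.algebraMapSubmonoid Q (Algebra.algebraMapSubmonoid Ba P.primeCompl))
  haveI : Module.Flat (A ⧸ I) Q' := Module.Flat.trans (A ⧸ I) Q Q'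
  haveI : Algebra.EssFiniteType B C := Algebra.EssFiniteType.of_isLocalization C P.primeCompl
  haveI : Algebra.EssFiniteType A C := Algebra.EssFiniteType.comp A B C
  haveI : Algebra.IsUnramifiedAt A P :=
    formallyUnramified_of_quotient_jac (C := C) I (by rwa [IsLocalRing.jacobson_eq_maximalIdeal _ bot_ne_top])
  -- flatness
  let p := P.comap (algebraMap A B)
  let Ap := Localization.AtPrime p
  letI : Algebra Ap C := (Localization.localRingHom p P (algebraMap A B) rfl).toAlgebra
  haveI : IsScalarTower A Ap C := IsScalarTower.of_algebraMap_eq fun r =>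
    (Localization.localRingHom_to_map p P (algebraMap A B) rfl r).symm
  haveI : IsLocalHom (algebraMap Ap C) := Localization.isLocalHom_localRingHom p P (algebraMap A B) rfl
  haveI : IsNoetherianRing Ap := IsLocalization.isNoetherianRing p.primeCompl _ inferInstance
  haveI : IsNoetherianRing C := IsLocalization.isNoetherianRing P.primeCompl _ inferInstance
  let fp := algebraMap A Ap f
  have hregB : IsSMulRegular B (algebraMap A B f) := fun x y h => hB (by simpa [Algebra.smul_def] using h)
  have hregC' : IsSMulRegular C (algebraMap B C (algebraMap A B f)) :=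
    hregB.of_isLocalizedModule C P.primeCompl (Algebra.linearMap B C)
  have hregC : IsSMulRegular C f := fun x y h =>
    hregC' (by simpa [Algebra.smul_def, ← IsScalarTower.algebraMap_apply] using h)
  haveI hflatC : Module.Flat Ap C := by
    refine S0391.result (S := C) (Ideal.span {fp}) ?_ ?_ ?_
    · rw [Ne, Ideal.span_singleton_eq_top]
      intro hu
      have := hu.map (algebraMap Ap C)
      rw [← IsScalarTower.algebraMap_apply] at this
      exact (hmax (Ideal.mem_map_of_mem _ (Ideal.mem_span_singleton_self f))) this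
    · let e0 : Ap →ₗ[Ap] Ideal.span {fp} :=
        LinearMap.toSpanSingleton Ap _ ⟨fp, Ideal.mem_span_singleton_self fp⟩
      have he0 : Function.Surjective e0 := by
        rintro ⟨x, hx⟩
        obtain ⟨r, rfl⟩ := Ideal.mem_span_singleton'.1 hx
        exact ⟨r, Subtype.ext rfl⟩
      refine (injective_iff_map_eq_zero _).2 fun z hz => ?_
      obtain ⟨w, rfl⟩ := LinearMap.rTensor_surjective C he0 z
      obtain ⟨c, rfl⟩ := (TensorProduct.lid Ap C).symm.surjective w
      rw [TensorProduct.lid_symm_apply, LinearMap.rTensor_tmul, LinearMap.rTensor_tmul] at hz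
      have hz' := congrArg (TensorProduct.lid Ap C) hz
      rw [TensorProduct.lid_tmul, map_zero] at hz'
      have h1 : fp • c = 0 := by simpa [e0] using hz'
      rw [algebraMap_smul] at h1
      rw [hregC.right_eq_zero_of_smul h1, map_zero, map_zero]
    · let N := C ⧸ (Ideal.span {fp} • (⊤ : Submodule Ap C))
      have hN : (Ideal.span {fp} • (⊤ : Submodule Ap C)).restrictScalars A = J'.restrictScalars A := by
        ext x
        rw [Submodule.restrictScalars_mem, Submodule.restrictScalars_mem, Submodule.ideal_span_singleton_smul,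
          Submodule.mem_smul_pointwise_iff_exists,
          show J' = Ideal.span {algebraMap A C f} by simp only [J', I, Ideal.map_span, Set.image_singleton], Ideal.mem_span_singleton']
        constructor
        · rintro ⟨y, -, rfl⟩
          exact ⟨y, by rw [algebraMap_smul, Algebra.smul_def, mul_comm]⟩
        · rintro ⟨y, rfl⟩
          exact ⟨y, trivial, by rw [algebraMap_smul, Algebra.smul_def, mul_comm]⟩
      let Ib := Ideal.span {fp}
      letI : Algebra (A ⧸ I) (Ap ⧸ Ib) := (Ideal.quotientMap Ib (algebraMap A Ap) (by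
        rw [Ideal.span_le, Set.singleton_subset_iff]
        exact Ideal.mem_span_singleton_self fp)).toAlgebra
      letI : Module (A ⧸ I) N := Module.compHom N (algebraMap (A ⧸ I) (Ap ⧸ Ib))
      haveI : IsScalarTower (A ⧸ I) (Ap ⧸ Ib) N := IsScalarTower.of_algebraMap_smul fun _ _ => rfl
      haveI : IsScalarTower A (A ⧸ I) N := IsScalarTower.of_algebraMap_smul fun r x => by
        obtain ⟨x, rfl⟩ := Submodule.Quotient.mk_surjective _ x
        show Ideal.Quotient.mk Ib (algebraMap A Ap r) • (Submodule.Quotient.mk x : N) = r • Submodule.Quotient.mk x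
        exact congrArg Submodule.Quotient.mk (algebraMap_smul Ap r x)
      haveI : Module.Flat (A ⧸ I) N := by
        let e : N ≃ₗ[A] Q' := ((Submodule.Quotient.restrictScalarsEquiv A _).symm.trans
          (Submodule.quotEquivOfEq _ _ hN)).trans (Submodule.Quotient.restrictScalarsEquiv A J')
        exact Module.Flat.of_linearEquiv (e.extendScalarsOfSurjective (S := A ⧸ I) Ideal.Quotient.mk_surjective)
      haveI : Module.Flat (Ap ⧸ Ib) N := flat_of_fractions (R₁ := A ⧸ I) fun r => by
        obtain ⟨z, rfl⟩ := Ideal.Quotient.mk_surjective r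
        obtain ⟨⟨b, s, hs⟩, hbs⟩ := IsLocalization.surj p.primeCompl z
        refine ⟨Ideal.Quotient.mk I b, Ideal.Quotient.mk I s,
          (IsLocalization.map_units Ap (M := p.primeCompl) ⟨s, hs⟩).map (Ideal.Quotient.mk Ib), ?_⟩
        show Ideal.Quotient.mk Ib (algebraMap A Ap s) * Ideal.Quotient.mk Ib z = Ideal.Quotient.mk Ib (algebraMap A Ap b)
        rw [← map_mul, mul_comm]
        exact congrArg _ hbs
      exact Module.Flat.of_linearEquiv
        ((TensorProduct.quotTensorEquivQuotSMul C Ib).extendScalarsOfSurjective (S := Ap ⧸ Ib) Ideal.Quotient.mk_surjective)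
  haveI : Module.Flat A Ap := IsLocalization.flat Ap p.primeCompl
  haveI : Module.Flat A C := Module.Flat.trans A Ap C
  exact CMFlatLib.isEtaleAt_of_unramified_flat P

end Groth.Agent.HyperAlg
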