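import Groth.Agent.HyperAlg.CechRing
import Groth.Agent.LocCohLib.Annihilated
import Mathlib.LinearAlgebra.Matrix.Charpoly.LinearMap
import Mathlib.RingTheory.Spectrum.Prime.Topology

/-! Clopen subsets of a punctured hypersurface extend to neighbourhoods. -/

set_option autoImplicit false
set_option linter.style.haveILetI false
set_option backward.isDefEq.respectTransparency false
set_option backward.isDefEq.respectTransparency.types false
set_option maxHeartbeats 1000000

universe u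

open CategoryTheory

noncomputable section

namespace Groth.Agent.HyperAlg

open PuncSecLib

variable {A : Type u} [CommRing A] {ι : Type u} (g : ι → A)

/-- An element congruent to a power annihilates a finite module divisible by `f` up to powers. -/
theorem exists_annihilator {K : Type u} [AddCommGroup K] [Module A K] [Module.Finite A K] (f a : A)
    (hK : ∀ x : K, ∃ (k : ℕ) (y : K), a ^ k • x = f • y) :
    ∃ (s : A) (M : ℕ), s - a ^ M ∈ Ideal.span {f} ∧ ∀ x : K, s • x = 0 := by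
  classical
  obtain ⟨G, hG⟩ := (Module.Finite.fg_top : (⊤ : Submodule A K).FG)
  choose k y hy using hK
  let N := G.sup k
  have hrange : LinearMap.range (LinearMap.lsmul A K (a ^ N)) ≤ Ideal.span {f} • ⊤ := by
    rintro _ ⟨x, rfl⟩
    have hx : x ∈ Submodule.span A (G : Set K) := hG.symm ▸ Submodule.mem_top
    induction hx using Submodule.span_induction with
    | mem z hz =>
      rw [LinearMap.lsmul_apply, ← Nat.sub_add_cancel (show k z ≤ N from Finset.le_sup (f := k) hz), pow_add, mul_smul, hy, smul_comm]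
      exact Submodule.smul_mem_smul (Ideal.mem_span_singleton_self f) Submodule.mem_top
    | zero => rw [map_zero]; exact zero_mem _
    | add z w _ _ h1 h2 => rw [map_add]; exact add_mem h1 h2
    | smul c z _ h1 => rw [map_smul]; exact Submodule.smul_mem _ _ h1
  obtain ⟨p, hp, -, hc, hev⟩ :=
    LinearMap.exists_monic_and_natDegree_eq_and_coeff_mem_pow_and_aeval_eq_zero A
      (LinearMap.lsmul A K (a ^ N)) (Ideal.span {f}) hrange
  refine ⟨p.eval (a ^ N), N * p.natDegree, ?_, fun x => ?_⟩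
  · rw [pow_mul, Polynomial.eval_eq_sum_range, Finset.sum_range_succ, hp.coeff_natDegree, one_mul, add_sub_cancel_right]
    exact Submodule.sum_mem _ fun i hi => Ideal.mul_mem_right _ _ (Ideal.pow_le_self
      (Nat.sub_ne_zero_of_lt (Finset.mem_range.1 hi)) (hc i))
  · have h1 : Polynomial.aeval (Algebra.lsmul A A K (a ^ N)) p = 0 := hev
    rw [Polynomial.aeval_algHom_apply, Polynomial.coe_aeval_eq_eval] at h1
    exact LinearMap.congr_fun h1 x

variable (f : A) (B : Type u) [CommRing B] [Algebra A B]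

/-- The ideal of a level. -/
def Jn (n : ℕ) : Ideal B := Ideal.span {algebraMap A B (f ^ (n + 1))}

/-- The levels of an algebra. -/
abbrev Rn (n : ℕ) : Type u := B ⧸ Jn f B n

/-- The transition of levels. -/
def qtr (n : ℕ) : Rn f B (n + 1) →ₐ[A] Rn f B n :=
  Ideal.Quotient.factorₐ A (Ideal.span_singleton_le_span_singleton.2
    (map_dvd (algebraMap A B) (pow_dvd_pow f (Nat.le_succ _))))

theorem qtr_mk (n : ℕ) (b : B) : qtr f B n (Ideal.Quotient.mk _ b) = Ideal.Quotient.mk _ b := rfl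

variable {f B}

theorem mk_eq_zero_iff {n : ℕ} {b : B} :
    (Ideal.Quotient.mk (Jn f B n) b) = 0 ↔ ∃ c : B, f ^ (n + 1) • c = b := by
  rw [Ideal.Quotient.eq_zero_iff_mem, Jn, Ideal.mem_span_singleton']
  exact exists_congr fun c => by rw [Algebra.smul_def, mul_comm]

theorem smul_mk (a : A) (n : ℕ) (b : B) :
    a • (Ideal.Quotient.mk (Jn f B n) b : Rn f B n) = Ideal.Quotient.mk _ (a • b) :=
  rfl

theorem killed_Rn (n : ℕ) : algebraMap A (Rn f B n) (f ^ (n + 1)) = 0 :=
  Ideal.Quotient.eq_zero_iff_mem.2 (Ideal.mem_span_singleton_self _)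

theorem notMem_and_of_mul {x y : B} {q : Ideal B} (h : x * y ∉ q) : x ∉ q ∧ y ∉ q :=
  ⟨fun hx => h (Ideal.mul_mem_right _ _ hx), fun hy => h (Ideal.mul_mem_left _ _ hy)⟩

variable [IsNoetherianRing A] [Finite ι] [Module.Finite A B]

variable (f B) in
/-- The system of compatible families of the levels. -/
def cechSys (hreg : IsSMulRegular B f) : Sys f g where
  Γ n := cechSub g (Rn f B n)
  t n := cechMap g (qtr f B n)
  killed n z := by
    rw [Algebra.smul_def, ← (toCech g (Rn f B n)).commutes, killed_Rn, map_zero, zero_mul]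
  closed n := isClosedMod_cech g
  surj n j y := by
    obtain ⟨k, b, hb⟩ := cech_num g j y
    obtain ⟨b, rfl⟩ := Ideal.Quotient.mk_surjective b
    exact ⟨k, toCech g _ (Ideal.Quotient.mk _ b), by rw [cechMap_toCech, qtr_mk, hb]⟩
  ker n j y hy := by
    obtain ⟨k, b, hb⟩ := cech_num g j y
    obtain ⟨b, rfl⟩ := Ideal.Quotient.mk_surjective b
    have h0 := congrArg (cechMap g (qtr f B n)) hb
    rw [cechMap_toCech, qtr_mk, map_smul, hy, smul_zero] at h0
    obtain ⟨l, hl⟩ := toCech_eq_zero g h0 j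
    rw [smul_mk] at hl
    obtain ⟨c, hc⟩ := mk_eq_zero_iff.1 hl
    exact ⟨l + k, toCech g _ (Ideal.Quotient.mk _ c),
      by rw [pow_add, mul_smul, ← hb, ← map_smul (toCech g _), ← map_smul (toCech g _), smul_mk, smul_mk, hc]⟩
  reg n x hx := by
    refine (isClosedMod_cech g).sep _ fun j => ?_
    obtain ⟨k, b, hb⟩ := cech_num g j x
    obtain ⟨b, rfl⟩ := Ideal.Quotient.mk_surjective b
    have h0 : toCech g (Rn f B (n + 1)) (f • Ideal.Quotient.mk _ b) = 0 := by
      rw [map_smul, hb, smul_comm, hx, smul_zero]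
    obtain ⟨l, hl⟩ := toCech_eq_zero g h0 j
    rw [smul_mk, smul_mk] at hl
    obtain ⟨c, hc⟩ := mk_eq_zero_iff.1 hl
    have hc' : f ^ (n + 1) • c = g j ^ l • b := hreg (by
      show f • f ^ (n + 1) • c = f • g j ^ l • b
      rw [smul_comm f (g j ^ l), ← hc, smul_smul, ← pow_succ'])
    refine ⟨l + k, ?_⟩
    rw [pow_add, mul_smul, ← map_smul (cechMap g (qtr f B n)) (g j ^ k), ← hb, cechMap_toCech, qtr_mk, ← map_smul,
      smul_mk, mk_eq_zero_iff.2 ⟨c, hc'⟩, map_zero]
  fin := ⟨LinearMap.range (toCech g (Rn f B 0)).toLinearMap, inferInstance, fun j z =>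
    (cech_num g j z).imp fun k ⟨b, hb⟩ => ⟨b, hb⟩⟩

variable [IsAdicComplete (Ideal.span {f}) A]

/-- The part of the spectrum over the punctured hypersurface. -/
abbrev S0set (f : A) (B : Type u) [CommRing B] [Algebra A B] : Set (PrimeSpectrum B) :=
  {q | algebraMap A B f ∈ q.asIdeal ∧ ∃ j, algebraMap A B (g j) ∉ q.asIdeal}

theorem finite_cech_zero (hH : Module.Finite A (LocCoh.H (Ideal.span (Set.range g)) 1 (Rn f B 0))) :
    Module.Finite A (cechSub g (Rn f B 0)) := by
  classical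
  let β := (toCech g (Rn f B 0)).toLinearMap
  refine finite_of_submodule g (isClosedMod_cech g) (LinearMap.range β)
    (fun j z => (cech_num g j z).imp fun k ⟨b, hb⟩ => ⟨b, hb⟩) ?_
  have hker : DRing.torsionSub (Ideal.span (Set.range g)) (Rn f B 0) = LinearMap.ker β := by
    refine le_antisymm (fun b hb => Subtype.ext (funext fun j => ?_)) fun b hb => ?_
    · obtain ⟨n, hn⟩ := hb
      exact (lof_eq_zero b).2 ⟨n, hn _ (Ideal.pow_mem_pow (Ideal.subset_span (Set.mem_range_self j)) n)⟩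
    · obtain ⟨n, hn⟩ := Ideal.exists_pow_le_of_le_radical_of_fg
        (I := Ideal.span (Set.range g)) (J := LinearMap.ker (LinearMap.toSpanSingleton A (Rn f B 0) b))
        (Ideal.span_le.2 (by
          rintro _ ⟨j, rfl⟩
          exact (toCech_eq_zero g (show toCech g (Rn f B 0) b = 0 from hb) j).imp fun k hk => hk))
        (IsNoetherian.noetherian _)
      exact ⟨n, fun a ha => hn ha⟩
  haveI := hH
  haveI : Module.Finite A (LocCoh.H (Ideal.span (Set.range g)) 1
      (Rn f B 0 ⧸ DRing.torsionSub (Ideal.span (Set.range g)) (Rn f B 0))) :=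
    Module.Finite.of_surjective _ (LocCohLib.quot_torsion_surjective (Ideal.span (Set.range g)) (Rn f B 0) 1)
  exact Module.Finite.equiv (((localCohomology (Ideal.span (Set.range g)) 1).mapIso
    ((Submodule.quotEquivOfEq _ _ hker).trans β.quotKerEquivRange).toModuleIso).toLinearEquiv)

theorem exists_clopen_nhd (hreg : IsSMulRegular B f)
    (hH : Module.Finite A (LocCoh.H (Ideal.span (Set.range g)) 1 (Rn f B 0)))
    (C₀ : Set (PrimeSpectrum B)) (hC : IsClopen ((↑) ⁻¹' C₀ : Set (S0set g f B))) :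
    ∃ O₁ O₂ : Set (PrimeSpectrum B), IsOpen O₁ ∧ IsOpen O₂ ∧ Disjoint O₁ O₂ ∧ S0set g f B ⊆ O₁ ∪ O₂ ∧
      ∀ q ∈ S0set g f B, (q ∈ O₁ ↔ q ∈ C₀) := by
  classical
  let S := cechSys g f B hreg
  have hf0 : algebraMap A (Rn f B 0) f = 0 := by
    have := killed_Rn (f := f) (B := B) 0
    exact (congrArg (algebraMap A (Rn f B 0)) (pow_one f)).symm.trans this
  -- the idempotent on the hypersurface
  let χ : ∀ j, B →ₐ[A] Lof (Rn f B 0) (g j) := fun j =>
    (IsScalarTower.toAlgHom A (Rn f B 0) _).comp (Ideal.Quotient.mkₐ A _)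
  have hfL : ∀ j (r : A), r ∈ Ideal.span {f} → algebraMap A (Lof (Rn f B 0) (g j)) r = 0 := fun j r hr => by
    obtain ⟨c, rfl⟩ := Ideal.mem_span_singleton'.1 hr
    rw [IsScalarTower.algebraMap_apply A (Rn f B 0), map_mul, hf0, mul_zero, map_zero]
  let toS : ∀ j, PrimeSpectrum (Lof (Rn f B 0) (g j)) → S0set g f B := fun j P =>
    ⟨PrimeSpectrum.comap (χ j).toRingHom P, ⟨by
      show χ j (algebraMap A B f) ∈ P.asIdeal
      rw [(χ j).commutes, hfL j f (Ideal.mem_span_singleton_self f)]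
      exact P.asIdeal.zero_mem, j, fun h => P.2.ne_top (Ideal.eq_top_of_isUnit_mem _
        (show χ j (algebraMap A B (g j)) ∈ P.asIdeal from h) (by rw [(χ j).commutes]; exact isUnit_lof _))⟩⟩
  have htoS : ∀ j, Continuous (toS j) := fun j => (PrimeSpectrum.continuous_comap _).subtype_mk _
  choose e₀ he₀ hK using fun j => PrimeSpectrum.exists_idempotent_basicOpen_eq_of_isClopen (hC.preimage (htoS j))
  have hK' : ∀ j (P : PrimeSpectrum (Lof (Rn f B 0) (g j))), e₀ j ∉ P.asIdeal ↔ (toS j P).1 ∈ C₀ := fun j P =>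
    (Set.ext_iff.1 (hK j) P).symm
  have hcompat : e₀ ∈ cechSub g (Rn f B 0) := fun i j => by
    refine PrimeSpectrum.basicOpen_injOn_isIdempotentElem ((he₀ i).map _) ((he₀ j).map _)
      (TopologicalSpace.Opens.ext (Set.ext fun P => ?_))
    refine (hK' i (PrimeSpectrum.comap (lofMap (AlgHom.id A (Rn f B 0)) (g i) (g i * g j) (isUnit_left _ _)).toRingHom P)).trans
      (Iff.trans (Iff.of_eq (congrArg (· ∈ C₀) (PrimeSpectrum.ext (Ideal.ext fun b => ?_))))
        (hK' j (PrimeSpectrum.comap (lofMap (AlgHom.id A (Rn f B 0)) (g j) (g i * g j) (isUnit_right _ _)).toRingHom P)).symm)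
    show lofMap (AlgHom.id A (Rn f B 0)) (g i) (g i * g j) (isUnit_left _ _) (χ i b) ∈ P.asIdeal ↔
      lofMap (AlgHom.id A (Rn f B 0)) (g j) (g i * g j) (isUnit_right _ _) (χ j b) ∈ P.asIdeal
    show lofMap _ _ _ (isUnit_left _ _) (algebraMap (Rn f B 0) (Lof (Rn f B 0) (g i)) (Ideal.Quotient.mk (Jn f B 0) b)) ∈ P.asIdeal ↔
      lofMap _ _ _ (isUnit_right _ _) (algebraMap (Rn f B 0) (Lof (Rn f B 0) (g j)) (Ideal.Quotient.mk (Jn f B 0) b)) ∈ P.asIdeal
    rw [lofMap_eq, lofMap_eq]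
  let ε₀ : cechSub g (Rn f B 0) := ⟨e₀, hcompat⟩
  have hε₀ : IsIdempotentElem ε₀ := Subtype.ext (funext he₀)
  -- lifting to the limit
  have hnil : ∀ n x, qtr f B n x = 0 → IsNilpotent x := fun n x hx => by
    obtain ⟨x, rfl⟩ := Ideal.Quotient.mk_surjective x
    rw [qtr_mk] at hx
    obtain ⟨c, rfl⟩ := mk_eq_zero_iff.1 hx
    refine ⟨n + 2, ?_⟩
    rw [Algebra.smul_def, map_mul, mul_pow, ← map_pow, ← map_pow (algebraMap A B), ← pow_mul]
    refine mul_eq_zero_of_left (Ideal.Quotient.eq_zero_iff_mem.2 (Ideal.mem_span_singleton.2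
      (map_dvd _ (pow_dvd_pow f (Nat.le_mul_of_pos_left _ (Nat.succ_pos n)))))) _
  have hsurj : ∀ n, Function.Surjective (qtr f B n) := fun n z => by
    obtain ⟨z, rfl⟩ := Ideal.Quotient.mk_surjective z
    exact ⟨Ideal.Quotient.mk _ z, rfl⟩
  let E : ∀ n, {e : cechSub g (Rn f B n) // IsIdempotentElem e} := fun n => Nat.rec ⟨ε₀, hε₀⟩
    (fun n e => ⟨(exists_idem_lift g (qtr f B n) (hsurj n) (hnil n) e.1 e.2).choose,
      (exists_idem_lift g (qtr f B n) (hsurj n) (hnil n) e.1 e.2).choose_spec.1⟩) n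
  let e : S.lim := ⟨fun n => (E n).1, fun n =>
    (exists_idem_lift g (qtr f B n) (hsurj n) (hnil n) (E n).1 (E n).2).choose_spec.2⟩
  have he : e * e = e := Subtype.ext (funext fun n => (E n).2)
  -- the limit algebra
  haveI : Module.Finite A (Γp (Ideal.span (Set.range g))
      ((PuncSecLib.tR (LocCoh.puncturedOpen A (Ideal.span (Set.range g)))).obj (ModuleCat.of A (S.Γ 0)))) :=
    haveI : Module.Finite A (S.Γ 0) := finite_cech_zero g hH
    Module.Finite.equiv (S.eq 0)
  haveI := S.tower.finite_lim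
  haveI : Module.Finite A S.lim := Module.Finite.equiv S.limEquiv.symm
  have hregC : ∀ x : S.lim, f • x = 0 → x = 0 := fun x hx => Subtype.ext (funext fun n => by
    show x.1 n = 0
    rw [← x.2 n]
    exact S.reg n _ (congrFun (congrArg Subtype.val hx) (n + 1)))
  have hdiv : ∀ x : S.lim, x.1 0 = 0 → ∃ z, f • z = x := fun x hx => by
    obtain ⟨z, hz, -⟩ := S.tower.exists_eq_smul (S.limEquiv x) (by
      show S.eq 0 (x.1 0) = 0
      rw [hx, map_zero])
    exact ⟨S.limEquiv.symm z, S.limEquiv.injective (by rw [map_smul, LinearEquiv.apply_symm_apply, hz])⟩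
  let φ : B →ₐ[A] S.lim := (AlgHom.pi (R := A) (A := S.Γ) fun n =>
    (toCech g (Rn f B n)).comp (Ideal.Quotient.mkₐ A _)).codRestrict _ fun b n => cechMap_toCech g (qtr f B n) _
  have hφ : ∀ b n, (φ b).1 n = toCech g (Rn f B n) (Ideal.Quotient.mk _ b) := fun b n => rfl
  have hcok : ∀ j, ∀ x : S.lim ⧸ LinearMap.range φ.toLinearMap, ∃ (k : ℕ) (y : _), g j ^ k • x = f • y := fun j x => by
    obtain ⟨x, rfl⟩ := Submodule.Quotient.mk_surjective _ x
    obtain ⟨k, b, hb⟩ := cech_num g j (x.1 0)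
    obtain ⟨b, rfl⟩ := Ideal.Quotient.mk_surjective b
    obtain ⟨z, hz⟩ := hdiv (g j ^ k • x - φ b) (by
      show g j ^ k • x.1 0 - (φ b).1 0 = 0
      rw [hφ, sub_eq_zero]
      exact hb.symm)
    refine ⟨k, Submodule.Quotient.mk z, ?_⟩
    rw [← Submodule.Quotient.mk_smul, ← Submodule.Quotient.mk_smul, Submodule.Quotient.eq, hz, sub_sub_cancel]
    exact ⟨b, rfl⟩
  have hkk : ∀ j, ∀ x : LinearMap.ker φ.toLinearMap, ∃ (k : ℕ) (y : _), g j ^ k • x = f • y := fun j x => by
    have h0 : φ x.1 = 0 := x.2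
    obtain ⟨k, hk⟩ := toCech_eq_zero g ((hφ x.1 0).symm.trans (congrFun (congrArg Subtype.val h0) 0)) j
    rw [smul_mk] at hk
    obtain ⟨c, hc⟩ := mk_eq_zero_iff.1 hk
    rw [zero_add, pow_one] at hc
    refine ⟨k, ⟨c, hregC _ ?_⟩, Subtype.ext hc.symm⟩
    show f • φ c = 0
    rw [← map_smul, hc, map_smul, h0, smul_zero]
  haveI : Module.Finite A (LinearMap.ker φ.toLinearMap) := inferInstance
  choose s₁ M₁ hs₁ hs₁' using fun j => exists_annihilator f (g j) (hcok j)
  choose s₂ M₂ hs₂ hs₂' using fun j => exists_annihilator (K := LinearMap.ker φ.toLinearMap) f (g j) (hkk j)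
  let s : ι → A := fun j => s₁ j * s₂ j
  have hsk : ∀ j x, φ x = 0 → s j • x = 0 := fun j x hx => by
    rw [mul_smul]
    exact (congrArg (s₁ j • ·) (congrArg Subtype.val (hs₂' j ⟨x, hx⟩))).trans (smul_zero _)
  have hse : ∀ j, ∃ b, φ b = s j • e := fun j => by
    have h := hs₁' j (Submodule.Quotient.mk e)
    rw [← Submodule.Quotient.mk_smul, Submodule.Quotient.mk_eq_zero] at h
    obtain ⟨b, hb⟩ := h
    exact ⟨s₂ j • b, by rw [map_smul, show φ b = _ from hb, smul_smul, mul_comm]⟩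
  choose b hb using hse
  let sB : ι → B := fun j => algebraMap A B (s j)
  have hidem : ∀ j, sB j * (b j * (b j - sB j)) = 0 := fun j => by
    have h : φ (b j * (b j - sB j)) = 0 := by
      rw [map_mul, map_sub, φ.commutes, hb, Algebra.smul_def, mul_sub, mul_mul_mul_comm, he]
      ring
    rw [← Algebra.smul_def]
    exact hsk j _ h
  have hagree : ∀ i j, sB i * (sB i * b j - sB j * b i) = 0 := fun i j => by
    rw [← Algebra.smul_def]
    refine hsk i _ ?_
    rw [map_sub, map_mul, map_mul, φ.commutes, φ.commutes, hb, hb, Algebra.smul_def, Algebra.smul_def]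
    ring
  have hmod : ∀ j, s j - g j ^ (M₁ j + M₂ j) ∈ Ideal.span {f} := fun j => by
    have : s j - g j ^ (M₁ j + M₂ j) = (s₁ j - g j ^ M₁ j) * s₂ j + g j ^ M₁ j * (s₂ j - g j ^ M₂ j) := by
      simp only [s]; ring
    rw [this]
    exact add_mem (Ideal.mul_mem_right _ _ (hs₁ j)) (Ideal.mul_mem_left _ _ (hs₂ j))
  have hval : ∀ j (P : PrimeSpectrum (Lof (Rn f B 0) (g j))),
      sB j ∉ (toS j P).1.asIdeal ∧ (b j ∉ (toS j P).1.asIdeal ↔ (toS j P).1 ∈ C₀) := fun j P => by
    have hu : IsUnit (algebraMap A (Lof (Rn f B 0) (g j)) (s j)) := by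
      rw [← sub_add_cancel (s j) (g j ^ (M₁ j + M₂ j)), map_add, hfL j _ (hmod j), zero_add, map_pow]
      exact (isUnit_lof _).pow _
    have h1 : χ j (b j) = algebraMap A _ (s j) * e₀ j := by
      have h := congrFun (congrArg Subtype.val (congrFun (congrArg Subtype.val (hb j)) 0)) j
      rw [hφ] at h
      exact h.trans (Algebra.smul_def (s j) (e₀ j))
    refine ⟨fun h => P.2.ne_top (Ideal.eq_top_of_isUnit_mem _ (show χ j (sB j) ∈ P.asIdeal from h)
      (by rw [(χ j).commutes]; exact hu)), ?_⟩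
    rw [← hK' j P]
    refine not_congr ?_
    show χ j (b j) ∈ P.asIdeal ↔ _
    rw [h1]
    exact Ideal.unit_mul_mem_iff_mem _ hu
  -- every point of the hypersurface comes from a localisation
  have hlift : ∀ q ∈ S0set g f B, ∃ j P, (toS j P).1 = q := by
    rintro q ⟨hfq, j, hjq⟩
    have hle : Jn f B 0 ≤ q.asIdeal := by
      rwa [Jn, Ideal.span_singleton_le_iff_mem, zero_add, pow_one]
    obtain ⟨q', hq'⟩ : q ∈ Set.range (PrimeSpectrum.comap (Ideal.Quotient.mk (Jn f B 0))) := by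
      rw [range_comap_of_surjective _ _ Ideal.Quotient.mk_surjective, Ideal.mk_ker, PrimeSpectrum.mem_zeroLocus]
      exact hle
    obtain ⟨P, hP⟩ : q' ∈ Set.range (PrimeSpectrum.comap (algebraMap (Rn f B 0) (Lof (Rn f B 0) (g j)))) := by
      rw [PrimeSpectrum.localization_away_comap_range _ (algebraMap A (Rn f B 0) (g j))]
      show algebraMap A (Rn f B 0) (g j) ∉ q'.asIdeal
      rw [← hq'] at hjq
      exact hjq
    refine ⟨j, P, ?_⟩
    rw [← hq', ← hP]
    rfl
  refine ⟨{q | ∃ j, sB j * b j ∉ q.asIdeal}, {q | ∃ j, sB j * (sB j - b j) ∉ q.asIdeal}, ?_, ?_, ?_, ?_, ?_⟩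
  · rw [Set.setOf_exists]
    exact isOpen_iUnion fun j => (PrimeSpectrum.basicOpen (sB j * b j)).2
  · rw [Set.setOf_exists]
    exact isOpen_iUnion fun j => (PrimeSpectrum.basicOpen (sB j * (sB j - b j))).2
  · refine Set.disjoint_left.2 fun q ⟨i, hi⟩ ⟨j, hj⟩ => ?_
    have hI := q.2
    obtain ⟨hsi, hbi⟩ := notMem_and_of_mul hi
    obtain ⟨hsj, hsbj⟩ := notMem_and_of_mul hj
    have hag : sB i * b j - sB j * b i ∈ q.asIdeal :=
      (hI.mem_or_mem ((hagree i j).symm ▸ q.asIdeal.zero_mem)).resolve_left hsi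
    have hbj : b j ∈ q.asIdeal := by
      refine (hI.mem_or_mem ((hI.mem_or_mem ((hidem j).symm ▸ q.asIdeal.zero_mem)).resolve_left hsj)).resolve_right
        fun hh => hsbj ?_
      rw [← neg_sub]
      exact neg_mem hh
    have h2 := q.asIdeal.sub_mem (q.asIdeal.mul_mem_left (sB i) hbj) hag
    rw [sub_sub_cancel] at h2
    exact (hI.mem_or_mem h2).elim hsj hbi
  · intro q hq
    obtain ⟨j, P, rfl⟩ := hlift q hq
    obtain ⟨h1, h2⟩ := hval j P
    by_cases hb' : b j ∈ (toS j P).1.asIdeal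
    · refine Or.inr ⟨j, (toS j P).1.2.mul_notMem h1 fun hh => h1 ?_⟩
      have := (toS j P).1.asIdeal.add_mem hh hb'
      rwa [sub_add_cancel] at this
    · exact Or.inl ⟨j, (toS j P).1.2.mul_notMem h1 hb'⟩
  · intro q hq
    obtain ⟨j, P, rfl⟩ := hlift q hq
    obtain ⟨h1, h2⟩ := hval j P
    refine ⟨fun ⟨i, hi⟩ => ?_, fun h => ⟨j, (toS j P).1.2.mul_notMem h1 (h2.2 h)⟩⟩
    have hI := (toS j P).1.2
    obtain ⟨hsi, hbi⟩ := notMem_and_of_mul hi
    refine h2.1 fun hbj => hbi ?_
    have hag : sB i * b j - sB j * b i ∈ (toS j P).1.asIdeal :=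
      (hI.mem_or_mem ((hagree i j).symm ▸ (toS j P).1.asIdeal.zero_mem)).resolve_left hsi
    have h3 := (toS j P).1.asIdeal.sub_mem ((toS j P).1.asIdeal.mul_mem_left (sB i) hbj) hag
    rw [sub_sub_cancel] at h3
    exact (hI.mem_or_mem h3).resolve_left h1

end Groth.Agent.HyperAlg
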