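import Groth.Agent.HyperAlg.GermDim
import Mathlib.RingTheory.Ideal.GoingDown

/-! Separation of clopens component by component. -/

set_option autoImplicit false
set_option linter.style.haveILetI false
set_option backward.isDefEq.respectTransparency false
set_option backward.isDefEq.respectTransparency.types false
set_option maxHeartbeats 1000000

universe u

attribute [local instance] HasDerivedCategory.standard

noncomputable section

namespace Groth.Agent.HyperAlg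

variable {A : Type u} [CommRing A] [IsNoetherianRing A] [IsLocalRing A] {ι : Type u} [Finite ι] (g : ι → A) (f : A)

theorem clopenExt_of_components [IsAdicComplete (Ideal.span {f}) A] (hd : ∃ ω : Dual.D A, Dual.IsDualizing A ω)
    (hg : Ideal.span (Set.range g) = IsLocalRing.maximalIdeal A) (B : Type u) [CommRing B] [Algebra A B]
    [Module.Finite A B]
    (h : ∀ Q ∈ minimalPrimes B, algebraMap A B f ∉ Q → (∃ q ∈ S0set g f B, Q ≤ q.asIdeal) →
      (3 : WithBot ℕ∞) ≤ ringKrullDim (A ⧸ Q.comap (algebraMap A B))) :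
    ClopenExt g f B := by
  classical
  haveI : IsNoetherianRing B := IsNoetherianRing.of_finite A B
  intro C₀ hC
  let S₀ := S0set g f B
  let X := HyperFEt.XB B g
  let V : Ideal B → Set (PrimeSpectrum B) := fun Q => PrimeSpectrum.zeroLocus (Q : Set B)
  -- each component is on one side
  have hside : ∀ Q ∈ minimalPrimes B, algebraMap A B f ∉ Q →
      V Q ∩ S₀ ⊆ C₀ ∨ Disjoint (V Q ∩ S₀) C₀ := fun Q hQ hfQ => by
    haveI : Q.IsPrime := hQ.1.1
    rcases Set.eq_empty_or_nonempty (V Q ∩ S₀) with he | ⟨q, hqQ, hqS⟩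
    · exact Or.inl (he ▸ Set.empty_subset _)
    let D := B ⧸ Q
    let ρ : PrimeSpectrum D → PrimeSpectrum B := PrimeSpectrum.comap (Ideal.Quotient.mk Q)
    have hS : ∀ r, ρ r ∈ S₀ ↔ r ∈ S0set g f D := fun r => Iff.rfl
    let ρ₀ : S0set g f D → S₀ := fun r => ⟨ρ r, (hS r).2 r.2⟩
    have hρ₀ : Continuous ρ₀ := ((PrimeSpectrum.continuous_comap _).comp continuous_subtype_val).subtype_mk _
    have hker : RingHom.ker (algebraMap A D) = Q.comap (algebraMap A B) := by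
      rw [show algebraMap A D = (Ideal.Quotient.mk Q).comp (algebraMap A B) from rfl, ← RingHom.comap_ker, Ideal.mk_ker]
    have hfD : algebraMap A D f ≠ 0 := fun h0 => hfQ (Ideal.Quotient.eq_zero_iff_mem.1 h0)
    have hrange : ∀ r ∈ V Q, r ∈ Set.range ρ := fun r hr => by
      show r ∈ Set.range (PrimeSpectrum.comap (Ideal.Quotient.mk Q))
      rw [range_comap_of_surjective _ _ Ideal.Quotient.mk_surjective, Ideal.mk_ker]
      exact hr
    refine (s0set_trivial g f hd hg D hfD (hker ▸ h Q hQ hfQ ⟨q, hqS, hqQ⟩) (ρ ⁻¹' C₀) (hC.preimage hρ₀)).imp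
      (fun h1 r hr => ?_) (fun h1 => Set.disjoint_left.2 fun r hr hrC => ?_)
    · obtain ⟨p, rfl⟩ := hrange r hr.1
      exact h1 ((hS p).1 hr.2)
    · obtain ⟨p, rfl⟩ := hrange r hr.1
      exact Set.disjoint_left.1 h1 ((hS p).1 hr.2) hrC
  -- the unions of components
  let T : (Set (PrimeSpectrum B) → Prop) → Set (PrimeSpectrum B) := fun P =>
    ⋃ Q ∈ {Q ∈ minimalPrimes B | algebraMap A B f ∉ Q ∧ P (V Q ∩ S₀)}, V Q
  have hT : ∀ P, IsClosed (T P) := fun P =>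
    Set.Finite.isClosed_biUnion ((minimalPrimes.finite_of_isNoetherianRing B).subset fun Q hQ => hQ.1)
      fun Q _ => PrimeSpectrum.isClosed_zeroLocus _
  let F₁ := T (fun s => s.Nonempty ∧ s ⊆ C₀) ∪ closure (S₀ ∩ C₀)
  let F₂ := T (fun s => s.Nonempty ∧ Disjoint s C₀) ∪ closure (S₀ \ C₀)
  let F₃ := T (fun s => ¬ s.Nonempty)
  have hX : IsOpen X := by
    have : X = ⋃ j, (PrimeSpectrum.basicOpen (algebraMap A B (g j)) : Set (PrimeSpectrum B)) :=
      Set.ext fun q => ⟨fun ⟨j, hj⟩ => Set.mem_iUnion.2 ⟨j, hj⟩, fun hq => Set.mem_iUnion.1 hq⟩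
    rw [this]
    exact isOpen_iUnion fun j => (PrimeSpectrum.basicOpen _).2
  have hclos : ∀ s : Set (PrimeSpectrum B), IsClosed ((↑) ⁻¹' s : Set S₀) → closure (S₀ ∩ s) ∩ S₀ ⊆ s := by
    rintro s hs q ⟨hq, hqS⟩
    obtain ⟨Z, hZ, hZs⟩ := isClosed_induced_iff.1 hs
    have : S₀ ∩ s ⊆ Z := fun r hr => (Set.ext_iff.1 hZs ⟨r, hr.1⟩).2 hr.2
    exact (Set.ext_iff.1 hZs ⟨q, hqS⟩).1 (closure_minimal this hZ hq)
  have hq1 : ∀ q ∈ S₀, q ∈ C₀ → q ∉ F₂ ∪ F₃ := by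
    rintro q hq hqC ((hT2 | hcl) | hT3)
    · obtain ⟨Q, ⟨_, _, _, hd'⟩, hqQ⟩ := Set.mem_iUnion₂.1 hT2
      exact Set.disjoint_left.1 hd' ⟨hqQ, hq⟩ hqC
    · exact hclos C₀ᶜ (by rw [Set.preimage_compl]; exact hC.2.isClosed_compl) ⟨(Set.sdiff_eq S₀ C₀) ▸ hcl, hq⟩ hqC
    · obtain ⟨Q, ⟨_, _, hne⟩, hqQ⟩ := Set.mem_iUnion₂.1 hT3
      exact hne ⟨q, hqQ, hq⟩
  have hq2 : ∀ q ∈ S₀, q ∉ C₀ → q ∉ F₁ ∪ F₃ := by
    rintro q hq hqC ((hT1 | hcl) | hT3)
    · obtain ⟨Q, ⟨_, _, _, hs⟩, hqQ⟩ := Set.mem_iUnion₂.1 hT1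
      exact hqC (hs ⟨hqQ, hq⟩)
    · exact hqC (hclos C₀ hC.1 ⟨hcl, hq⟩)
    · obtain ⟨Q, ⟨_, _, hne⟩, hqQ⟩ := Set.mem_iUnion₂.1 hT3
      exact hne ⟨q, hqQ, hq⟩
  have hall : ∀ q ∈ X, q ∈ F₁ ∨ q ∈ F₂ ∨ q ∈ F₃ := fun q hqX => by
    obtain ⟨Q, hQ, hQq⟩ := Ideal.exists_minimalPrimes_le (show (⊥ : Ideal B) ≤ q.asIdeal from bot_le)
    by_cases hfQ : algebraMap A B f ∈ Q
    · by_cases hqC : q ∈ C₀
      · exact Or.inl (Or.inr (subset_closure ⟨⟨hQq hfQ, hqX⟩, hqC⟩))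
      · exact Or.inr (Or.inl (Or.inr (subset_closure ⟨⟨hQq hfQ, hqX⟩, hqC⟩)))
    · by_cases hne : (V Q ∩ S₀).Nonempty
      · rcases hside Q hQ hfQ with hs | hs
        · exact Or.inl (Or.inl (Set.mem_iUnion₂.2 ⟨Q, ⟨hQ, hfQ, hne, hs⟩, hQq⟩))
        · exact Or.inr (Or.inl (Or.inl (Set.mem_iUnion₂.2 ⟨Q, ⟨hQ, hfQ, hne, hs⟩, hQq⟩)))
      · exact Or.inr (Or.inr (Set.mem_iUnion₂.2 ⟨Q, ⟨hQ, hfQ, hne⟩, hQq⟩))
  have hF₁ : IsClosed F₁ := IsClosed.union (hT fun s => s.Nonempty ∧ s ⊆ C₀) isClosed_closure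
  have hF₂ : IsClosed F₂ := IsClosed.union (hT fun s => s.Nonempty ∧ Disjoint s C₀) isClosed_closure
  refine ⟨X \ (F₂ ∪ F₃), X \ (F₁ ∪ F₃), hX.sdiff (hF₂.union (hT fun s => ¬ s.Nonempty)), hX.sdiff (hF₁.union (hT fun s => ¬ s.Nonempty)), ?_, ?_, ?_⟩
  · refine Set.disjoint_left.2 fun q ⟨hqX, h2⟩ ⟨_, h1⟩ => ?_
    rcases hall q hqX with h | h | h
    · exact h1 (Or.inl h)
    · exact h2 (Or.inl h)
    · exact h2 (Or.inr h)
  · intro q hq
    by_cases hqC : q ∈ C₀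
    · exact Or.inl ⟨hq.2, hq1 q hq hqC⟩
    · exact Or.inr ⟨hq.2, hq2 q hq hqC⟩
  · intro q hq
    refine ⟨fun ⟨_, hn⟩ => by_contra fun hqC => ?_, fun hqC => ⟨hq.2, hq1 q hq hqC⟩⟩
    exact hn (Or.inl (Or.inr (subset_closure ⟨hq, hqC⟩)))

/-- Minimal primes of an algebra flat near them contract to minimal primes. -/
theorem comap_mem_minimalPrimes (B : Type u) [CommRing B] [Algebra A B] (a : A)
    [Module.Flat A (Localization.Away (algebraMap A B a))] {Q : Ideal B} (hQ : Q ∈ minimalPrimes B)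
    (ha : algebraMap A B a ∉ Q) : Q.comap (algebraMap A B) ∈ minimalPrimes A := by
  haveI : Q.IsPrime := hQ.1.1
  obtain ⟨p₀, hp₀, hle⟩ := Ideal.exists_minimalPrimes_le (show (⊥ : Ideal A) ≤ Q.comap (algebraMap A B) from bot_le)
  haveI : p₀.IsPrime := hp₀.1.1
  let Bb := Localization.Away (algebraMap A B a)
  have hdis : Disjoint (Submonoid.powers (algebraMap A B a) : Set B) (Q : Set B) := by
    refine Set.disjoint_left.2 ?_
    rintro _ ⟨n, rfl⟩ hn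
    exact ha (Ideal.IsPrime.mem_of_pow_mem ‹_› n hn)
  let P := Q.map (algebraMap B Bb)
  haveI : P.IsPrime := IsLocalization.isPrime_of_isPrime_disjoint (Submonoid.powers (algebraMap A B a)) Bb Q ‹_› hdis
  have hcomap : P.comap (algebraMap B Bb) = Q :=
    IsLocalization.under_map_of_isPrime_disjoint (Submonoid.powers (algebraMap A B a)) Bb ‹_› hdis
  haveI : P.LiesOver (Q.comap (algebraMap A B)) := ⟨by
    show _ = P.comap (algebraMap A Bb)
    rw [IsScalarTower.algebraMap_eq A B Bb, ← Ideal.comap_comap, hcomap]⟩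
  obtain ⟨P', hP'le, hP'p, hP'o⟩ := Ideal.exists_ideal_le_liesOver_of_le (p := p₀) (q := Q.comap (algebraMap A B)) P hle
  have hQ' : (P'.comap (algebraMap B Bb)) = Q := by
    refine le_antisymm (hcomap ▸ Ideal.comap_mono hP'le) (hQ.2 ⟨inferInstance, bot_le⟩ ?_)
    exact hcomap ▸ Ideal.comap_mono hP'le
  have : p₀ = Q.comap (algebraMap A B) := by
    rw [hP'o.over]
    show P'.comap (algebraMap A Bb) = _
    rw [IsScalarTower.algebraMap_eq A B Bb, ← Ideal.comap_comap, hQ']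
  exact this ▸ hp₀

end Groth.Agent.HyperAlg
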