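import Groth.Agent.HyperAlg.GermTors
import Groth.Agent.S1765
import Groth.Agent.DualCxLib.DimFn
import Groth.Agent.RegLocLib.S1Open
import Mathlib.RingTheory.KrullDimension.NonZeroDivisors

/-! Connectedness of punctured hypersurface sections of domains of dimension at least three. -/

set_option autoImplicit false
set_option linter.style.haveILetI false
set_option backward.isDefEq.respectTransparency false
set_option backward.isDefEq.respectTransparency.types false
set_option maxHeartbeats 600000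

universe u

open CategoryTheory

attribute [local instance] HasDerivedCategory.standard

noncomputable section

namespace Groth.Agent.HyperAlg

open PuncSecLib

variable {A : Type u} [CommRing A] [IsNoetherianRing A]

theorem one_le_depth_localized (M : Type u) [AddCommGroup M] [Module A M] [Module.Finite A M] (p : PrimeSpectrum A)
    (h : p.asIdeal ∉ associatedPrimes A M) :
    1 ≤ LocCoh.depth (Localization.AtPrime p.asIdeal) (LocalizedModule p.asIdeal.primeCompl M) := by
  haveI : Module.Finite (Localization.AtPrime p.asIdeal) (LocalizedModule p.asIdeal.primeCompl M) :=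
    Module.Finite.of_isLocalizedModule p.asIdeal.primeCompl (LocalizedModule.mkLinearMap _ _)
  refine RegLocLib.one_le_depth_iff_not_mem.2 fun hm => h ?_
  have := Module.associatedPrimes.comap_mem_associatedPrimes_of_mem_associatedPrimes_of_isLocalizedModule_of_fg
    (R' := Localization.AtPrime p.asIdeal) p.asIdeal.primeCompl (LocalizedModule.mkLinearMap p.asIdeal.primeCompl M)
    _ hm (IsNoetherian.noetherian _)
  rwa [← Ideal.under_def, Localization.AtPrime.under_maximalIdeal] at this

/-- Finiteness of the first local cohomology through associated primes. -/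
theorem finite_H_one_crit (hA : ∃ ω : Dual.D A, Dual.IsDualizing A ω) (I : Ideal A) (M : Type u) [AddCommGroup M]
    [Module A M] [Module.Finite A M]
    (h : ∀ p q : PrimeSpectrum A, p.asIdeal ∈ associatedPrimes A M → ¬ I ≤ p.asIdeal → I ≤ q.asIdeal → p ≤ q →
      ∃ r, p < r ∧ r < q) :
    Module.Finite A (LocCoh.H I 1 M) := by
  let J : Ideal A :=
    { carrier := {a | ∀ i ≤ 1, ∀ z : LocCoh.H I i M, a • z = 0}
      add_mem' := fun ha hb j hj z => by rw [add_smul, ha j hj z, hb j hj z, add_zero]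
      zero_mem' := fun j hj z => zero_smul A z
      smul_mem' := fun c a ha j hj z => by rw [smul_eq_mul, mul_smul, ha j hj z, smul_zero] }
  refine ((Groth.Agent.S0329.result A I M 1).2 ⟨J, ?_, fun i hi a ha x => ha i hi x⟩) 1 le_rfl
  rw [Ideal.radical_eq_sInf]
  refine le_sInf fun P ⟨hJP, hP⟩ => by_contra fun hI => ?_
  obtain ⟨f, hf, hkill⟩ := Groth.Agent.S1765.result A hA I M ⟨P, hP⟩ hI 1 fun p q hp hq hpq => by
    have hIp : ¬ I ≤ p.asIdeal := fun hc => hI (hc.trans hp)
    have hlt : p < q := lt_of_le_of_ne hpq fun hc => hIp (hc ▸ hq)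
    let e0 : Set.Icc p q := ⟨p, le_rfl, hpq⟩
    let e2 : Set.Icc p q := ⟨q, hpq, le_rfl⟩
    by_cases hass : p.asIdeal ∈ associatedPrimes A M
    · obtain ⟨r, hpr, hrq⟩ := h p q hass hIp hq hpq
      let e1 : Set.Icc p q := ⟨r, hpr.le, hrq.le⟩
      let l : LTSeries (Set.Icc p q) := (((RelSeries.singleton _ e0).snoc e1 hpr).snoc e2 (by
        rw [RelSeries.last_snoc]; exact hrq))
      have h2 : (2 : WithBot ℕ∞) ≤ Order.krullDim (Set.Icc p q) := by
        exact_mod_cast Order.LTSeries.length_le_krullDim l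
      calc ((1 : ℕ) : WithBot ℕ∞) < 2 := by norm_num
        _ ≤ _ := h2
        _ ≤ _ := le_add_of_nonneg_left (WithBot.coe_le_coe.2 zero_le)
    · let l : LTSeries (Set.Icc p q) := (RelSeries.singleton _ e0).snoc e2 hlt
      have h1 : (1 : WithBot ℕ∞) ≤ Order.krullDim (Set.Icc p q) := by
        exact_mod_cast Order.LTSeries.length_le_krullDim l
      calc ((1 : ℕ) : WithBot ℕ∞) < 2 := by norm_num
        _ = 1 + 1 := by norm_num
        _ ≤ _ := add_le_add (WithBot.coe_le_coe.2 (one_le_depth_localized M p hass)) h1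
  exact hf (hJP (show f ∈ J from hkill))

/-- A prime covered by `q` has no prime two steps below it when the dimension is at least three. -/
theorem exists_between [IsLocalRing A] {ω : Dual.D A} (hω : Dual.IsDualizing A ω) {p P : PrimeSpectrum A}
    (hdim : (3 : WithBot ℕ∞) ≤ ringKrullDim (A ⧸ p.asIdeal)) (hpP : p < P)
    (hP : P ⋖ IsLocalRing.closedPoint A) : ∃ r, p < r ∧ r < P := by
  by_contra hcon
  push Not at hcon
  have h1 : DualCxLib.dfn hω P = DualCxLib.dfn hω p + 1 :=
    DualCxLib.dfn_covBy hω ⟨hpP, fun r hr hr' => hcon r hr hr'⟩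
  have h2 := DualCxLib.dfn_covBy hω hP
  rw [ringKrullDim_quotient] at hdim
  obtain ⟨l, hl⟩ := Order.le_krullDim_iff.1 (show ((3 : ℕ) : WithBot ℕ∞) ≤ _ from hdim)
  let i0 : Fin (l.length + 1) := ⟨0, by omega⟩
  let i1 : Fin (l.length + 1) := ⟨1, by omega⟩
  let i2 : Fin (l.length + 1) := ⟨2, by omega⟩
  let i3 : Fin (l.length + 1) := ⟨3, by omega⟩
  have e1 := DualCxLib.dfn_lt hω (show (l i0).1 < (l i1).1 from l.strictMono (show i0 < i1 from Nat.one_pos))
  have e2 := DualCxLib.dfn_lt hω (show (l i1).1 < (l i2).1 from l.strictMono (show i1 < i2 from Nat.lt_succ_self 1))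
  have e3 := DualCxLib.dfn_lt hω (show (l i2).1 < (l i3).1 from l.strictMono (show i2 < i3 from Nat.lt_succ_self 2))
  have e0 := DualCxLib.dfn_le hω (show p ≤ (l i0).1 from (l i0).2)
  have e4 := DualCxLib.dfn_le hω (show (l i3).1 ≤ IsLocalRing.closedPoint A from
    IsLocalRing.le_maximalIdeal (l i3).1.2.ne_top)
  omega

theorem finite_cech_of_injective {κ : Type u} [Finite κ] (g : κ → A) (R : Type u) [CommRing R] [Algebra A R]
    [Module.Finite A R] (hinj : Function.Injective (toCech g R))
    (hH : Module.Finite A (LocCoh.H (Ideal.span (Set.range g)) 1 R)) : Module.Finite A (cechSub g R) := by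
  classical
  let β := (toCech g R).toLinearMap
  refine finite_of_submodule g (isClosedMod_cech g) (LinearMap.range β)
    (fun j z => (cech_num g j z).imp fun k ⟨b, hb⟩ => ⟨b, hb⟩) ?_
  haveI := hH
  exact Module.Finite.equiv (((localCohomology (Ideal.span (Set.range g)) 1).mapIso
    (LinearEquiv.ofInjective β hinj).toModuleIso).toLinearEquiv)

theorem toCech_injective {κ : Type u} (g : κ → A) (D : Type u) [CommRing D] [IsDomain D] [Algebra A D] (j₀ : κ)
    (h0 : algebraMap A D (g j₀) ≠ 0) : Function.Injective (toCech g D) := by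
  refine (injective_iff_map_eq_zero (toCech g D)).2 fun b hb => ?_
  obtain ⟨k, hk⟩ := toCech_eq_zero g hb j₀
  rw [Algebra.smul_def, map_pow] at hk
  exact (mul_eq_zero.1 hk).resolve_left (pow_ne_zero _ h0)

theorem isDomain_cech {κ : Type u} [Finite κ] (g : κ → A) (D : Type u) [CommRing D] [IsDomain D] [Algebra A D] (j₀ : κ)
    (h0 : algebraMap A D (g j₀) ≠ 0) : IsDomain (cechSub g D) := by
  haveI : IsDomain (Lof D (g j₀)) :=
    IsLocalization.isDomain_localization (powers_le_nonZeroDivisors_of_noZeroDivisors h0)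
  let π₀ : cechSub g D →+* Lof D (g j₀) := ((Pi.evalRingHom _ j₀).comp (cechSub g D).val.toRingHom)
  refine Function.Injective.isDomain π₀ ((injective_iff_map_eq_zero π₀).2 fun x hx => ?_)
  obtain ⟨k, hk⟩ := cech_torsion g (x := x) hx
  refine (isClosedMod_cech (R := D) g).sep x fun i => ?_
  obtain ⟨l, b, hb⟩ := cech_num g i x
  have h1 : toCech g D (g j₀ ^ k • b) = 0 := by rw [map_smul, hb, smul_comm, hk, smul_zero]
  rw [← map_zero (toCech g D)] at h1
  have hb0 := toCech_injective g D j₀ h0 h1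
  rw [Algebra.smul_def, map_pow] at hb0
  exact ⟨l, hb.symm.trans (by rw [(mul_eq_zero.1 hb0).resolve_left (pow_ne_zero _ h0), map_zero])⟩

theorem ass_cech {κ : Type u} [Finite κ] (g : κ → A) (f : A) (D : Type u) [CommRing D] [Algebra A D]
    (hinj : Function.Injective (toCech g D)) (hreg : IsSMulRegular (cechSub g D) f) {Q : Ideal A}
    (hQ : Q ∈ associatedPrimes A (Rn f (cechSub g D) 0)) :
    ¬ Ideal.span (Set.range g) ≤ Q ∧ Q ∈ associatedPrimes A (Rn f D 0) := by
  classical
  obtain ⟨hQp, x, hx⟩ := isAssociatedPrime_iff.1 hQ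
  obtain ⟨z, rfl⟩ := Ideal.Quotient.mk_surjective x
  have hmem : ∀ a, a ∈ Q ↔ ∃ w, f • w = a • z := fun a => by
    rw [hx, Submodule.mem_colon_singleton, Submodule.mem_bot, smul_mk, mk_eq_zero_iff, zero_add, pow_one]
  have hnot : ¬ Ideal.span (Set.range g) ≤ Q := fun hle => by
    choose w hw using fun i => (hmem (g i)).1 (hle (Ideal.subset_span ⟨i, rfl⟩))
    obtain ⟨y, hy⟩ := (isClosedMod_cech (R := D) g).glue 1 w fun i j => hreg (by
      show f • g j ^ 1 • w i = f • g i ^ 1 • w j
      rw [pow_one, pow_one, smul_comm, hw, smul_comm f (g i), hw, smul_comm])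
    refine hQp.ne_top ((Ideal.eq_top_iff_one _).2 ((hmem 1).2 ⟨y, ?_⟩))
    rw [one_smul, ← sub_eq_zero]
    refine (isClosedMod_cech (R := D) g).sep _ fun i => ⟨1, ?_⟩
    have h1 := hy i
    rw [pow_one] at h1
    rw [pow_one, smul_sub, smul_comm, h1, hw, sub_self]
  refine ⟨hnot, ?_⟩
  obtain ⟨i, hi⟩ : ∃ i, g i ∉ Q := by
    by_contra hall
    push Not at hall
    exact hnot (Ideal.span_le.2 (Set.range_subset_iff.2 hall))
  obtain ⟨k, b, hb⟩ := cech_num g i z
  obtain ⟨S, hS⟩ := IsNoetherian.noetherian Q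
  have hl : ∀ a : S, ∃ (l : ℕ) (c : D), f • c = g i ^ l • (a : A) • b := fun a => by
    obtain ⟨w, hw⟩ := (hmem a).1 (hS ▸ Ideal.subset_span a.2)
    obtain ⟨l, c, hc⟩ := cech_num g i w
    refine ⟨l, g i ^ k • c, hinj ?_⟩
    rw [map_smul, map_smul, map_smul, map_smul, hc, hb, smul_comm (a : A), ← hw, smul_comm f, smul_comm f,
      smul_comm (g i ^ k)]
  choose l c hlc using hl
  let L := Finset.univ.sup l
  refine isAssociatedPrime_iff.2 ⟨hQp, Ideal.Quotient.mk _ (g i ^ L • b), ?_⟩
  ext a
  rw [Submodule.mem_colon_singleton, Submodule.mem_bot, smul_mk, mk_eq_zero_iff, zero_add, pow_one]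
  constructor
  · intro ha
    rw [← hS] at ha
    induction ha using Submodule.span_induction with
    | mem a ha =>
      refine ⟨g i ^ (L - l ⟨a, ha⟩) • c ⟨a, ha⟩, ?_⟩
      rw [smul_comm, hlc, smul_smul, ← pow_add, Nat.sub_add_cancel (Finset.le_sup (f := l) (Finset.mem_univ _)),
        smul_comm]
    | zero => exact ⟨0, by rw [smul_zero, zero_smul]⟩
    | add a a' _ _ h h' =>
      obtain ⟨u, hu⟩ := h
      obtain ⟨v, hv⟩ := h'
      exact ⟨u + v, by rw [smul_add, hu, hv, add_smul]⟩
    | smul r a _ h =>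
      obtain ⟨u, hu⟩ := h
      exact ⟨r • u, by rw [smul_comm, hu, smul_smul]; rfl⟩
  · rintro ⟨e, he⟩
    have := congrArg (toCech g D) he
    rw [map_smul, map_smul, map_smul, hb, smul_smul (g i ^ L), smul_smul a, ← pow_add] at this
    exact (hQp.mem_or_mem ((hmem _).2 ⟨_, this⟩)).resolve_right fun hh => hi (hQp.mem_of_pow_mem _ hh)

variable [IsLocalRing A] {ι : Type u} [Finite ι] (g : ι → A) (f : A)

/-- The punctured hypersurface section of a domain is connected. -/
theorem s0set_trivial [IsAdicComplete (Ideal.span {f}) A] (hd : ∃ ω : Dual.D A, Dual.IsDualizing A ω)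
    (hg : Ideal.span (Set.range g) = IsLocalRing.maximalIdeal A) (D : Type u) [CommRing D] [IsDomain D] [Algebra A D]
    [Module.Finite A D] (hfD : algebraMap A D f ≠ 0)
    (hdim : (3 : WithBot ℕ∞) ≤ ringKrullDim (A ⧸ RingHom.ker (algebraMap A D)))
    (C₀ : Set (PrimeSpectrum D)) (hC : IsClopen ((↑) ⁻¹' C₀ : Set (S0set g f D))) :
    S0set g f D ⊆ C₀ ∨ Disjoint (S0set g f D) C₀ := by
  classical
  obtain ⟨ω, hω⟩ := hd
  let p : PrimeSpectrum A := ⟨RingHom.ker (algebraMap A D), RingHom.ker_isPrime _⟩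
  -- the bad primes
  let bad : Set (Ideal A) := {Q | Q ∈ associatedPrimes A (Rn f D 0) ∧
    ∃ h : Q.IsPrime, (⟨Q, h⟩ : PrimeSpectrum A) ⋖ IsLocalRing.closedPoint A}
  have hbad : bad.Finite := (associatedPrimes.finite A (Rn f D 0)).subset fun Q hQ => hQ.1
  let J : Ideal A := hbad.toFinset.inf id
  have hass : ∀ Q ∈ associatedPrimes A (Rn f D 0), f ∈ Q ∧ RingHom.ker (algebraMap A D) ≤ Q := fun Q hQ => by
    obtain ⟨hQp, x, hx⟩ := isAssociatedPrime_iff.1 hQ
    obtain ⟨x, rfl⟩ := Ideal.Quotient.mk_surjective x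
    constructor
    · rw [hx, Submodule.mem_colon_singleton, Submodule.mem_bot, smul_mk]
      exact mk_eq_zero_iff.2 ⟨x, by rw [zero_add, pow_one]⟩
    · intro a ha
      rw [hx, Submodule.mem_colon_singleton, Submodule.mem_bot, smul_mk, Algebra.smul_def,
        (show algebraMap A D a = 0 from ha), zero_mul, map_zero]
  have hfJ : f ∈ J := Submodule.mem_finsetInf.2 fun Q hQ => (hass Q (hbad.mem_toFinset.1 hQ).1).1
  obtain ⟨G, hG⟩ := IsNoetherian.noetherian J
  let g' : ((insert f (G : Set A) : Set A) : Type u) → A := fun a => a.1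
  haveI : Finite ((insert f (G : Set A) : Set A) : Type u) := (G.finite_toSet.insert f).to_subtype
  have hg' : Ideal.span (Set.range g') = J := by
    rw [show Set.range g' = insert f (G : Set A) from Subtype.range_coe, Ideal.span_insert,
      show Ideal.span (G : Set A) = J from hG]
    exact sup_eq_right.2 ((Ideal.span_singleton_le_iff_mem J).2 hfJ)
  -- the extension
  let E := cechSub g' D
  let φ := toCech g' D
  let j₀ : ((insert f (G : Set A) : Set A) : Type u) := ⟨f, Set.mem_insert _ _⟩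
  have hφ : Function.Injective φ := toCech_injective g' D j₀ hfD
  haveI : Module.Finite A E := by
    refine finite_cech_of_injective g' D hφ ?_
    · refine finite_H_one_crit ⟨ω, hω⟩ _ D fun r q hr hIr hIq hrq => ?_
      obtain ⟨hrp, x, hx⟩ := isAssociatedPrime_iff.1 hr
      have hrker : r.asIdeal = p.asIdeal := by
        rw [hx]
        ext a
        rw [Submodule.mem_colon_singleton, Submodule.mem_bot, Algebra.smul_def]
        have hx0 : x ≠ 0 := fun h0 => hrp.ne_top (hx.trans ((Ideal.eq_top_iff_one _).2 (by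
          rw [Submodule.mem_colon_singleton, Submodule.mem_bot, h0, smul_zero])))
        exact (mul_eq_zero_iff_right hx0).trans RingHom.mem_ker.symm
      obtain rfl : r = p := PrimeSpectrum.ext hrker
      rw [hg'] at hIq
      obtain ⟨Q, hQ, hQq⟩ := (Ideal.IsPrime.inf_le' q.2).1 hIq
      obtain ⟨hQass, hQp, hQc⟩ := hbad.mem_toFinset.1 hQ
      obtain ⟨a, hpa, haQ⟩ := exists_between hω (p := p) (P := ⟨Q, hQp⟩) hdim
        (lt_of_le_of_ne (hass Q hQass).2 fun hc => hfD (by
          have : f ∈ p.asIdeal := by rw [hc]; exact (hass Q hQass).1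
          exact this)) hQc
      exact ⟨a, hpa, haQ.trans_le hQq⟩
  haveI : IsDomain E := isDomain_cech g' D j₀ hfD
  have hreg : IsSMulRegular E f := isSMulRegular_iff_right_eq_zero_of_smul.2 fun x hx => by
    rw [Algebra.smul_def] at hx
    refine (mul_eq_zero.1 hx).resolve_left fun h0 => hfD (hφ ?_)
    rw [φ.commutes, map_zero]
    exact h0
  have hH : Module.Finite A (LocCoh.H (Ideal.span (Set.range g)) 1 (Rn f E 0)) := by
    rw [hg]
    refine finite_H_one_crit ⟨ω, hω⟩ _ _ fun Q q hQ hmQ hmq hQq => by_contra fun hcon => ?_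
    obtain rfl : q = IsLocalRing.closedPoint A :=
      PrimeSpectrum.ext (le_antisymm (IsLocalRing.le_maximalIdeal q.2.ne_top) hmq)
    have hQc : Q ⋖ IsLocalRing.closedPoint A :=
      ⟨lt_of_le_of_ne hQq fun hc => hmQ (by rw [hc]; exact le_rfl), fun r h1 h2 => hcon ⟨r, h1, h2⟩⟩
    obtain ⟨hnot, hQD⟩ := ass_cech g' f D hφ hreg hQ
    rw [hg'] at hnot
    exact hnot (Finset.inf_le (f := id) (hbad.mem_toFinset.2 (show Q.asIdeal ∈ bad from ⟨hQD, Q.2, hQc⟩)))
  -- the connectedness
  let ρ : PrimeSpectrum E → PrimeSpectrum D := PrimeSpectrum.comap φ.toRingHom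
  have hS : ∀ q, ρ q ∈ S0set g f D ↔ q ∈ S0set g f E := fun q => by
    show φ (algebraMap A D f) ∈ q.asIdeal ∧ (∃ j, φ (algebraMap A D (g j)) ∉ q.asIdeal) ↔ _
    simp only [AlgHom.commutes]
    rfl
  let ρ₀ : S0set g f E → S0set g f D := fun q => ⟨ρ q, (hS q).2 q.2⟩
  have hρ₀ : Continuous ρ₀ := ((PrimeSpectrum.continuous_comap _).comp continuous_subtype_val).subtype_mk _
  obtain ⟨O₁, O₂, h1, h2, hdis, hcov, hO⟩ := exists_clopen_nhd g hreg hH (ρ ⁻¹' C₀) (hC.preimage hρ₀)
  have hsurj : Function.Surjective ρ := by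
    letI : Algebra D E := φ.toRingHom.toAlgebra
    haveI : IsScalarTower A D E := IsScalarTower.of_algebraMap_eq fun a => (φ.commutes a).symm
    haveI : Module.Finite D E := Module.Finite.of_restrictScalars_finite A D E
    haveI : FaithfulSMul D E := (faithfulSMul_iff_algebraMap_injective D E).2 hφ
    exact Algebra.IsIntegral.comap_surjective _ _
  by_cases hne : O₁.Nonempty ∧ O₂.Nonempty
  · obtain ⟨x, hx1, hx2⟩ := nonempty_preirreducible_inter h1 h2 hne.1 hne.2
    exact (Set.disjoint_left.1 hdis hx1 hx2).elim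
  rcases not_and_or.1 hne with h | h <;> rw [Set.not_nonempty_iff_eq_empty] at h
  · refine Or.inr (Set.disjoint_left.2 fun q hq hqC => ?_)
    obtain ⟨r, rfl⟩ := hsurj q
    exact Set.notMem_empty r (h ▸ (hO r ((hS r).1 hq)).2 hqC)
  · refine Or.inl fun q hq => ?_
    obtain ⟨r, rfl⟩ := hsurj q
    exact (hO r ((hS r).1 hq)).1 ((hcov ((hS r).1 hq)).resolve_right (h ▸ Set.notMem_empty r))

end Groth.Agent.HyperAlg
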