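import Groth.Agent.FEtLib.Restrict

/-! Full faithfulness from the germs of neighbourhoods. -/

set_option autoImplicit false
set_option linter.style.haveILetI false
set_option backward.isDefEq.respectTransparency false
set_option backward.isDefEq.respectTransparency.types false
set_option maxHeartbeats 1000000

universe u

open CategoryTheory CategoryTheory.Limits AlgebraicGeometry MorphismProperty TopologicalSpace

noncomputable section

namespace Groth.Agent.HyperAlg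

open FEtLib

/-- A morphism exists if its graph is cut out by a clopen. -/
theorem exists_map_of_clopen {X X' : Scheme.{u}} (r : X' ⟶ X) (hr : MeetsClopens r) {Y Z W : FEt.Cat X}
    (p : W ⟶ Y) (q : W ⟶ Z) (h : (FEt.restrict r).obj Y ⟶ (FEt.restrict r).obj Z)
    (m : (FEt.restrict r).obj Y ⟶ (FEt.restrict r).obj W)
    (hm1 : m ≫ (FEt.restrict r).map p = 𝟙 _) (hm2 : m ≫ (FEt.restrict r).map q = h)
    (U : Set W.left) (hUc : IsClopen U) (hUV : (bcFst r W) ⁻¹' U = Set.range m.left) :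
    ∃ φ : Y ⟶ Z, (FEt.restrict r).map φ = h := by
  let R := FEt.restrict r
  let ι := clopenPartι W ⟨U, hUc.2⟩ hUc.1
  have hmem : ∀ (K : Type u) [Field K] [IsAlgClosed K] (ξ : Spec (CommRingCat.of K) ⟶ X')
      (a : Fib ξ (R.obj Y)), ∃ e, pmap ι e = bcEquiv r (pmap m a) := fun K _ _ ξ a => by
    refine exists_lift_clopenPart _ _ _ (show center (bcEquiv r (pmap m a)) ∈ U from ?_)
    rw [bcEquiv_center]
    show center (pmap m a) ∈ (bcFst r W) ⁻¹' U
    rw [hUV, center_pmap]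
    exact ⟨_, rfl⟩
  have himg : ∀ (K : Type u) [Field K] [IsAlgClosed K] (ξ : Spec (CommRingCat.of K) ⟶ X')
      (e : Fib (ξ ≫ r) (clopenPart W ⟨U, hUc.2⟩ hUc.1)), ∃ a, bcEquiv r (pmap m a) = pmap ι e :=
    fun K _ _ ξ e => by
    have h1 : center (pmap ι e) ∈ U := center_clopenPart_mem e
    obtain ⟨c, hc⟩ := (bcEquiv r).surjective (pmap ι e)
    rw [← hc, bcEquiv_center] at h1
    have h2 : center c ∈ (bcFst r W) ⁻¹' U := h1
    rw [hUV] at h2
    obtain ⟨a, rfl⟩ := exists_lift_of_mem_range m c h2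
    exact ⟨a, hc⟩
  haveI : IsIso (ι ≫ p) := isIso_of_bijective_above r hr _ fun K _ _ ξ => by
    refine ⟨fun e e' he => ?_, fun b => ?_⟩
    · obtain ⟨a, ha⟩ := himg K ξ e
      obtain ⟨a', ha'⟩ := himg K ξ e'
      rw [pmap_comp, pmap_comp, ← ha, ← ha', ← bcEquiv_pmap, ← bcEquiv_pmap, (bcEquiv r).injective.eq_iff,
        ← pmap_comp, ← pmap_comp, hm1, pmap_id, pmap_id] at he
      subst he
      exact pmap_injective ι (ha.symm.trans ha')
    · obtain ⟨a, rfl⟩ := (bcEquiv r).surjective b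
      obtain ⟨e, he⟩ := hmem K ξ a
      exact ⟨e, by rw [pmap_comp, he, ← bcEquiv_pmap, ← pmap_comp, hm1, pmap_id]⟩
  refine ⟨inv (ι ≫ p) ≫ ι ≫ q, hom_ext fun K _ _ ξ a => (bcEquiv r).injective ?_⟩
  obtain ⟨e, he⟩ := hmem K ξ a
  have hfst : pmap (ι ≫ p) e = bcEquiv r a := by
    rw [pmap_comp, he, ← bcEquiv_pmap, ← pmap_comp, hm1, pmap_id]
  rw [bcEquiv_pmap, ← hfst, ← pmap_comp, IsIso.hom_inv_id_assoc, pmap_comp, he, ← bcEquiv_pmap, ← pmap_comp, hm2]

theorem pullbackComp_fst {X Y Z : Scheme.{u}} (f : X ⟶ Y) (g : Y ⟶ Z) (fg : X ⟶ Z) (hfg : fg = f ≫ g)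
    (W : FEt.Cat Z) :
    ((MorphismProperty.Over.pullbackComp (P := FEt.prop.{u}) (Q := ⊤) f g fg hfg).hom.app W).left ≫
      bcFst f ((FEt.restrict g).obj W) ≫ bcFst g W = bcFst fg W := by
  subst hfg
  simp [FEt.restrict, bcFst]
  exact pullbackLeftPullbackSndIso_inv_fst _ _ _

theorem pullbackComp_snd {X Y Z : Scheme.{u}} (f : X ⟶ Y) (g : Y ⟶ Z) (fg : X ⟶ Z) (hfg : fg = f ≫ g)
    (W : FEt.Cat Z) :
    ((MorphismProperty.Over.pullbackComp (P := FEt.prop.{u}) (Q := ⊤) f g fg hfg).hom.app W).left ≫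
      bcFst f ((FEt.restrict g).obj W) ≫ pullback.snd W.hom g = pullback.snd W.hom fg ≫ f := by
  subst hfg
  simp [FEt.restrict, bcFst]
  exact pullbackLeftPullbackSndIso_inv_fst_snd _ _ _

variable {S T : Scheme.{u}} [NoetherianSpace S]

/-- Removing the components missing the image. -/
theorem exists_meetsClopens {U₁ : S.Opens} (t₁ : T ⟶ (U₁ : Scheme.{u})) :
    ∃ (U₂ : S.Opens) (h : U₂ ≤ U₁) (t₂ : T ⟶ (U₂ : Scheme.{u})),
      t₂ ≫ S.homOfLE h = t₁ ∧ MeetsClopens t₂ := by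
  classical
  haveI : NoetherianSpace (U₁ : Scheme.{u}) := U₁.ι.isEmbedding.isInducing.noetherianSpace
  haveI := FEtLib.finite_connectedComponents (T := (U₁ : Scheme.{u}))
  let K : Set (_root_.ConnectedComponents (U₁ : Scheme.{u})) := ConnectedComponents.mk '' Set.range t₁
  let O : (U₁ : Scheme.{u}).Opens :=
    ⟨ConnectedComponents.mk ⁻¹' K, ((isClopen_discrete K).preimage ConnectedComponents.continuous_coe).2⟩
  let U₂ : S.Opens := U₁.ι ''ᵁ O
  have h : U₂ ≤ U₁ := U₁.ι_image_le O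
  have hr : Set.range (t₁ ≫ U₁.ι) ⊆ Set.range U₂.ι := by
    rintro _ ⟨z, rfl⟩
    rw [Scheme.Opens.range_ι]
    exact ⟨t₁ z, ⟨t₁ z, ⟨z, rfl⟩, rfl⟩, rfl⟩
  let t₂ := IsOpenImmersion.lift U₂.ι _ hr
  have hfac : t₂ ≫ S.homOfLE h = t₁ := by
    rw [← cancel_mono U₁.ι, Category.assoc, Scheme.homOfLE_ι, IsOpenImmersion.lift_fac]
  refine ⟨U₂, h, t₂, hfac, fun C hC ⟨x, hx⟩ => ?_⟩
  let j := S.homOfLE h
  have hxO : j x ∈ O := by
    obtain ⟨w, hw, hwx⟩ := x.2
    have : j x = w := U₁.ι.isOpenEmbedding.injective (by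
      rw [← Scheme.Hom.comp_apply, Scheme.homOfLE_ι]
      exact hwx.symm)
    rwa [this]
  obtain ⟨_, ⟨z, rfl⟩, hz⟩ := hxO
  have hz' : t₁ z ∈ connectedComponent (j x) := ConnectedComponents.coe_eq_coe'.1 hz
  have hsub : connectedComponent (j x) ⊆ Set.range j := fun w hw => by
    refine ⟨⟨U₁.ι w, w, ?_, rfl⟩, U₁.ι.isOpenEmbedding.injective ?_⟩
    · show ConnectedComponents.mk w ∈ K
      rw [ConnectedComponents.coe_eq_coe'.2 hw]
      exact ⟨_, ⟨z, rfl⟩, hz⟩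
    · rw [← Scheme.Hom.comp_apply, Scheme.homOfLE_ι]
      rfl
  have hpre : _root_.IsPreconnected (j ⁻¹' connectedComponent (j x)) := by
    rw [← j.isOpenEmbedding.isInducing.isPreconnected_image, Set.image_preimage_eq_of_subset hsub]
    exact isPreconnected_connectedComponent
  obtain ⟨w, hw⟩ := hsub hz'
  have hwC : w ∈ C := hpre.subset_isClopen hC ⟨x, mem_connectedComponent, hx⟩ (show j w ∈ _ by rw [hw]; exact hz')
  refine ⟨z, ?_⟩
  rwa [show t₂ z = w from j.isOpenEmbedding.injective (by rw [hw, ← Scheme.Hom.comp_apply, hfac])]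

/-- Clopens of restrictions extend to smaller neighbourhoods. -/
def GermClopens {U₁ : S.Opens} (t₁ : T ⟶ (U₁ : Scheme.{u})) (W : FEt.Cat (U₁ : Scheme.{u})) : Prop :=
  ∀ V : Set ((FEt.restrict t₁).obj W).left, IsClopen V →
    ∃ (U₂ : S.Opens) (h : U₂ ≤ U₁) (t₂ : T ⟶ (U₂ : Scheme.{u})) (hfac : t₂ ≫ S.homOfLE h = t₁)
      (C : Set ((FEt.restrict (S.homOfLE h)).obj W).left), IsClopen C ∧ ∀ z,
        bcFst t₂ _ (((MorphismProperty.Over.pullbackComp t₂ (S.homOfLE h) t₁ hfac.symm).hom.app W).left z) ∈ C ↔ z ∈ V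

theorem germ_faithful {U' : S.Opens} (u' : T ⟶ (U' : Scheme.{u})) {V' W' : FEt.Cat (U' : Scheme.{u})}
    (φ ψ : V' ⟶ W') (hφψ : (FEt.restrict u').map φ = (FEt.restrict u').map ψ) :
    ∃ (U'' : S.Opens) (h : U'' ≤ U') (u'' : T ⟶ (U'' : Scheme.{u})),
      u'' ≫ S.homOfLE h = u' ∧ (FEt.restrict (S.homOfLE h)).map φ = (FEt.restrict (S.homOfLE h)).map ψ := by
  obtain ⟨U'', h, u'', hu, hr⟩ := exists_meetsClopens u'
  refine ⟨U'', h, u'', hu, ?_⟩
  haveI := FEtLib.faithful u'' hr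
  refine (FEt.restrict u'').map_injective ?_
  let κ := MorphismProperty.Over.pullbackComp (P := FEt.prop.{u}) (Q := ⊤) u'' (S.homOfLE h) u' hu.symm
  refine (cancel_epi (κ.hom.app V')).1 ?_
  exact (κ.hom.naturality φ).symm.trans ((congrArg (· ≫ κ.hom.app W') hφψ).trans (κ.hom.naturality ψ))

theorem germ_full {U' : S.Opens} (u' : T ⟶ (U' : Scheme.{u})) {V' W' : FEt.Cat (U' : Scheme.{u})}
    (hcl : GermClopens u' (V' ⨯ W')) (φ₀ : (FEt.restrict u').obj V' ⟶ (FEt.restrict u').obj W') :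
    ∃ (U'' : S.Opens) (h : U'' ≤ U') (u'' : T ⟶ (U'' : Scheme.{u})) (hu : u'' ≫ S.homOfLE h = u')
      (φ : (FEt.restrict (S.homOfLE h)).obj V' ⟶ (FEt.restrict (S.homOfLE h)).obj W'),
      (FEt.restrict u'').map φ = (MorphismProperty.Over.pullbackComp u'' (S.homOfLE h) u' hu.symm).inv.app V' ≫ φ₀ ≫
        (MorphismProperty.Over.pullbackComp u'' (S.homOfLE h) u' hu.symm).hom.app W' := by
  let R₀ := FEt.restrict u'
  let m₀ : R₀.obj V' ⟶ R₀.obj (V' ⨯ W') := prod.lift (𝟙 _) φ₀ ≫ inv (prodComparison R₀ V' W')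
  have hm1 : m₀ ≫ R₀.map prod.fst = 𝟙 _ := by
    rw [Category.assoc, inv_prodComparison_map_fst, prod.lift_fst]
  have hm2 : m₀ ≫ R₀.map prod.snd = φ₀ := by
    rw [Category.assoc, inv_prodComparison_map_snd, prod.lift_snd]
  obtain ⟨U₁, h01, t₁, hf1, C, hC, hCV⟩ := hcl (Set.range m₀.left)
    ⟨m₀.left.isClosedMap.isClosed_range, m₀.left.isOpenMap.isOpen_range⟩
  obtain ⟨U₂, h12, t₂, hf2, hr⟩ := exists_meetsClopens t₁
  have hu : t₂ ≫ S.homOfLE (h12.trans h01) = u' := by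
    rw [← Scheme.homOfLE_homOfLE S h12 h01, ← Category.assoc, hf2, hf1]
  let j₂ := S.homOfLE (h12.trans h01)
  let R₂ := FEt.restrict j₂
  let κ := MorphismProperty.Over.pullbackComp (P := FEt.prop.{u}) (Q := ⊤) t₂ j₂ u' hu.symm
  let κ₁ := MorphismProperty.Over.pullbackComp (P := FEt.prop.{u}) (Q := ⊤) t₁ (S.homOfLE h01) u' hf1.symm
  let W := V' ⨯ W'
  let c : (R₂.obj W).left ⟶ ((FEt.restrict (S.homOfLE h01)).obj W).left :=
    pullback.lift (pullback.fst _ _) (pullback.snd _ _ ≫ S.homOfLE h12) (by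
      rw [Category.assoc, Scheme.homOfLE_homOfLE]; exact pullback.condition)
  let m : (FEt.restrict t₂).obj (R₂.obj V') ⟶ (FEt.restrict t₂).obj (R₂.obj W) :=
    κ.inv.app V' ≫ m₀ ≫ κ.hom.app W
  have hnat : ∀ {Y : FEt.Cat (U' : Scheme.{u})} (φ : W ⟶ Y),
      κ.hom.app W ≫ (FEt.restrict t₂).map (R₂.map φ) = R₀.map φ ≫ κ.hom.app Y := fun φ => (κ.hom.naturality φ).symm
  have hcomp : (κ.hom.app W).left ≫ bcFst t₂ (R₂.obj W) ≫ c = (κ₁.hom.app W).left ≫ bcFst t₁ _ := by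
    refine pullback.hom_ext ?_ ?_
    · simp only [Category.assoc, c, pullback.lift_fst]
      exact (pullbackComp_fst _ _ _ _ _).trans (pullbackComp_fst _ _ _ _ _).symm
    · simp only [Category.assoc, c, pullback.lift_snd]
      refine (reassoc_of% (pullbackComp_snd t₂ j₂ u' hu.symm W)) (S.homOfLE h12) |>.trans ?_
      rw [hf2]
      exact (pullbackComp_snd _ _ _ _ _).symm
  obtain ⟨φ, hφ⟩ := exists_map_of_clopen t₂ hr (R₂.map prod.fst) (R₂.map prod.snd)
    (κ.inv.app V' ≫ φ₀ ≫ κ.hom.app W') m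
    (by simp only [m, Category.assoc, hnat, reassoc_of% hm1, Iso.inv_hom_id_app]; rfl)
    (by simp only [m, Category.assoc, hnat, reassoc_of% hm2])
    (c ⁻¹' C) (hC.preimage c.continuous) (by
      ext z
      obtain ⟨w, rfl⟩ : ∃ w, (κ.hom.app W).left w = z := ⟨(κ.inv.app W).left z, by
        rw [← Scheme.Hom.comp_apply]
        show ((κ.inv.app W) ≫ (κ.hom.app W)).left z = z
        rw [Iso.inv_hom_id_app]; rfl⟩
      show ((κ.hom.app W).left ≫ bcFst t₂ (R₂.obj W) ≫ c) w ∈ C ↔ _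
      rw [hcomp]
      refine (hCV w).trans ⟨fun ⟨y, hy⟩ => ⟨(κ.hom.app V').left y, ?_⟩, fun ⟨y, hy⟩ => ⟨(κ.inv.app V').left y, ?_⟩⟩
      · show ((κ.hom.app V') ≫ m).left y = _
        rw [show κ.hom.app V' ≫ m = m₀ ≫ κ.hom.app W by rw [Iso.hom_inv_id_app_assoc]]
        show (κ.hom.app W).left (m₀.left y) = _
        rw [hy]
      · have h1 := congrArg (κ.inv.app W).left hy
        change (m ≫ κ.inv.app W).left y = ((κ.hom.app W) ≫ (κ.inv.app W)).left w at h1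
        rw [Iso.hom_inv_id_app, show m ≫ κ.inv.app W = κ.inv.app V' ≫ m₀ by
          simp only [m, Category.assoc, Iso.hom_inv_id_app]; exact congrArg _ (Category.comp_id _)] at h1
        exact h1)
  exact ⟨U₂, h12.trans h01, t₂, hu, φ, hφ⟩

end Groth.Agent.HyperAlg
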