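import Groth.Agent.HyperAlg.Germ
import Groth.Agent.HyperAlg.GermFF
import Groth.Agent.HyperFEt.Complete
import Mathlib.AlgebraicGeometry.Morphisms.Preimmersion

/-! Models of covers of neighbourhoods of a punctured hypersurface. -/

set_option autoImplicit false
set_option linter.style.haveILetI false
set_option backward.isDefEq.respectTransparency false
set_option backward.isDefEq.respectTransparency.types false
set_option maxHeartbeats 1000000

universe u

open CategoryTheory CategoryTheory.Limits AlgebraicGeometry TopologicalSpace MorphismProperty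

noncomputable section

namespace Groth.Agent.HyperAlg

open FEtLib

section topology

variable {S T : Scheme.{u}}

/-- Clopens of restrictions extend as soon as they are separated by opens. -/
theorem germClopens_of_nhd {U' : S.Opens} (u' : T ⟶ (U' : Scheme.{u})) (W : FEt.Cat (U' : Scheme.{u}))
    (hsep : ∀ V : Set ((FEt.restrict u').obj W).left, IsClopen V → ∃ P₁ P₂ : Set W.left, IsOpen P₁ ∧ IsOpen P₂ ∧
      Disjoint P₁ P₂ ∧ Set.range (bcFst u' W) ⊆ P₁ ∪ P₂ ∧ ∀ z, bcFst u' W z ∈ P₁ ↔ z ∈ V) :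
    GermClopens u' W := by
  intro V hV
  obtain ⟨P₁, P₂, h1, h2, hd, hcov, hPV⟩ := hsep V hV
  haveI : IsFinite W.hom := W.prop.1
  let F : Set (U' : Scheme.{u}) := W.hom '' (P₁ ∪ P₂)ᶜ
  have hF : IsClosed F := W.hom.isClosedMap _ (h1.union h2).isClosed_compl
  let U₂ : S.Opens := U'.ι ''ᵁ ⟨Fᶜ, hF.isOpen_compl⟩
  have h : U₂ ≤ U' := U'.ι_image_le _
  have hnotF : ∀ t, u' t ∉ F := by
    rintro t ⟨w, hw, hwt⟩
    obtain ⟨z, rfl⟩ : w ∈ Set.range (bcFst u' W) := by
      show w ∈ Set.range (pullback.fst W.hom u')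
      rw [Scheme.Pullback.range_fst]
      exact ⟨t, hwt.symm⟩
    exact hw (hcov ⟨z, rfl⟩)
  have hr : Set.range (u' ≫ U'.ι) ⊆ Set.range U₂.ι := by
    rintro _ ⟨z, rfl⟩
    rw [Scheme.Opens.range_ι]
    exact ⟨u' z, hnotF z, rfl⟩
  let t₂ := IsOpenImmersion.lift U₂.ι _ hr
  have hfac : t₂ ≫ S.homOfLE h = u' := by
    rw [← cancel_mono U'.ι, Category.assoc, Scheme.homOfLE_ι, IsOpenImmersion.lift_fac]
  let p := bcFst (S.homOfLE h) W
  have hp : ∀ w, p w ∈ P₁ ∪ P₂ := fun w => by
    by_contra hw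
    have hmem : W.hom (p w) = S.homOfLE h (pullback.snd W.hom (S.homOfLE h) w) :=
      congr($(pullback.condition (f := W.hom) (g := S.homOfLE h)) w)
    obtain ⟨v, hv, hvx⟩ := (pullback.snd W.hom (S.homOfLE h) w).2
    have hv' : S.homOfLE h (pullback.snd W.hom (S.homOfLE h) w) = v := U'.ι.isOpenEmbedding.injective (by
      rw [← Scheme.Hom.comp_apply, Scheme.homOfLE_ι]
      exact hvx.symm)
    exact hv ⟨p w, hw, hmem.trans hv'⟩
  refine ⟨U₂, h, t₂, hfac, p ⁻¹' P₁, ⟨?_, h1.preimage p.continuous⟩, fun z => ?_⟩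
  · have e : p ⁻¹' P₁ = (p ⁻¹' P₂)ᶜ := Set.ext fun w =>
      ⟨fun hw hw' => Set.disjoint_left.1 hd hw hw', fun hw => (hp w).resolve_right hw⟩
    rw [e]
    exact (h2.preimage p.continuous).isClosed_compl
  · refine Iff.trans ?_ (hPV z)
    exact Iff.of_eq (congrArg (· ∈ P₁) congr($(pullbackComp_fst t₂ (S.homOfLE h) u' hfac.symm W) z))

end topology

variable {A : Type u} [CommRing A]

/-- Clopens over the punctured hypersurface are separated by opens of the whole spectrum. -/
def ClopenExt {ι : Type u} (g : ι → A) (f : A) (B : Type u) [CommRing B] [Algebra A B] : Prop :=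
  ∀ C₀ : Set (PrimeSpectrum B), IsClopen ((↑) ⁻¹' C₀ : Set (S0set g f B)) →
    ∃ O₁ O₂ : Set (PrimeSpectrum B), IsOpen O₁ ∧ IsOpen O₂ ∧ Disjoint O₁ O₂ ∧ S0set g f B ⊆ O₁ ∪ O₂ ∧
      ∀ q ∈ S0set g f B, (q ∈ O₁ ↔ q ∈ C₀)

variable [IsLocalRing A] (f : A)

/-- The punctured hypersurface. -/
abbrev Hyp0 : Scheme.{u} :=
  pullback (FEt.puncturedSpec A).ι (Spec.map (CommRingCat.ofHom (Ideal.Quotient.mk (Ideal.span {f}))))

/-- Its map to the spectrum. -/
abbrev hyp0ι : Hyp0 f ⟶ Spec (CommRingCat.of A) :=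
  pullback.fst (FEt.puncturedSpec A).ι (Spec.map (CommRingCat.ofHom (Ideal.Quotient.mk (Ideal.span {f})))) ≫
    (FEt.puncturedSpec A).ι

instance : IsPreimmersion (hyp0ι f) := by
  haveI : IsClosedImmersion (Spec.map (CommRingCat.ofHom (Ideal.Quotient.mk (Ideal.span {f})))) :=
    IsClosedImmersion.spec_of_surjective _ Ideal.Quotient.mk_surjective
  infer_instance

theorem range_hyp0ι : Set.range (hyp0ι f) =
    {q : PrimeSpectrum A | q ∈ FEt.puncturedSpec A ∧ f ∈ q.asIdeal} := by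
  refine Set.ext fun q => ⟨?_, fun ⟨hq, hfq⟩ => ?_⟩
  · rintro ⟨z, rfl⟩
    rw [Scheme.Hom.comp_apply]
    exact ⟨Subtype.property _, (HyperFEt.range_r0 A f).le ⟨z, rfl⟩⟩
  · obtain ⟨z, hz⟩ := (HyperFEt.range_r0 A f).ge
      (show (⟨q, hq⟩ : (FEt.puncturedSpec A : Scheme.{u})) ∈ _ from hfq)
    exact ⟨z, by rw [Scheme.Hom.comp_apply]; exact congrArg _ hz⟩

variable {U' : (Spec (CommRingCat.of A)).Opens} (u' : Hyp0 f ⟶ (U' : Scheme.{u})) (hu' : u' ≫ U'.ι = hyp0ι f)

include hu' in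
theorem le_of_factor {q : PrimeSpectrum A} (hq : q ∈ FEt.puncturedSpec A) (hfq : f ∈ q.asIdeal) : q ∈ U' := by
  obtain ⟨z, hz⟩ := (range_hyp0ι f).ge ⟨hq, hfq⟩
  rw [← hu', Scheme.Hom.comp_apply] at hz
  exact hz ▸ (u' z).2

include hu' in
theorem germClopens_of_model {ι : Type u} (g : ι → A) (hg : Ideal.span (Set.range g) = IsLocalRing.maximalIdeal A)
    (W : FEt.Cat (U' : Scheme.{u})) (B : Type u) [CommRing B] [Algebra A B] (j : W.left → PrimeSpectrum B)
    (hj : Topology.IsOpenEmbedding j) (hrange : Set.range j = {q | PrimeSpectrum.comap (algebraMap A B) q ∈ U'})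
    (hcomp : ∀ x, PrimeSpectrum.comap (algebraMap A B) (j x) = U'.ι (W.hom x)) (hext : ClopenExt g f B) :
    GermClopens u' W := by
  haveI : IsPreimmersion (u' ≫ U'.ι) := hu' ▸ inferInstance
  haveI : IsPreimmersion u' := IsPreimmersion.of_comp u' U'.ι
  haveI : IsPreimmersion (bcFst u' W) := MorphismProperty.pullback_fst (P := @IsPreimmersion) _ _ inferInstance
  let η := j ∘ bcFst u' W
  have hη : Topology.IsEmbedding η := hj.isEmbedding.comp (bcFst u' W).isEmbedding
  have hηr : Set.range η = S0set g f B := by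
    refine Set.ext fun q => ⟨?_, fun ⟨hfq, hq⟩ => ?_⟩
    · rintro ⟨z, rfl⟩
      have h1 : (hyp0ι f) (pullback.snd W.hom u' z) ∈ Set.range (hyp0ι f) := ⟨_, rfl⟩
      have h2 : (hyp0ι f) (pullback.snd W.hom u' z) = PrimeSpectrum.comap (algebraMap A B) (η z) := by
        show _ = PrimeSpectrum.comap (algebraMap A B) (j (pullback.fst W.hom u' z))
        rw [hcomp, ← hu']
        exact (congr($(pullback.condition_assoc (f := W.hom) (g := u') U'.ι) z)).symm
      rw [h2, range_hyp0ι] at h1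
      exact ⟨h1.2, (HyperFEt.mem_puncturedSpec_iff A g hg _).1 h1.1⟩
    · have hp : PrimeSpectrum.comap (algebraMap A B) q ∈ FEt.puncturedSpec A :=
        (HyperFEt.mem_puncturedSpec_iff A g hg q).2 hq
      obtain ⟨w, rfl⟩ : q ∈ Set.range j := hrange ▸ le_of_factor f u' hu' hp hfq
      obtain ⟨z, hz⟩ := (range_hyp0ι f).ge ⟨hp, hfq⟩
      obtain ⟨y, rfl⟩ : w ∈ Set.range (bcFst u' W) := by
        show w ∈ Set.range (pullback.fst W.hom u')
        rw [Scheme.Pullback.range_fst]
        refine ⟨z, U'.ι.isOpenEmbedding.injective ?_⟩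
        exact (show (u' ≫ U'.ι) z = _ by rw [hu', hz, hcomp])
      exact ⟨y, rfl⟩
  refine germClopens_of_nhd u' W fun V hV => ?_
  let e : ((FEt.restrict u').obj W).left ≃ₜ S0set g f B := hη.toHomeomorph.trans (Homeomorph.setCongr hηr)
  have hC : IsClopen ((↑) ⁻¹' (η '' V) : Set (S0set g f B)) := by
    have h : ((↑) ⁻¹' (η '' V) : Set (S0set g f B)) = e '' V := Set.ext fun q =>
      ⟨fun ⟨v, hv, hvq⟩ => ⟨v, hv, Subtype.ext hvq⟩, fun ⟨v, hv, hvq⟩ => ⟨v, hv, congrArg Subtype.val hvq⟩⟩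
    rw [h]
    exact ⟨e.isClosed_image.2 hV.1, e.isOpen_image.2 hV.2⟩
  obtain ⟨O₁, O₂, h1, h2, hd, hcov, hO⟩ := hext _ hC
  refine ⟨j ⁻¹' O₁, j ⁻¹' O₂, h1.preimage hj.continuous, h2.preimage hj.continuous, hd.preimage j, ?_, fun z => ?_⟩
  · rintro _ ⟨z, rfl⟩
    exact hcov (hηr ▸ ⟨z, rfl⟩)
  · exact (hO (η z) (hηr ▸ ⟨z, rfl⟩)).trans hη.injective.mem_set_image

/-- A finite model of a cover, flat over the basic opens of the base. -/
theorem exists_model_of_opens [IsNoetherianRing A] (W : FEt.Cat (U' : Scheme.{u})) :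
    ∃ (B : Type u) (_ : CommRing B) (_ : Algebra A B) (_ : Module.Finite A B) (j : W.left → PrimeSpectrum B),
      Topology.IsOpenEmbedding j ∧ Set.range j = {q | PrimeSpectrum.comap (algebraMap A B) q ∈ U'} ∧
      (∀ x, PrimeSpectrum.comap (algebraMap A B) (j x) = U'.ι (W.hom x)) ∧
      ∀ a : A, PrimeSpectrum.basicOpen a ≤ U' → Module.Flat A (Localization.Away (algebraMap A B a)) := by
  classical
  haveI : IsFinite W.hom := W.prop.1
  haveI : AlgebraicGeometry.Etale W.hom := W.prop.2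
  obtain ⟨I, hI⟩ := (PrimeSpectrum.isClosed_iff_zeroLocus_ideal _).1 U'.2.isClosed_compl
  obtain ⟨G, hG⟩ := IsNoetherian.noetherian I
  have hU : U' = ⨆ a : G, PrimeSpectrum.basicOpen (a : A) := by
    refine Opens.ext (Set.ext fun q => Iff.trans ?_ Opens.mem_iSup.symm)
    refine not_iff_not.1 ((Set.ext_iff.1 hI q).trans ?_)
    rw [not_exists, PrimeSpectrum.mem_zeroLocus, ← hG]
    exact ⟨fun h a ha => ha (h (Ideal.subset_span a.2)),
      fun h => Ideal.span_le.2 fun a ha => not_not.1 (h ⟨a, ha⟩)⟩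
  obtain ⟨B, φ, j, hfin, hj, hrange, hcomp⟩ := HyperFEt.exists_extension A (fun a : G => (a : A)) U' hU W.hom
  letI : Algebra A B := φ.hom.toAlgebra
  haveI : Module.Finite A B := hfin
  refine ⟨B, inferInstance, inferInstance, hfin, j, j.isOpenEmbedding, hrange, fun x => ?_, fun a ha => ?_⟩
  · show Spec.map φ (j x) = _
    rw [← Scheme.Hom.comp_apply, hcomp]
    rfl
  let Bb := Localization.Away (algebraMap A B a)
  let σ : Spec (CommRingCat.of Bb) ⟶ Spec B := Spec.map (CommRingCat.ofHom (algebraMap B Bb))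
  haveI : IsOpenImmersion σ := IsOpenImmersion.of_isLocalization (algebraMap A B a)
  have hσ : Set.range σ ⊆ Set.range j := by
    rw [hrange]
    rintro _ ⟨p, rfl⟩
    refine ha (show a ∉ _ from fun hc => p.2.ne_top (Ideal.eq_top_of_isUnit_mem _ hc
      (IsLocalization.Away.algebraMap_isUnit (algebraMap A B a))))
  let τ : Spec (CommRingCat.of Bb) ⟶ W.left := IsOpenImmersion.lift j σ hσ
  have hτ : τ ≫ j = σ := IsOpenImmersion.lift_fac _ _ _
  haveI : IsOpenImmersion (τ ≫ j) := hτ ▸ inferInstance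
  haveI : IsOpenImmersion τ := IsOpenImmersion.of_comp τ j
  haveI : Flat (τ ≫ W.hom ≫ U'.ι) := inferInstance
  have hflat : Flat (Spec.map (φ ≫ CommRingCat.ofHom (algebraMap B Bb))) := by
    rw [Spec.map_comp]
    show Flat (σ ≫ Spec.map φ)
    rw [← hτ, Category.assoc, hcomp]
    infer_instance
  exact RingHom.flat_algebraMap_iff.1 (HasRingHomProperty.Spec_iff.1 hflat)

/-- Flatness over a basic open gives a retraction. -/
theorem exists_retract_of_flat [IsNoetherianRing A] (B : Type u) [CommRing B] [Algebra A B] [Module.Finite A B] (a : A)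
    (hflat : Module.Flat A (Localization.Away (algebraMap A B a))) :
    ∃ (N k : ℕ) (α : Fin N → B →ₗ[A] A) (β : Fin N → A →ₗ[A] B), ∀ m, ∑ c, β c (α c m) = a ^ k • m := by
  haveI := Module.finitePresentation_of_finite A B
  refine HyperFEt.exists_retract B a ?_
  let Bb := Localization.Away (algebraMap A B a)
  haveI : Module.Flat A Bb := hflat
  haveI : IsLocalizedModule (Submonoid.powers a) (HyperFEt.φg B (fun _ : PUnit.{u + 1} => a) PUnit.unit) :=
    HyperFEt.instIsLocalizedModuleφg (fun _ : PUnit.{u + 1} => a) PUnit.unit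
  haveI : Module.Flat A (LocalizedModule (Submonoid.powers a) B) :=
    Module.Flat.of_linearEquiv (IsLocalizedModule.iso (Submonoid.powers a) (HyperFEt.φg B (fun _ : PUnit.{u + 1} => a) PUnit.unit))
  haveI : Module.Flat (Localization.Away a) (LocalizedModule (Submonoid.powers a) B) :=
    (Module.flat_iff_of_isLocalization (Localization.Away a) (Submonoid.powers a) _).2 inferInstance
  haveI : Module.Finite (Localization.Away a) (LocalizedModule (Submonoid.powers a) B) :=
    Module.Finite.of_isLocalizedModule (Submonoid.powers a) (LocalizedModule.mkLinearMap _ _)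
  haveI : IsNoetherianRing (Localization.Away a) := IsLocalization.isNoetherianRing (Submonoid.powers a) _ inferInstance
  haveI := Module.finitePresentation_of_finite (Localization.Away a) (LocalizedModule (Submonoid.powers a) B)
  exact Module.Flat.projective_of_finitePresentation

/-- Full faithfulness from germs of neighbourhoods. -/
theorem germ_fullyFaithful [IsNoetherianRing A]
    (hcl : ∀ (U' : (Spec (CommRingCat.of A)).Opens) (u' : Hyp0 f ⟶ (U' : Scheme.{u})), U' ≤ FEt.puncturedSpec A →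
      u' ≫ U'.ι = hyp0ι f → ∀ W : FEt.Cat (U' : Scheme.{u}), GermClopens u' W) :
    ∀ (U' : (Spec (CommRingCat.of A)).Opens) (_ : U' ≤ (FEt.puncturedSpec A)) (u' : Hyp0 f ⟶ (U' : Scheme.{u}))
      (_ : u' ≫ U'.ι = hyp0ι f) (V' W' : FEt.Cat (U' : Scheme.{u})),
      (∀ φ₀ : (FEt.restrict u').obj V' ⟶ (FEt.restrict u').obj W',
        ∃ (U'' : (Spec (CommRingCat.of A)).Opens) (h : U'' ≤ U') (u'' : Hyp0 f ⟶ (U'' : Scheme.{u}))
          (hu : u'' ≫ (Spec (CommRingCat.of A)).homOfLE h = u')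
          (φ : (FEt.restrict ((Spec (CommRingCat.of A)).homOfLE h)).obj V' ⟶ (FEt.restrict ((Spec (CommRingCat.of A)).homOfLE h)).obj W'),
          (FEt.restrict u'').map φ =
            (MorphismProperty.Over.pullbackComp u'' ((Spec (CommRingCat.of A)).homOfLE h) u' hu.symm).inv.app V' ≫ φ₀ ≫
              (MorphismProperty.Over.pullbackComp u'' ((Spec (CommRingCat.of A)).homOfLE h) u' hu.symm).hom.app W') ∧
      (∀ φ ψ : V' ⟶ W', (FEt.restrict u').map φ = (FEt.restrict u').map ψ →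
        ∃ (U'' : (Spec (CommRingCat.of A)).Opens) (h : U'' ≤ U') (u'' : Hyp0 f ⟶ (U'' : Scheme.{u})),
          u'' ≫ (Spec (CommRingCat.of A)).homOfLE h = u' ∧
          (FEt.restrict ((Spec (CommRingCat.of A)).homOfLE h)).map φ = (FEt.restrict ((Spec (CommRingCat.of A)).homOfLE h)).map ψ) := by
  haveI : NoetherianSpace (Spec (CommRingCat.of A)) := inferInstanceAs (NoetherianSpace (PrimeSpectrum A))
  exact fun U' hU' u' hu' V' W' => ⟨germ_full u' (hcl U' u' hU' hu' _), germ_faithful u'⟩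

end Groth.Agent.HyperAlg
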