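import Groth.Agent.HyperAlg.GermModel

/-! Separation of clopens over a punctured hypersurface by a regular element. -/

set_option autoImplicit false
set_option linter.style.haveILetI false
set_option backward.isDefEq.respectTransparency false
set_option backward.isDefEq.respectTransparency.types false
set_option maxHeartbeats 1000000

universe u

open CategoryTheory

noncomputable section

namespace Groth.Agent.HyperAlg

open PuncSecLib

variable {A : Type u} [CommRing A] [IsNoetherianRing A] {ι : Type u} [Finite ι] (g : ι → A)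

/-- Finiteness of the first local cohomology of modules locally retracts of free modules over `A/I`. -/
theorem finite_H_one_of_split (I : Ideal A) (h₁ : Module.Finite A (LocCoh.H (Ideal.span (Set.range g)) 1 (A ⧸ I)))
    (N : Type u) [AddCommGroup N] [Module A N] [Module.Finite A N]
    (hs : ∀ j, ∃ (r k : ℕ) (α : N →ₗ[A] Fin r → A ⧸ I) (β : (Fin r → A ⧸ I) →ₗ[A] N),
      ∀ m, β (α m) = g j ^ k • m) : Module.Finite A (LocCoh.H (Ideal.span (Set.range g)) 1 N) := by
  classical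
  have hF : ∀ j ≤ 1, Module.Finite A (LocCoh.H (Ideal.span (Set.range g)) j (A ⧸ I)) := fun j hj => by
    interval_cases j
    · exact finite_H_zero _
    · exact h₁
  have ht : ∀ j : Fin 2, ∃ t : ℕ, ∀ z : LocCoh.H (Ideal.span (Set.range g)) (j : ℕ) (A ⧸ I),
      ∀ b ∈ Ideal.span (Set.range g) ^ t, b • z = 0 := fun j => by
    haveI := hF j (by omega)
    exact exists_pow_kill _ _
  choose t ht using ht
  let T := Finset.univ.sup t
  let J : Ideal A :=
    { carrier := {a | ∀ j ≤ 1, ∀ z : LocCoh.H (Ideal.span (Set.range g)) j N, a • z = 0}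
      add_mem' := fun ha hb j hj z => by rw [add_smul, ha j hj z, hb j hj z, add_zero]
      zero_mem' := fun j hj z => zero_smul A z
      smul_mem' := fun c a ha j hj z => by rw [smul_eq_mul, mul_smul, ha j hj z, smul_zero] }
  refine ((Groth.Agent.S0329.result A (Ideal.span (Set.range g)) N 1).2
    ⟨J, Ideal.span_le.2 ?_, fun j hj a ha z => ha j hj z⟩) 1 le_rfl
  rintro _ ⟨j, rfl⟩
  obtain ⟨r, k, α, β, hβα⟩ := hs j
  refine ⟨T + k, fun l hl z => ?_⟩
  rw [pow_add]
  exact smul_eq_zero_of_factor (M' := ModuleCat.of A (Fin r → A ⧸ I)) (ModuleCat.ofHom α) (ModuleCat.ofHom β) _ _ l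
    (ModuleCat.hom_ext (LinearMap.ext hβα)) (fun w => smul_eq_zero_pi _ r _ l (fun v => ht ⟨l, by omega⟩ v _
      (Ideal.pow_le_pow_right (Finset.le_sup (f := t) (Finset.mem_univ _))
        (Ideal.pow_mem_pow (Ideal.subset_span (Set.mem_range_self j)) T))) w) z

variable (f : A) (B : Type u) [CommRing B] [Algebra A B]

/-- The elements killed by powers. -/
def ftors : Ideal B where
  carrier := {x | ∃ n : ℕ, f ^ n • x = 0}
  zero_mem' := ⟨0, smul_zero _⟩
  add_mem' := by
    rintro x y ⟨n, hn⟩ ⟨m, hm⟩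
    refine ⟨n + m, ?_⟩
    rw [smul_add, pow_add, mul_smul, mul_smul, hm, smul_comm, hn, smul_zero, smul_zero, add_zero]
  smul_mem' := by
    rintro c x ⟨n, hn⟩
    exact ⟨n, by rw [smul_eq_mul, ← mul_smul_comm, hn, mul_zero]⟩

variable [Module.Finite A B]

theorem clopenExt_of_retract [IsAdicComplete (Ideal.span {f}) A] (hnz : f ∈ nonZeroDivisors A)
    (hH : Module.Finite A (LocCoh.H (Ideal.span (Set.range g)) 1 (A ⧸ Ideal.span {f})))
    {κ : Type u} [Finite κ] (h : κ → A)
    (hret : ∀ i, ∃ (N k : ℕ) (α : Fin N → B →ₗ[A] A) (β : Fin N → A →ₗ[A] B), ∀ m, ∑ c, β c (α c m) = h i ^ k • m)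
    (hcov : ∀ j, g j ∈ (Ideal.span (Set.range h) ⊔ Ideal.span {f}).radical) :
    ClopenExt g f B := by
  classical
  haveI := Fintype.ofFinite κ
  choose N k α β hβα using hret
  -- powers of the generators
  have hc : ∀ j, ∃ (n : ℕ) (c : κ → A) (c₀ : A), g j ^ n = (∑ i, c i * h i ^ k i) + c₀ * f := fun j => by
    have hle : Ideal.span (Set.range h) ⊔ Ideal.span {f} ≤
        (Ideal.span (Set.range fun i => h i ^ k i) ⊔ Ideal.span {f}).radical := by
      refine sup_le (Ideal.span_le.2 ?_) (le_sup_right.trans Ideal.le_radical)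
      rintro _ ⟨i, rfl⟩
      exact ⟨k i, Ideal.mem_sup_left (Ideal.subset_span ⟨i, rfl⟩)⟩
    obtain ⟨n, hn⟩ := (Ideal.radical_idem _).le (Ideal.radical_mono hle (hcov j))
    obtain ⟨x, hx, y, hy, hxy⟩ := Submodule.mem_sup.1 hn
    obtain ⟨c, hc⟩ := (Submodule.mem_span_range_iff_exists_fun A).1 hx
    obtain ⟨c₀, rfl⟩ := Ideal.mem_span_singleton'.1 hy
    exact ⟨n, c, c₀, by rw [← hxy, ← hc]; rfl⟩
  choose n c c₀ hn using hc
  -- the quotient
  let I := ftors f B
  let B' := B ⧸ I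
  have hαI : ∀ i a, ∀ x ∈ I, α i a x = 0 := fun i a x ⟨m, hm⟩ => by
    have h1 : f ^ m • α i a x = 0 := by rw [← map_smul, hm, map_zero]
    exact (mul_right_mem_nonZeroDivisors_eq_zero_iff (pow_mem hnz m)).1 (by rwa [smul_eq_mul, mul_comm] at h1)
  have hkill : ∀ j, ∀ x ∈ I, g j ^ n j • x = c₀ j • (f • x) := fun j x hx => by
    rw [hn, add_smul, mul_smul, Finset.sum_smul, Finset.sum_eq_zero, zero_add]
    intro i _
    rw [mul_smul, ← hβα i x, Finset.sum_eq_zero, smul_zero]
    intro a _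
    rw [hαI i a x hx, map_zero]
  have hle : ∀ q ∈ HyperFEt.XB B g, I ≤ q.asIdeal := fun q ⟨j, hj⟩ x hx => by
    obtain ⟨m, hm⟩ := hx
    induction m generalizing x with
    | zero => rw [pow_zero, one_smul] at hm; exact hm ▸ q.asIdeal.zero_mem
    | succ m ih =>
      have h1 : f • x ∈ q.asIdeal := ih (f • x) (by rw [smul_smul, ← pow_succ, hm])
      have h2 : g j ^ n j • x ∈ q.asIdeal := by
        rw [hkill j x ⟨m + 1, hm⟩, Algebra.smul_def]
        exact q.asIdeal.mul_mem_left _ h1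
      rw [Algebra.smul_def] at h2
      exact (q.2.mem_or_mem h2).resolve_left fun hh => hj (q.2.mem_of_pow_mem _ (by rwa [map_pow] at hh))
  have hreg : IsSMulRegular B' f := isSMulRegular_iff_right_eq_zero_of_smul.2 fun z hz => by
    obtain ⟨z, rfl⟩ := Ideal.Quotient.mk_surjective z
    change Ideal.Quotient.mk I (f • z) = 0 at hz
    obtain ⟨m, hm⟩ := Ideal.Quotient.eq_zero_iff_mem.1 hz
    exact Ideal.Quotient.eq_zero_iff_mem.2 ⟨m + 1, by rwa [pow_succ, mul_smul]⟩
  -- the hypersurface in the quotient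
  let π : B →ₗ[A] Rn f B' 0 := ((Ideal.Quotient.mkₐ A (Jn f B' 0)).comp (Ideal.Quotient.mkₐ A I)).toLinearMap
  have hπ : Function.Surjective π := Ideal.Quotient.mk_surjective.comp Ideal.Quotient.mk_surjective
  have hπf : ∀ (a : A) x, π ((a * f) • x) = 0 := fun a x => by
    rw [map_smul, mul_smul, Algebra.smul_def f (π x)]
    have h0 := killed_Rn (f := f) (B := B') 0
    rw [show f ^ (0 + 1) = f from pow_one f] at h0
    rw [h0, zero_mul, smul_zero]
  have hker : ∀ i a, LinearMap.ker π ≤ LinearMap.ker ((Ideal.span {f}).mkQ.comp (α i a)) := fun i a x hx => by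
    obtain ⟨y, hy⟩ := mk_eq_zero_iff.1 (show Ideal.Quotient.mk (Jn f B' 0) (Ideal.Quotient.mk I x) = 0 from hx)
    obtain ⟨y, rfl⟩ := Ideal.Quotient.mk_surjective y
    rw [zero_add, pow_one] at hy
    change Ideal.Quotient.mk I (f • y) = _ at hy
    have h0 := hαI i a _ (Ideal.Quotient.eq.1 hy)
    rw [map_sub, map_smul, sub_eq_zero] at h0
    show Submodule.Quotient.mk (α i a x) = 0
    rw [← h0, smul_eq_mul, Submodule.Quotient.mk_eq_zero]
    exact Ideal.mul_mem_right _ _ (Ideal.mem_span_singleton_self f)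
  let α' : ∀ i, Fin (N i) → (Rn f B' 0 →ₗ[A] A ⧸ Ideal.span {f}) := fun i a =>
    ((LinearMap.ker π).liftQ _ (hker i a)).comp (π.quotKerEquivOfSurjective hπ).symm.toLinearMap
  have hα' : ∀ i a x, α' i a (π x) = Submodule.Quotient.mk (α i a x) := fun i a x => by
    show (LinearMap.ker π).liftQ _ (hker i a) ((π.quotKerEquivOfSurjective hπ).symm (π x)) = _
    rw [show (π.quotKerEquivOfSurjective hπ).symm (π x) = Submodule.Quotient.mk x from
      (π.quotKerEquivOfSurjective hπ).symm_apply_eq.2 rfl]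
    rfl
  let β' : ∀ i, Fin (N i) → (A ⧸ Ideal.span {f}) →ₗ[A] Rn f B' 0 := fun i a =>
    (Ideal.span {f}).liftQ (π.comp (β i a)) fun x hx => by
      obtain ⟨d, rfl⟩ := Ideal.mem_span_singleton'.1 hx
      show π (β i a (d * f)) = 0
      rw [show d * f = (d * f) • (1 : A) from (mul_one _).symm, map_smul, hπf]
  let e := Fintype.equivFin (Σ i, Fin (N i))
  have hsplit : ∀ j, ∃ (r m : ℕ) (α : Rn f B' 0 →ₗ[A] Fin r → A ⧸ Ideal.span {f})
      (β : (Fin r → A ⧸ Ideal.span {f}) →ₗ[A] Rn f B' 0), ∀ z, β (α z) = g j ^ m • z := fun j => by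
    refine ⟨Fintype.card (Σ i, Fin (N i)), n j, LinearMap.pi fun s => α' (e.symm s).1 (e.symm s).2,
      ∑ s, (c j (e.symm s).1 • β' (e.symm s).1 (e.symm s).2).comp (LinearMap.proj s), fun z => ?_⟩
    obtain ⟨x, rfl⟩ := hπ z
    rw [LinearMap.sum_apply]
    show ∑ s, c j (e.symm s).1 • β' (e.symm s).1 (e.symm s).2 (α' (e.symm s).1 (e.symm s).2 (π x)) = _
    rw [Equiv.sum_comp e.symm (fun p : Σ i, Fin (N i) => c j p.1 • β' p.1 p.2 (α' p.1 p.2 (π x))), Fintype.sum_sigma,
      hn, add_smul, ← map_smul π (c₀ j * f), hπf, add_zero, Finset.sum_smul]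
    refine Finset.sum_congr rfl fun i _ => ?_
    rw [mul_smul, ← map_smul π (h i ^ k i), ← hβα i x, map_sum, Finset.smul_sum]
    refine Finset.sum_congr rfl fun a _ => ?_
    rw [hα']
    rfl
  have hfin : Module.Finite A B' := Module.Finite.of_surjective (Ideal.Quotient.mkₐ A I).toLinearMap Ideal.Quotient.mk_surjective
  haveI := hfin
  have hH' := finite_H_one_of_split g (Ideal.span {f}) hH (Rn f B' 0) hsplit
  -- transfer to the spectrum of the algebra
  intro C₀ hC₀
  let ρ : PrimeSpectrum B' → PrimeSpectrum B := PrimeSpectrum.comap (Ideal.Quotient.mk I)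
  have hρ : Topology.IsClosedEmbedding ρ :=
    PrimeSpectrum.isClosedEmbedding_comap_of_surjective _ _ Ideal.Quotient.mk_surjective
  have hS : ∀ q, ρ q ∈ S0set g f B ↔ q ∈ S0set g f B' := fun q => Iff.rfl
  have hrange : ∀ q ∈ HyperFEt.XB B g, q ∈ Set.range ρ := fun q hq => by
    show q ∈ Set.range (PrimeSpectrum.comap (Ideal.Quotient.mk I))
    rw [range_comap_of_surjective _ _ Ideal.Quotient.mk_surjective, Ideal.mk_ker]
    exact hle q hq
  let ρ₀ : S0set g f B' → S0set g f B := fun q => ⟨ρ q, (hS q).2 q.2⟩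
  have hρ₀ : Continuous ρ₀ := (hρ.continuous.comp continuous_subtype_val).subtype_mk _
  obtain ⟨O₁, O₂, h1, h2, hd, hcov', hO⟩ := exists_clopen_nhd g hreg hH' (ρ ⁻¹' C₀) (hC₀.preimage hρ₀)
  have hX : IsOpen (HyperFEt.XB B g) := by
    have : HyperFEt.XB B g = ⋃ j, (PrimeSpectrum.basicOpen (algebraMap A B (g j)) : Set (PrimeSpectrum B)) :=
      Set.ext fun q => ⟨fun ⟨j, hj⟩ => Set.mem_iUnion.2 ⟨j, hj⟩, fun hq => Set.mem_iUnion.1 hq⟩
    rw [this]
    exact isOpen_iUnion fun j => (PrimeSpectrum.basicOpen _).2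
  have hopen : ∀ O : Set (PrimeSpectrum B'), IsOpen O → IsOpen (ρ '' O ∩ HyperFEt.XB B g) := fun O hO => by
    obtain ⟨P, hP, rfl⟩ := hρ.isInducing.isOpen_iff.1 hO
    have : ρ '' (ρ ⁻¹' P) ∩ HyperFEt.XB B g = P ∩ HyperFEt.XB B g := by
      rw [Set.image_preimage_eq_inter_range, Set.inter_assoc,
        Set.inter_eq_right.2 (fun q hq => hrange q hq : HyperFEt.XB B g ⊆ Set.range ρ)]
    rw [this]
    exact hP.inter hX
  refine ⟨_, _, hopen O₁ h1, hopen O₂ h2, ?_, fun q hq => ?_, fun q hq => ?_⟩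
  · exact ((Set.disjoint_image_iff hρ.injective).2 hd).mono Set.inter_subset_left Set.inter_subset_left
  · obtain ⟨p, rfl⟩ := hrange q hq.2
    exact (hcov' ((hS p).1 hq)).imp (fun h => ⟨⟨p, h, rfl⟩, hq.2⟩) fun h => ⟨⟨p, h, rfl⟩, hq.2⟩
  · obtain ⟨p, rfl⟩ := hrange q hq.2
    exact (and_iff_left hq.2).trans (hρ.injective.mem_set_image.trans (hO p ((hS p).1 hq)))

end Groth.Agent.HyperAlg
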