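import Groth.Agent.PurePairDesc.Main
import Groth.Agent.CILib.Scheme
import Groth.Agent.CILib.CIMorphism
import Groth.Agent.CIFlatLib.Basic
import Groth.Agent.HyperAlg.CI
import Groth.Agent.ASp.ChartDim
import Groth.Agent.S0250
import Groth.Agent.S0247
import Groth.Agent.S0272
import Groth.Agent.S2847
import Groth.Agent.S5810
import Groth.Agent.S0065
import Groth.Prelude.Def_EtDepth
import Groth.Prelude.Def_SGA2

/-! Homotopic depth at least three from purity of the local rings. -/

set_option autoImplicit false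
set_option linter.style.haveILetI false
set_option backward.isDefEq.respectTransparency false

universe u

open CategoryTheory CategoryTheory.Limits AlgebraicGeometry TopologicalSpace IsLocalRing RingTheory.Sequence

noncomputable section

namespace Groth.Agent.HyperAlg

/-- Purity and depth two at the points outside an open give an equivalence. -/
theorem isEquivalence_restrict_of_purity {S : Scheme.{u}} [IsLocallyNoetherian S] (U : S.Opens)
    (hd : ∀ s : S, s ∉ U → (2 : ℕ∞) ≤ LocCoh.depth (S.presheaf.stalk s) (S.presheaf.stalk s))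
    (hp : ∀ s : S, s ∉ U → FEt.PurityHolds (S.presheaf.stalk s)) :
    (FEt.restrict U.ι).IsEquivalence := by
  obtain ⟨h1, h2⟩ := PurePairDesc.restrict_fullyFaithful U hd
  suffices h3 : (FEt.restrict U.ι).EssSurj from Functor.IsEquivalence.mk
  refine ⟨fun E => ?_⟩
  haveI : IsFinite E.hom := E.prop.1
  haveI : Etale E.hom := E.prop.2
  let g : E.left ⟶ S := E.hom ≫ U.ι
  suffices hfe : ∀ W : S.Opens, IsAffineOpen W → (g.app W).hom.Finite ∧ (g.app W).hom.Etale by
    obtain ⟨Z, π, j, i1, i2, hpb⟩ := PurePairDesc.exists_extension_of_app U E.hom hfe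
    exact ⟨MorphismProperty.Over.mk ⊤ π ⟨i1, i2⟩,
      ⟨MorphismProperty.Over.isoMk hpb.isoPullback.symm (by
        simp only [Iso.symm_hom]
        exact hpb.isoPullback_inv_snd)⟩⟩
  intro W hW
  haveI : IsAffine W.toScheme := hW
  haveI : IsNoetherian W.toScheme := {}
  let UW := W.ι ⁻¹ᵁ U
  have hdW := PurePairDesc.depth_transfer U hd W
  haveI := S0250.result UW fun w hw => purityHolds_of_ringEquiv
    (W.stalkIso w).commRingCatIsoToRingEquiv.symm (hp _ hw)
  let E₁ := (FEt.restrict (W.ι ∣_ U)).obj E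
  let Z₁ := (FEt.restrict UW.ι).objPreimage E₁
  let φ := (FEt.restrict UW.ι).objObjPreimageIso E₁
  haveI : IsFinite Z₁.hom := Z₁.prop.1
  haveI : Etale Z₁.hom := Z₁.prop.2
  haveI : IsIso φ.inv.left :=
    inferInstanceAs (IsIso ((MorphismProperty.Over.forget _ _ _ ⋙ Over.forget _).map φ.inv))
  let j₁ : E₁.left ⟶ Z₁.left := φ.inv.left ≫ pullback.fst Z₁.hom UW.ι
  have hj₁w : j₁ ≫ Z₁.hom = pullback.snd E.hom (W.ι ∣_ U) ≫ UW.ι := by
    have h : φ.inv.left ≫ pullback.snd Z₁.hom UW.ι = pullback.snd E.hom (W.ι ∣_ U) :=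
      CategoryTheory.Over.w φ.inv.hom
    simp only [j₁, Category.assoc]
    rw [pullback.condition, ← Category.assoc, h]
  haveI : IsOpenImmersion j₁ := inferInstanceAs (IsOpenImmersion (φ.inv.left ≫ pullback.fst Z₁.hom UW.ι))
  have hj₁r : j₁.opensRange = Z₁.hom ⁻¹ᵁ UW := by
    show (φ.inv.left ≫ pullback.fst Z₁.hom UW.ι).opensRange = _
    simp only [Scheme.Hom.opensRange_comp_of_isIso, Scheme.Hom.opensRange_pullbackFst,
      Scheme.Opens.opensRange_ι]
  have s2 : IsPullback (pullback.fst E.hom (W.ι ∣_ U)) (j₁ ≫ Z₁.hom) g W.ι := by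
    rw [hj₁w]
    exact (IsPullback.of_hasPullback E.hom (W.ι ∣_ U)).paste_vert (isPullback_morphismRestrict W.ι U)
  have s1 : IsPullback (pullback.fst (g ∣_ W) (𝟙 _) ≫ (g ⁻¹ᵁ W).ι) (pullback.snd (g ∣_ W) (𝟙 _)) g W.ι := by
    have h := (IsPullback.of_hasPullback (g ∣_ W) (𝟙 _)).paste_horiz (isPullback_morphismRestrict g W).flip
    rwa [Category.id_comp] at h
  let e := s1.isoIsPullback _ _ s2
  haveI : QuasiCompact g := inferInstanceAs (QuasiCompact (E.hom ≫ U.ι))
  haveI : QuasiSeparated g := inferInstanceAs (QuasiSeparated (E.hom ≫ U.ι))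
  haveI : QuasiCompact (g ∣_ W) := IsZariskiLocalAtTarget.restrict ‹_› W
  haveI : QuasiSeparated (g ∣_ W) := IsZariskiLocalAtTarget.restrict ‹_› W
  obtain ⟨k1, k2⟩ := PurePairDesc.finite_etale_appTop_of_chart UW hdW (g ∣_ W) (𝟙 _) Z₁.hom (e.hom ≫ j₁)
    (by rw [Category.assoc]; exact s1.isoIsPullback_hom_snd _ _ s2)
    (by rw [Scheme.Hom.opensRange_comp_of_isIso, hj₁r, Category.comp_id])
  show (g.app W).hom.Finite ∧ (g.app W).hom.Etale
  have he : W.ι ''ᵁ ⊤ = W := W.ι_image_top
  rw [morphismRestrict_appTop] at k1 k2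
  haveI : IsIso (E.left.presheaf.map (eqToHom (image_morphismRestrict_preimage g W ⊤)).op) := inferInstance
  have key : ∀ (W' : S.Opens), W' = W → (g.app W').hom.Finite → (g.app W').hom.Etale →
      (g.app W).hom.Finite ∧ (g.app W).hom.Etale := by
    rintro W' rfl hF hE; exact ⟨hF, hE⟩
  exact key _ he ((RingHom.finite_respectsIso.cancel_right_isIso _ _).mp k1)
    ((RingHom.Etale.respectsIso.cancel_right_isIso _ _).mp k2)

/-- Regular local rings: depth is the dimension. -/
theorem depth_regular (R : Type u) [CommRing R] [IsRegularLocalRing R] :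
    ((LocCoh.depth R R : ℕ∞) : WithBot ℕ∞) = ringKrullDim R := by
  haveI : LocCoh.IsCohenMacaulayLocalRing R := GorLib.isCohenMacaulay R (GorLib.gorensteinLocal_of_regular R)
  rw [← Module.supportDim_self_eq_ringKrullDim (R := R), LocCoh.IsCohenMacaulayLocalRing.supportDim_eq_depth]

/-- A complete intersection of dimension three has depth three. -/
theorem three_le_depth_of_isCI (A : Type u) [CommRing A] [IsNoetherianRing A] [IsLocalRing A]
    (hA : Pi1.IsCompleteIntersection A) (hd : (3 : WithBot ℕ∞) ≤ ringKrullDim A) :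
    (3 : ℕ∞) ≤ LocCoh.depth A A := by
  obtain ⟨B, _, _, rs, hm, hreg, ⟨e⟩⟩ := hA
  have hne := (maximalIdeal.isMaximal A).ne_top
  haveI := RegLocal.isLocalRing_completion A (maximalIdeal A) hne
  haveI : IsLocalRing (B ⧸ Ideal.ofList rs) := e.isLocalRing
  haveI : IsNoetherianRing (AdicCompletion (maximalIdeal A) A) := RegLocal.isNoetherianRing_completion A _
  rw [← S5810.result A A, ← Groth.Agent.S0291.depth_of_ringEquiv e]
  exact three_le_depth hm hreg (by rw [← ringKrullDim_eq_of_ringEquiv e, RegLocal.ringKrullDim_completion A _ hne]; exact hd)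

/-- Absolute complete intersections are complete intersections. -/
theorem isCI_of_isAbs (A : Type u) [CommRing A] [IsNoetherianRing A] [IsLocalRing A]
    (hA : SGA2.IsAbsCompleteIntersection A) : Pi1.IsCompleteIntersection A := by
  obtain ⟨B, _, _, rs, hm, hreg, ⟨e⟩⟩ := hA
  haveI : IsLocalRing (B ⧸ Ideal.ofList rs) := e.isLocalRing
  exact (CIFlatLib.isCI_congr (C' := B ⧸ Ideal.ofList rs) e).2
    (CIFlatLib.isCI_quotient B (CIFlatLib.isCI_of_isRegularLocalRing B) rs hreg)

theorem opensRange_pullback_snd {X U X' : Scheme.{u}} (j : U ⟶ X) [IsOpenImmersion j] (g : X' ⟶ X) :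
    (pullback.snd j g).opensRange = g ⁻¹ᵁ j.opensRange :=
  PurePairDesc.opensRange_of_isPullback (IsPullback.of_hasPullback j g)

theorem htpDepthGE3_of_local {X U : Scheme.{u}} [IsLocallyNoetherian X] (j : U ⟶ X) [IsOpenImmersion j]
    (h : ∀ (X' : Scheme.{u}) (g : X' ⟶ X) [Etale g] [IsLocallyNoetherian X'], ∀ x : X', g.base x ∉ Set.range j.base →
      (2 : ℕ∞) ≤ LocCoh.depth (X'.presheaf.stalk x) (X'.presheaf.stalk x) ∧ FEt.PurityHolds (X'.presheaf.stalk x)) :
    EtDepth.HtpDepthGE3 j := by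
  intro X' g _
  haveI : IsLocallyNoetherian X' := LocallyOfFiniteType.isLocallyNoetherian g
  rw [PurePairDesc.isEquivalence_restrict_iff (pullback.snd j g) (g ⁻¹ᵁ j.opensRange) (opensRange_pullback_snd j g)]
  exact isEquivalence_restrict_of_purity _ (fun s hs => (h X' g s hs).1) (fun s hs => (h X' g s hs).2)

theorem htpDepthGE3_of_regular {X U : Scheme.{u}} [IsLocallyNoetherian X] (j : U ⟶ X) [IsOpenImmersion j]
    (hr : ∀ x : X, IsRegularLocalRing (X.presheaf.stalk x))
    (hd : ∀ y : X, y ∉ Set.range j.base → (2 : WithBot ℕ∞) ≤ ringKrullDim (X.presheaf.stalk y)) :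
    EtDepth.HtpDepthGE3 j := by
  refine htpDepthGE3_of_local j fun X' g _ _ x hx => ?_
  haveI : IsRegularLocalRing (X'.presheaf.stalk x) := (S0065.result g x).2 (hr _)
  have h2 : (2 : WithBot ℕ∞) ≤ ringKrullDim (X'.presheaf.stalk x) :=
    (hd _ hx).trans (ASp.ringKrullDim_stalk_eq_of_etale g x).le
  refine ⟨WithBot.coe_le_coe.1 ?_, S0247.result _ h2⟩
  rw [depth_regular]
  exact h2

theorem htpDepthGE3_of_ci {X U : Scheme.{u}} [IsLocallyNoetherian X] (j : U ⟶ X) [IsOpenImmersion j]
    (hr : ∀ x : X, SGA2.IsAbsCompleteIntersection (X.presheaf.stalk x))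
    (hd : ∀ y : X, y ∉ Set.range j.base → (3 : WithBot ℕ∞) ≤ ringKrullDim (X.presheaf.stalk y)) :
    EtDepth.HtpDepthGE3 j := by
  refine htpDepthGE3_of_local j fun X' g _ _ x hx => ?_
  have hg : CInt.IsCIMorphism g :=
    (CILib.isCIMorphism_iff_isSyntomicMor g).2 (CILib.isSyntomicMor_of_smooth g)
  have hci := S2847.result g hg x (isCI_of_isAbs _ (hr _))
  have h3 : (3 : WithBot ℕ∞) ≤ ringKrullDim (X'.presheaf.stalk x) :=
    (hd _ hx).trans (ASp.ringKrullDim_stalk_eq_of_etale g x).le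
  exact ⟨le_trans (by norm_num) (three_le_depth_of_isCI _ hci h3), S0272.result _ hci h3⟩

end Groth.Agent.HyperAlg
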