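import Groth.Agent.HyperAlg.CechRing
import Groth.Agent.ParaFLiftLib.Main
import Mathlib.RingTheory.AdicCompletion.Basic
import Mathlib.RingTheory.Spectrum.Prime.Topology

/-! Clopen subsets over a formal neighbourhood of a closed subset. -/

set_option autoImplicit false
set_option linter.style.haveILetI false
set_option backward.isDefEq.respectTransparency false
set_option backward.isDefEq.respectTransparency.types false
set_option maxHeartbeats 1000000

universe u

noncomputable section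

namespace Groth.Agent.HyperAlg

open PuncSecLib

variable {A : Type u} [CommRing A] {ι : Type u} (g : ι → A)

/-- Regular pairs deep in the ideal give closedness. -/
theorem isClosedMod_of_pairs [IsNoetherianRing A] [Finite ι] (R : Type u) [AddCommGroup R] [Module A R]
    (hp : ∀ N, ∃ x y, x ∈ Ideal.span (Set.range g) ^ N ∧ y ∈ Ideal.span (Set.range g) ^ N ∧
      ParaFLiftLib.RegPair R x y) : IsClosedMod g R := by
  classical
  haveI := Fintype.ofFinite ι
  have hpow : ∀ k : ι → ℕ, ∃ N, ∀ x ∈ Ideal.span (Set.range g) ^ N, ∃ c : ι → A, ∑ i, c i * g i ^ k i = x := by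
    intro k
    obtain ⟨N, hN⟩ := Ideal.exists_pow_le_of_le_radical_of_fg (I := Ideal.span (Set.range g))
      (J := Ideal.span (Set.range fun i => g i ^ k i)) (Ideal.span_le.2 (by
        rintro _ ⟨i, rfl⟩
        exact ⟨k i, Ideal.subset_span ⟨i, rfl⟩⟩)) (IsNoetherian.noetherian _)
    exact ⟨N, fun x hx => (Submodule.mem_span_range_iff_exists_fun A).1 (hN hx)⟩
  have hsep : ∀ z : R, (∀ j, ∃ k, g j ^ k • z = 0) → z = 0 := fun z hz => by
    choose k hk using hz
    obtain ⟨N, hN⟩ := hpow k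
    obtain ⟨x, y, hx, hy, hr⟩ := hp N
    obtain ⟨c, hc⟩ := hN x hx
    refine hr.1 z ?_
    rw [← hc, Finset.sum_smul, Finset.sum_eq_zero]
    intro i _
    rw [mul_smul, hk, smul_zero]
  refine ⟨hsep, fun k w hw => ?_⟩
  obtain ⟨N, hN⟩ := hpow fun _ => k
  obtain ⟨x, y, hx, hy, hr⟩ := hp N
  obtain ⟨c, hc⟩ := hN x hx
  obtain ⟨d, hd⟩ := hN y hy
  have hmul : ∀ (e : ι → A) (j : ι), g j ^ k • ∑ i, e i • w i = (∑ i, e i * g i ^ k) • w j := fun e j => by
    rw [Finset.smul_sum, Finset.sum_smul]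
    exact Finset.sum_congr rfl fun i _ => by rw [smul_comm, hw, smul_smul]
  obtain ⟨z, hz⟩ := hr.2 (∑ i, c i • w i) (∑ i, d i • w i) (sub_eq_zero.1 (hsep _ fun j => ⟨k, by
    rw [smul_sub, smul_comm (g j ^ k) y, smul_comm (g j ^ k) x, hmul, hmul, hc, hd, smul_comm x y, sub_self]⟩))
  refine ⟨z, fun j => sub_eq_zero.1 (hr.1 _ ?_)⟩
  rw [smul_sub, smul_comm x (g j ^ k), ← hz, hmul, hc, sub_self]

variable (J : Ideal A) (B : Type u) [CommRing B] [Algebra A B]

/-- The levels. -/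
def JB (n : ℕ) : Ideal B := (J ^ (n + 1)).map (algebraMap A B)

/-- The thickenings. -/
abbrev RJ (n : ℕ) : Type u := B ⧸ JB J B n

/-- The transition of thickenings. -/
def jtr (n : ℕ) : RJ J B (n + 1) →ₐ[A] RJ J B n :=
  Ideal.Quotient.factorₐ A (Ideal.map_mono (Ideal.pow_le_pow_right (Nat.le_succ _)))

theorem jtr_mk (n : ℕ) (b : B) : jtr J B n (Ideal.Quotient.mk _ b) = Ideal.Quotient.mk _ b := rfl

/-- The part of the spectrum over the punctured closed subset. -/
abbrev SJset : Set (PrimeSpectrum B) :=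
  {q | J.map (algebraMap A B) ≤ q.asIdeal ∧ ∃ j, algebraMap A B (g j) ∉ q.asIdeal}

variable {J B}

theorem map_mem_pow (α : B →ₗ[A] A) {n : ℕ} {x : B} (hx : x ∈ (J ^ n).map (algebraMap A B)) : α x ∈ J ^ n := by
  have h : x ∈ J ^ n • (⊤ : Submodule A B) := by
    rw [Ideal.smul_top_eq_map]
    exact hx
  refine Submodule.smul_induction_on (p := fun y => α y ∈ J ^ n) h (fun r hr y _ => ?_) fun y y' hy hy' => ?_
  · rw [map_smul, smul_eq_mul]; exact Ideal.mul_mem_right _ _ hr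
  · rw [map_add]; exact add_mem hy hy'

theorem map_mem_map (β : A →ₗ[A] B) {n : ℕ} {x : A} (hx : x ∈ J ^ n) : β x ∈ (J ^ n).map (algebraMap A B) := by
  rw [show β x = algebraMap A B x * β 1 by rw [← Algebra.smul_def, ← map_smul, smul_eq_mul, mul_one]]
  exact Ideal.mul_mem_right _ _ (Ideal.mem_map_of_mem _ hx)

variable [IsNoetherianRing A] [Finite ι] [IsAdicComplete J A]

/-- Clopens of the punctured closed subset extend to clopens of the punctured spectrum. -/
theorem exists_clopen_lift (hA : ∀ n, IsClosedMod g (A ⧸ J ^ (n + 1))) (N : ι → ℕ) (k : ι → ℕ)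
    (α : ∀ j, Fin (N j) → B →ₗ[A] A) (β : ∀ j, Fin (N j) → A →ₗ[A] B)
    (hαβ : ∀ j b, ∑ c, β j c (α j c b) = g j ^ k j • b)
    (C₀ : Set (PrimeSpectrum B)) (hC : IsClopen ((↑) ⁻¹' C₀ : Set (SJset g J B))) :
    ∃ W W' : Set (PrimeSpectrum B), IsOpen W ∧ IsOpen W' ∧
      (∀ q : PrimeSpectrum B, (∃ j, algebraMap A B (g j) ∉ q.asIdeal) → (q ∈ W ↔ q ∉ W')) ∧
      ∀ q ∈ SJset g J B, (q ∈ W ↔ q ∈ C₀) := by
  classical
  haveI := Fintype.ofFinite ι
  let R₀ := RJ J B 0
  have hJ0 : ∀ r ∈ J, algebraMap A R₀ r = 0 := fun r hr =>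
    Ideal.Quotient.eq_zero_iff_mem.2 (Ideal.mem_map_of_mem _ (by rwa [zero_add, pow_one]))
  let χ : ∀ j, B →ₐ[A] Lof R₀ (g j) := fun j =>
    (IsScalarTower.toAlgHom A R₀ _).comp (Ideal.Quotient.mkₐ A _)
  let toS : ∀ j, PrimeSpectrum (Lof R₀ (g j)) → SJset g J B := fun j P =>
    ⟨PrimeSpectrum.comap (χ j).toRingHom P, ⟨Ideal.map_le_iff_le_comap.2 fun r hr => by
      show χ j (algebraMap A B r) ∈ P.asIdeal
      have h0 : χ j (algebraMap A B r) = 0 := by
        rw [(χ j).commutes, IsScalarTower.algebraMap_apply A R₀, hJ0 r hr, map_zero]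
      rw [h0]; exact P.asIdeal.zero_mem, j, fun h => P.2.ne_top (Ideal.eq_top_of_isUnit_mem _
        (show χ j (algebraMap A B (g j)) ∈ P.asIdeal from h) (by rw [(χ j).commutes]; exact isUnit_lof _))⟩⟩
  have htoS : ∀ j, Continuous (toS j) := fun j => (PrimeSpectrum.continuous_comap _).subtype_mk _
  choose e₀ he₀ hK using fun j => PrimeSpectrum.exists_idempotent_basicOpen_eq_of_isClopen (hC.preimage (htoS j))
  have hK' : ∀ j (P : PrimeSpectrum (Lof R₀ (g j))), e₀ j ∉ P.asIdeal ↔ (toS j P).1 ∈ C₀ := fun j P =>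
    (Set.ext_iff.1 (hK j) P).symm
  have hcompat : e₀ ∈ cechSub g R₀ := fun i j => by
    refine PrimeSpectrum.basicOpen_injOn_isIdempotentElem ((he₀ i).map _) ((he₀ j).map _)
      (TopologicalSpace.Opens.ext (Set.ext fun P => ?_))
    refine (hK' i (PrimeSpectrum.comap (lofMap (AlgHom.id A R₀) (g i) (g i * g j) (isUnit_left _ _)).toRingHom P)).trans
      (Iff.trans (Iff.of_eq (congrArg (· ∈ C₀) (PrimeSpectrum.ext (Ideal.ext fun b => ?_))))
        (hK' j (PrimeSpectrum.comap (lofMap (AlgHom.id A R₀) (g j) (g i * g j) (isUnit_right _ _)).toRingHom P)).symm)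
    show lofMap (AlgHom.id A R₀) (g i) (g i * g j) (isUnit_left _ _) (algebraMap R₀ (Lof R₀ (g i)) (Ideal.Quotient.mk (JB J B 0) b)) ∈ P.asIdeal ↔
      lofMap (AlgHom.id A R₀) (g j) (g i * g j) (isUnit_right _ _) (algebraMap R₀ (Lof R₀ (g j)) (Ideal.Quotient.mk (JB J B 0) b)) ∈ P.asIdeal
    rw [lofMap_eq, lofMap_eq]
  -- lifting to all levels
  have hsurj : ∀ n, Function.Surjective (jtr J B n) := fun n z => by
    obtain ⟨z, rfl⟩ := Ideal.Quotient.mk_surjective z
    exact ⟨Ideal.Quotient.mk _ z, rfl⟩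
  have hnil : ∀ n x, jtr J B n x = 0 → IsNilpotent x := fun n x hx => by
    obtain ⟨x, rfl⟩ := Ideal.Quotient.mk_surjective x
    rw [jtr_mk, Ideal.Quotient.eq_zero_iff_mem] at hx
    refine ⟨2, ?_⟩
    rw [pow_two, ← map_mul, Ideal.Quotient.eq_zero_iff_mem]
    have := Ideal.mul_mem_mul hx hx
    rw [JB, ← Ideal.map_mul, ← pow_add] at this
    exact Ideal.map_mono (Ideal.pow_le_pow_right (by omega)) this
  let E : ∀ n, {e : cechSub g (RJ J B n) // IsIdempotentElem e} := fun n => Nat.rec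
    ⟨⟨e₀, hcompat⟩, Subtype.ext (funext he₀)⟩
    (fun n e => ⟨(exists_idem_lift g (jtr J B n) (hsurj n) (hnil n) e.1 e.2).choose,
      (exists_idem_lift g (jtr J B n) (hsurj n) (hnil n) e.1 e.2).choose_spec.1⟩) n
  have htr : ∀ n, cechMap g (jtr J B n) (E (n + 1)).1 = (E n).1 := fun n =>
    (exists_idem_lift g (jtr J B n) (hsurj n) (hnil n) (E n).1 (E n).2).choose_spec.2
  let ε : ∀ n, B →ₐ[A] cechSub g (RJ J B n) := fun n => (toCech g _).comp (Ideal.Quotient.mkₐ A _)
  have hεtr : ∀ n b, cechMap g (jtr J B n) (ε (n + 1) b) = ε n b := fun n b => cechMap_toCech g (jtr J B n) _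
  have hεzero : ∀ n b, ε n b = 0 → ∀ j, ∃ p : ℕ, g j ^ p • b ∈ JB J B n := fun n b hb j => by
    obtain ⟨p, hp⟩ := toCech_eq_zero g (show toCech g (RJ J B n) (Ideal.Quotient.mk _ b) = 0 from hb) j
    exact ⟨p, Ideal.Quotient.eq_zero_iff_mem.1 hp⟩
  have hrep : ∀ n i, ∃ (p : ℕ) (b : B), ε n b = g i ^ p • (E n).1 := fun n i => by
    obtain ⟨p, b, hb⟩ := cech_num g i (E n).1
    obtain ⟨b, rfl⟩ := Ideal.Quotient.mk_surjective b
    exact ⟨p, b, hb⟩
  have hzero : ∀ (j : ι) (c : Fin (N j)) n b, ε n b = 0 → Ideal.Quotient.mk (J ^ (n + 1)) (α j c b) = 0 :=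
    fun j c n b hb => (hA n).sep _ fun i => by
      obtain ⟨p, hp⟩ := hεzero n b hb i
      refine ⟨p, ?_⟩
      show Ideal.Quotient.mk (J ^ (n + 1)) (g i ^ p • α j c b) = 0
      rw [← map_smul, Ideal.Quotient.eq_zero_iff_mem]
      exact map_mem_pow (α j c) hp
  have hval : ∀ (j : ι) (c : Fin (N j)) n, ∃ t : A, ∀ i p b, ε n b = g i ^ p • (E n).1 →
      Ideal.Quotient.mk (J ^ (n + 1)) (g i ^ p * t) = Ideal.Quotient.mk (J ^ (n + 1)) (α j c b) := by
    intro j c n
    choose p₀ b₀ hb₀ using hrep n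
    let K := Finset.univ.sup p₀
    let b₁ : ι → B := fun i => g i ^ (K - p₀ i) • b₀ i
    have hb₁ : ∀ i, ε n (b₁ i) = g i ^ K • (E n).1 := fun i => by
      rw [map_smul, hb₀, smul_smul, ← pow_add, Nat.sub_add_cancel (Finset.le_sup (f := p₀) (Finset.mem_univ i))]
    have hcross : ∀ i l p b, ε n b = g i ^ p • (E n).1 →
        Ideal.Quotient.mk (J ^ (n + 1)) (g l ^ K * α j c b) = Ideal.Quotient.mk (J ^ (n + 1)) (g i ^ p * α j c (b₁ l)) :=
      fun i l p b hb => by
        rw [← sub_eq_zero, ← map_sub, ← smul_eq_mul, ← smul_eq_mul, ← map_smul, ← map_smul, ← map_sub]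
        exact hzero j c n _ (by rw [map_sub, map_smul, map_smul, hb, hb₁, smul_comm, sub_self])
    obtain ⟨t, ht⟩ := (hA n).glue K (fun i => Ideal.Quotient.mk (J ^ (n + 1)) (α j c (b₁ i))) fun i l =>
      hcross i l K _ (hb₁ i)
    obtain ⟨t, rfl⟩ := Ideal.Quotient.mk_surjective t
    refine ⟨t, fun i p b hb => sub_eq_zero.1 ((hA n).sep _ fun l => ⟨K, ?_⟩)⟩
    rw [smul_sub, sub_eq_zero]
    show Ideal.Quotient.mk _ (g l ^ K * (g i ^ p * t)) = Ideal.Quotient.mk _ (g l ^ K * α j c b)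
    rw [hcross i l p b hb, mul_left_comm, map_mul, map_mul _ (g i ^ p) (α j c (b₁ l))]
    exact congrArg _ (ht l)
  choose t ht using hval
  have hstep : ∀ j c n, t j c (n + 1) - t j c n ∈ J ^ (n + 1) := fun j c n => by
    rw [← Ideal.Quotient.eq, ← sub_eq_zero]
    refine (hA n).sep _ fun i => ?_
    obtain ⟨p, b, hb⟩ := hrep (n + 1) i
    refine ⟨p, ?_⟩
    have h1 := ht j c (n + 1) i p b hb
    have hb' := congrArg (cechMap g (jtr J B n)) hb
    rw [hεtr, map_smul, htr] at hb'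
    have h2 := ht j c n i p b hb'
    have h3 := congrArg (Ideal.Quotient.factor (Ideal.pow_le_pow_right (I := J) (Nat.le_succ (n + 1)))) h1
    simp only [Ideal.Quotient.factor_mk] at h3
    rw [smul_sub, sub_eq_zero]
    exact h3.trans h2.symm
  -- the limit
  have hlim : ∀ j c, ∃ L : A, ∀ n, t j c n - L ∈ J ^ (n + 1) := fun j c => by
    let f : ℕ → A := fun n => t j c (n - 1)
    have hf : ∀ {m n}, m ≤ n → f m ≡ f n [SMOD (J ^ m • ⊤ : Submodule A A)] := fun {m n} hmn => by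
      rw [SModEq.sub_mem, smul_eq_mul, Ideal.mul_top]
      rcases m with _ | m
      · rw [pow_zero, Ideal.one_eq_top]; trivial
      induction n, hmn using Nat.le_induction with
      | base => rw [sub_self]; exact zero_mem _
      | succ n hmn ih =>
        rw [← sub_add_sub_cancel (f (m + 1)) (f n) (f (n + 1))]
        refine add_mem ih ?_
        obtain ⟨n, rfl⟩ : ∃ n', n = n' + 1 := ⟨n - 1, by omega⟩
        show t j c n - t j c (n + 1) ∈ _
        rw [← neg_sub]
        exact neg_mem (Ideal.pow_le_pow_right hmn (hstep j c n))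
    obtain ⟨L, hL⟩ := IsPrecomplete.prec' (I := J) f hf
    refine ⟨L, fun n => ?_⟩
    have := hL (n + 1)
    rwa [SModEq.sub_mem, smul_eq_mul, Ideal.mul_top] at this
  choose L hL using hlim
  let s : ι → B := fun j => ∑ c, β j c (L j c)
  let u : ι → B := fun j => algebraMap A B (g j ^ k j)
  have hs : ∀ j n, ε n (s j) = g j ^ k j • (E n).1 := fun j n => by
    refine sub_eq_zero.1 ((isClosedMod_cech g).sep _ fun i => ?_)
    obtain ⟨p, b, hb⟩ := hrep n i
    refine ⟨p, ?_⟩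
    have hmem : g i ^ p • s j - g j ^ k j • b ∈ JB J B n := by
      rw [← hαβ, Finset.smul_sum, ← Finset.sum_sub_distrib]
      refine Ideal.sum_mem _ fun c _ => ?_
      rw [← map_smul, ← map_sub]
      refine map_mem_map (β j c) ?_
      rw [smul_eq_mul, ← Ideal.Quotient.eq, ← ht j c n i p b hb, Ideal.Quotient.eq, ← mul_sub]
      exact Ideal.mul_mem_left _ _ (by rw [← neg_sub]; exact neg_mem (hL j c n))
    have h0 : ε n (g i ^ p • s j - g j ^ k j • b) = 0 := by
      show toCech g (RJ J B n) (Ideal.Quotient.mk _ (g i ^ p • s j - g j ^ k j • b)) = 0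
      rw [Ideal.Quotient.eq_zero_iff_mem.2 hmem, map_zero]
    rw [map_sub, map_smul, map_smul, hb] at h0
    rw [smul_sub, smul_comm (g i ^ p) (g j ^ k j)]
    exact h0
  have hvanish : ∀ z, (∀ n, ε n z = 0) → ∀ j, g j ^ k j • z = 0 := fun z hz j => by
    rw [← hαβ, Finset.sum_eq_zero]
    intro c _
    rw [show α j c z = 0 from IsHausdorff.haus (I := J) inferInstance _ fun n => ?_, map_zero]
    rw [SModEq.zero, smul_eq_mul, Ideal.mul_top]
    rcases n with _ | n
    · rw [pow_zero, Ideal.one_eq_top]; trivial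
    · exact Ideal.Quotient.eq_zero_iff_mem.1 (hzero j c n z (hz n))
  have hidem : ∀ j l, g l ^ k l • (s j * (s j - u j)) = 0 := fun j l => hvanish _ (fun n => by
    rw [map_mul, map_sub, (ε n).commutes, hs, Algebra.smul_def, mul_sub, mul_mul_mul_comm,
      show (E n).1 * (E n).1 = (E n).1 from (E n).2]
    ring) l
  have hagree : ∀ i j l, g l ^ k l • (u i * s j - u j * s i) = 0 := fun i j l => hvanish _ (fun n => by
    rw [map_sub, map_mul, map_mul, (ε n).commutes, (ε n).commutes, hs, hs, Algebra.smul_def, Algebra.smul_def]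
    ring) l
  -- the facts at a point of the punctured spectrum
  have hu : ∀ {q : PrimeSpectrum B} {j : ι}, algebraMap A B (g j) ∉ q.asIdeal → u j ∉ q.asIdeal :=
    fun {q j} h hh => h (q.2.mem_of_pow_mem _ (by rw [← map_pow]; exact hh))
  have hloc : ∀ {q : PrimeSpectrum B} {j : ι} {z : B}, algebraMap A B (g j) ∉ q.asIdeal → g j ^ k j • z = 0 →
      z ∈ q.asIdeal := fun {q j z} h hz => by
    rw [Algebra.smul_def] at hz
    exact (q.2.mem_or_mem (hz ▸ q.asIdeal.zero_mem)).resolve_left (hu h)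
  have hiff : ∀ {q : PrimeSpectrum B} {i j : ι}, algebraMap A B (g i) ∉ q.asIdeal → algebraMap A B (g j) ∉ q.asIdeal →
      (s i ∈ q.asIdeal ↔ s j ∈ q.asIdeal) := fun {q i j} hi hj => by
    have h := hloc hi (hagree i j i)
    exact ⟨fun hsi => (q.2.mem_or_mem ((Submodule.sub_mem_iff_left _ (q.asIdeal.mul_mem_left _ hsi)).1 h)).resolve_left (hu hi),
      fun hsj => (q.2.mem_or_mem ((Submodule.sub_mem_iff_right _ (q.asIdeal.mul_mem_left _ hsj)).1 h)).resolve_left (hu hj)⟩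
  let W : Set (PrimeSpectrum B) := {q | ∃ j, algebraMap A B (g j) * s j ∉ q.asIdeal}
  let W' : Set (PrimeSpectrum B) := {q | ∃ j, algebraMap A B (g j) * (s j - u j) ∉ q.asIdeal}
  have hW : ∀ {q : PrimeSpectrum B} {j : ι}, algebraMap A B (g j) ∉ q.asIdeal → (q ∈ W ↔ s j ∉ q.asIdeal) :=
    fun {q j} hj => ⟨fun ⟨i, hi⟩ hsj => hi (q.asIdeal.mul_mem_left _
      ((hiff (fun h => hi (q.asIdeal.mul_mem_right _ h)) hj).2 hsj)), fun h => ⟨j, q.2.mul_notMem hj h⟩⟩
  refine ⟨W, W', ?_, ?_, fun q ⟨j, hj⟩ => ?_, fun q hq => ?_⟩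
  · simp only [W]
    rw [Set.setOf_exists]
    exact isOpen_iUnion fun j => (PrimeSpectrum.basicOpen _).2
  · simp only [W']
    rw [Set.setOf_exists]
    exact isOpen_iUnion fun j => (PrimeSpectrum.basicOpen _).2
  · rw [hW hj]
    refine ⟨fun hsj ⟨i, hi⟩ => ?_, fun h hsj => h ⟨j, q.2.mul_notMem hj fun hh => ?_⟩⟩
    · obtain ⟨hgi, hsi⟩ := (⟨fun h => hi (q.asIdeal.mul_mem_right _ h), fun h => hi (q.asIdeal.mul_mem_left _ h)⟩ :
        algebraMap A B (g i) ∉ q.asIdeal ∧ s i - u i ∉ q.asIdeal)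
      exact hsj ((hiff hgi hj).1 ((q.2.mem_or_mem (hloc hgi (hidem i i))).resolve_right hsi))
    · exact hu hj ((Submodule.sub_mem_iff_right _ hsj).1 hh)
  · obtain ⟨hJq, j, hjq⟩ := hq
    have hle : JB J B 0 ≤ q.asIdeal := by rwa [JB, zero_add, pow_one]
    obtain ⟨q', hq'⟩ : q ∈ Set.range (PrimeSpectrum.comap (Ideal.Quotient.mk (JB J B 0))) := by
      rw [range_comap_of_surjective _ _ Ideal.Quotient.mk_surjective, Ideal.mk_ker, PrimeSpectrum.mem_zeroLocus]
      exact hle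
    obtain ⟨P, hP⟩ : q' ∈ Set.range (PrimeSpectrum.comap (algebraMap R₀ (Lof R₀ (g j)))) := by
      rw [PrimeSpectrum.localization_away_comap_range _ (algebraMap A R₀ (g j))]
      show algebraMap A R₀ (g j) ∉ q'.asIdeal
      rw [← hq'] at hjq
      exact hjq
    have hqP : q = (toS j P).1 := by rw [← hq', ← hP]; rfl
    rw [hW hjq, hqP]
    refine Iff.trans (not_congr ?_) (hK' j P)
    show χ j (s j) ∈ P.asIdeal ↔ _
    have h1 : χ j (s j) = algebraMap A _ (g j ^ k j) * e₀ j := by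
      have h := congrFun (congrArg Subtype.val (hs j 0)) j
      exact h.trans (Algebra.smul_def (g j ^ k j) (e₀ j))
    rw [h1]
    exact Ideal.unit_mul_mem_iff_mem _ (by rw [map_pow]; exact (isUnit_lof _).pow _)

end Groth.Agent.HyperAlg
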