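import Groth.Agent.HyperFEt.CompleteFF
import Groth.Agent.HyperFEt.Dualizing
import Groth.Agent.HyperFEt.Clopen
import Groth.Agent.S0238
import Groth.Agent.S0239
import Groth.Agent.S2089
import Groth.Agent.SmallAlgLib.Primes
import Groth.Agent.DualCxLib.Exist
import Groth.Agent.DualCxLib.Regular

/-! Pure pairs at the closed point of a local ring. -/

set_option autoImplicit false
set_option linter.style.haveILetI false
set_option backward.isDefEq.respectTransparency false
set_option backward.isDefEq.respectTransparency.types false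

universe u

open CategoryTheory CategoryTheory.Limits AlgebraicGeometry MorphismProperty

noncomputable section

namespace Groth.Agent.HyperAlg

/-- The pair is pure once restriction to the punctured spectrum is an equivalence. -/
theorem isPurePair_punctured (A : Type u) [CommRing A] [IsLocalRing A]
    (h : (FEt.restrict (FEt.puncturedSpec A).ι).IsEquivalence) :
    SGA2.IsPurePair (Spec (CommRingCat.of A)) (FEt.puncturedSpec A) := fun V => by
  let X := Spec (CommRingCat.of A)
  let U := FEt.puncturedSpec A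
  let m : PrimeSpectrum A := IsLocalRing.closedPoint A
  by_cases hm : m ∈ V
  · obtain rfl : V = ⊤ := top_le_iff.1 fun q _ =>
      ((PrimeSpectrum.le_iff_specializes q m).1 (IsLocalRing.le_maximalIdeal q.2.ne_top)).mem_open V.2 hm
    let j := X.homOfLE (inf_le_left : ⊤ ⊓ U ≤ ⊤)
    let e : ((⊤ : X.Opens) ⊓ U : X.Opens).toScheme ≅ U.toScheme := X.isoOfEq (top_inf_eq U)
    haveI := h
    haveI := PurePairDesc.isEquivalence_restrict_of_isIso e.hom
    haveI : IsIso (⊤ : X.Opens).ι := by rw [← Scheme.topIso_hom]; infer_instance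
    haveI := PurePairDesc.isEquivalence_restrict_of_isIso (inv (⊤ : X.Opens).ι)
    refine Functor.isEquivalence_of_iso (F := FEt.restrict (inv (⊤ : X.Opens).ι) ⋙ FEt.restrict U.ι ⋙ FEt.restrict e.hom) ?_
    exact Functor.isoWhiskerLeft _ (MorphismProperty.Over.pullbackComp e.hom U.ι).symm ≪≫
      (MorphismProperty.Over.pullbackComp (e.hom ≫ U.ι) (inv (⊤ : X.Opens).ι)).symm ≪≫
      eqToIso (congrArg FEt.restrict (by
        rw [← cancel_mono (⊤ : X.Opens).ι, Category.assoc, IsIso.inv_hom_id, Category.comp_id, Scheme.homOfLE_ι,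
          Scheme.isoOfEq_hom_ι]))
  · have hle : V ≤ U := fun q hq (hqm : q = m) => hm (hqm ▸ hq)
    haveI : IsIso (X.homOfLE (inf_le_left : V ⊓ U ≤ V)) := by
      rw [show X.homOfLE (inf_le_left : V ⊓ U ≤ V) = (X.isoOfEq (inf_eq_left.2 hle)).hom from
        (Scheme.isoOfEq_hom _ _).symm]
      infer_instance
    exact PurePairDesc.isEquivalence_restrict_of_isIso _

/-- Restriction to the punctured spectrum is an equivalence when it is one on a henselian hypersurface. -/
theorem isEquivalence_of_hypersurface (A : Type u) [CommRing A] [IsLocalRing A] (f : A)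
    [HenselianRing A (Ideal.span {f})] [IsLocalRing (A ⧸ Ideal.span {f})]
    [(FEt.restrict (HyperFEt.r0 A f)).Full] [(FEt.restrict (HyperFEt.r0 A f)).Faithful]
    (hB : (FEt.restrict (FEt.puncturedSpec (A ⧸ Ideal.span {f})).ι).IsEquivalence) :
    (FEt.restrict (FEt.puncturedSpec A).ι).IsEquivalence := by
  let q := Spec.map (CommRingCat.ofHom (Ideal.Quotient.mk (Ideal.span {f})))
  let U := FEt.puncturedSpec A
  let U₁ := FEt.puncturedSpec (A ⧸ Ideal.span {f})
  haveI : IsLocalHom (Ideal.Quotient.mk (Ideal.span {f})) := IsLocalHom.of_surjective _ Ideal.Quotient.mk_surjective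
  haveI : IsClosedImmersion q := IsClosedImmersion.spec_of_surjective _ Ideal.Quotient.mk_surjective
  have hp : q ⁻¹ᵁ U = U₁ := by
    have hc : q (IsLocalRing.closedPoint (A ⧸ Ideal.span {f})) = IsLocalRing.closedPoint A :=
      IsLocalRing.comap_closedPoint (Ideal.Quotient.mk (Ideal.span {f}))
    refine TopologicalSpace.Opens.ext (Set.ext fun z => not_congr ⟨fun hz => ?_, fun hz => ?_⟩)
    · exact (q.isClosedEmbedding.injective (Eq.trans hz hc.symm) : z = IsLocalRing.closedPoint _)
    · rw [show z = IsLocalRing.closedPoint (A ⧸ Ideal.span {f}) from hz]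
      exact hc
  have hr : Set.range (U₁.ι ≫ q) ⊆ Set.range U.ι := by
    rintro _ ⟨z, rfl⟩
    rw [Scheme.Opens.range_ι]
    exact (TopologicalSpace.Opens.ext_iff.1 hp).ge z.2
  have hsq : IsPullback (IsOpenImmersion.lift U.ι _ hr) U₁.ι U.ι q :=
    IsOpenImmersion.isPullback _ _ _ _ (IsOpenImmersion.lift_fac _ _ _).symm (by
      rw [Scheme.Opens.opensRange_ι, Scheme.Opens.opensRange_ι, hp])
  let κ := hsq.isoPullback.inv
  haveI : (FEt.restrict q).IsEquivalence := S0239.result A (Ideal.span {f})
  haveI := hB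
  haveI := PurePairDesc.isEquivalence_restrict_of_isIso κ
  haveI : (FEt.restrict U.ι ⋙ FEt.restrict (HyperFEt.r0 A f)).IsEquivalence :=
    Functor.isEquivalence_of_iso (F := FEt.restrict q ⋙ FEt.restrict U₁.ι ⋙ FEt.restrict κ)
      (Functor.isoWhiskerLeft _ (MorphismProperty.Over.pullbackComp κ U₁.ι).symm ≪≫
        (MorphismProperty.Over.pullbackComp (κ ≫ U₁.ι) q).symm ≪≫
        eqToIso (congrArg FEt.restrict (by
          rw [hsq.isoPullback_inv_snd]
          exact pullback.condition.symm)) ≪≫ MorphismProperty.Over.pullbackComp (HyperFEt.r0 A f) U.ι)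
  haveI : (FEt.restrict U.ι).Faithful := Functor.Faithful.of_comp _ (FEt.restrict (HyperFEt.r0 A f))
  haveI : (FEt.restrict U.ι).Full := Functor.Full.of_comp_faithful _ (FEt.restrict (HyperFEt.r0 A f))
  haveI : (FEt.restrict U.ι).EssSurj := ⟨fun W => by
    let G := FEt.restrict U.ι ⋙ FEt.restrict (HyperFEt.r0 A f)
    exact ⟨G.objPreimage ((FEt.restrict (HyperFEt.r0 A f)).obj W),
      ⟨(FEt.restrict (HyperFEt.r0 A f)).preimageIso (G.objObjPreimageIso _)⟩⟩⟩
  exact {}

/-- The depth condition away from a regular element of the maximal ideal. -/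
theorem depth_add_dim_gt_two (A : Type u) [CommRing A] [IsNoetherianRing A] [IsLocalRing A] (t : A)
    (ht : t ∈ IsLocalRing.maximalIdeal A)
    (hdepth : ∀ p : Ideal A, ∀ _ : p.IsPrime, ringKrullDim (A ⧸ p) = 1 →
      (2 : ℕ∞) ≤ LocCoh.depth (Localization.AtPrime p) (Localization.AtPrime p))
    (p : Ideal A) [p.IsPrime] (htp : t ∉ p) :
    (2 : WithBot ℕ∞) < (LocCoh.depth (Localization.AtPrime p) (Localization.AtPrime p) : WithBot ℕ∞) +
      ringKrullDim (A ⧸ p) := by
  let m := IsLocalRing.maximalIdeal A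
  have hlt : p < m := lt_of_le_of_ne (IsLocalRing.le_maximalIdeal ‹p.IsPrime›.ne_top) fun h => htp (h ▸ ht)
  haveI : Nontrivial (A ⧸ p) := Ideal.Quotient.nontrivial_iff.2 ‹p.IsPrime›.ne_top
  obtain ⟨e, he⟩ : ∃ e : ℕ, ringKrullDim (A ⧸ p) = e := by
    obtain ⟨n, hn⟩ := ENat.ne_top_iff_exists.mp (CatLib.coheight_ne_top (⟨p, ‹_›⟩ : PrimeSpectrum A))
    exact ⟨n, by rw [CatLib.ringKrullDim_quotient_eq_coheight ⟨p, ‹_›⟩, ← hn]; rfl⟩
  have hmax : ringKrullDim (A ⧸ p) = (m.map (Ideal.Quotient.mk p)).height := by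
    haveI : IsLocalRing (A ⧸ p) := IsLocalRing.of_surjective' _ Ideal.Quotient.mk_surjective
    rw [IsLocalRing.map_maximalIdeal_of_surjective _ Ideal.Quotient.mk_surjective]
    exact IsLocalRing.maximalIdeal_height_eq_ringKrullDim.symm
  have he1 : 1 ≤ e := by
    by_contra h0
    obtain rfl : e = 0 := by omega
    haveI : IsLocalRing (A ⧸ p) := IsLocalRing.of_surjective' _ Ideal.Quotient.mk_surjective
    haveI : Ring.KrullDimLE 0 (A ⧸ p) := Ring.krullDimLE_iff.2 (le_of_eq he)
    have hbot : IsLocalRing.maximalIdeal (A ⧸ p) = ⊥ :=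
      ((show (⊥ : Ideal (A ⧸ p)).IsPrime from Ideal.isPrime_bot).isMaximal'.eq_of_le (IsLocalRing.maximalIdeal.isMaximal _).ne_top bot_le).symm
    rw [← IsLocalRing.map_maximalIdeal_of_surjective _ Ideal.Quotient.mk_surjective, Ideal.map_eq_bot_iff_le_ker,
      Ideal.mk_ker] at hbot
    exact not_le_of_gt hlt hbot
  rw [he]
  generalize hD : LocCoh.depth (Localization.AtPrime p) (Localization.AtPrime p) = D
  suffices h : ∀ k : ℕ, (k : ℕ∞) = D → 2 < k + e by
    induction D with
    | top =>
      rw [show ((e : ℕ) : WithBot ℕ∞) = ((e : ℕ∞) : WithBot ℕ∞) from rfl, ← WithBot.coe_add, top_add]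
      exact WithBot.coe_lt_coe.2 (ENat.coe_lt_top 2)
    | coe k =>
      show (((2 : ℕ) : ℕ∞) : WithBot ℕ∞) < (((k : ℕ) : ℕ∞) : WithBot ℕ∞) + (((e : ℕ) : ℕ∞) : WithBot ℕ∞)
      rw [← WithBot.coe_add, WithBot.coe_lt_coe, ← Nat.cast_add, Nat.cast_lt]
      exact h k rfl
  intro k hk
  subst hk
  by_cases h3 : 3 ≤ e
  · omega
  by_cases h1 : e = 1
  · subst h1
    have h2 := hdepth p inferInstance (by exact_mod_cast he)
    rw [hD] at h2
    have : 2 ≤ k := by exact_mod_cast h2
    omega
  obtain rfl : e = 2 := by omega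
  by_contra hk0
  obtain rfl : k = 0 := by omega
  have hass : p ∈ associatedPrimes A A :=
    (Depth.mem_associatedPrimes_iff_depth_eq_zero p).2 (by exact_mod_cast hD)
  have hht : 1 < (m.map (Ideal.Quotient.mk p)).height := by
    refine WithBot.coe_lt_coe.1 (show ((1 : ℕ∞) : WithBot ℕ∞) < _ from ?_)
    rw [← hmax, he]
    exact WithBot.coe_lt_coe.2 (ENat.coe_lt_coe.2 one_lt_two)
  obtain ⟨P, hP, hpP, hPm, htP⟩ := SmallAlgLib.exists_prime_between' A p m hlt.le hht t ht htp
  haveI := hP
  have hno : ∀ a b c d : PrimeSpectrum A, p ≤ a.asIdeal → a < b → b < c → c < d → False :=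
    fun a b c d ha hab hbc hcd => by
    let S := PrimeSpectrum.zeroLocus (R := A) (p : Set A)
    let a' : S := ⟨a, ha⟩
    let b' : S := ⟨b, ha.trans hab.le⟩
    let c' : S := ⟨c, ha.trans (hab.trans hbc).le⟩
    let d' : S := ⟨d, ha.trans ((hab.trans hbc).trans hcd).le⟩
    let l : LTSeries S :=
      { length := 3
        toFun := ![a', b', c', d']
        step := fun i => by fin_cases i <;> assumption }
    have h4 : ((3 : ℕ) : WithBot ℕ∞) ≤ Order.krullDim S := Order.LTSeries.length_le_krullDim l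
    rw [← ringKrullDim_quotient, he, Nat.cast_le] at h4
    omega
  let P' : PrimeSpectrum A := ⟨P, hP⟩
  let m' : PrimeSpectrum A := ⟨m, inferInstance⟩
  let p' : PrimeSpectrum A := ⟨p, inferInstance⟩
  have hPdim : ringKrullDim (A ⧸ P) = 1 := by
    refine le_antisymm ?_ ?_
    · by_contra h2
      have h2' : ((2 : ℕ) : WithBot ℕ∞) ≤ ringKrullDim (A ⧸ P) := by
        generalize hc : ringKrullDim (A ⧸ P) = c at h2
        induction c with
        | bot => exact absurd bot_le h2
        | coe c =>
          have h1 : ¬ c ≤ 1 := fun h => h2 (WithBot.coe_le_coe.2 h)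
          exact WithBot.coe_le_coe.2 (ENat.add_one_le_iff (ENat.coe_ne_top 1) |>.2 (not_le.1 h1))
      rw [ringKrullDim_quotient] at h2'
      obtain ⟨l, hl⟩ := Order.le_krullDim_iff.1 h2'
      let i0 : Fin (l.length + 1) := ⟨0, by omega⟩
      let i1 : Fin (l.length + 1) := ⟨1, by omega⟩
      let i2 : Fin (l.length + 1) := ⟨2, by omega⟩
      exact hno p' (l i0).1 (l i1).1 (l i2).1 le_rfl
        (lt_of_lt_of_le (show p' < P' from hpP) (show P' ≤ (l i0).1 from (l i0).2))
        (l.strictMono (show i0 < i1 from Nat.one_pos)) (l.strictMono (show i1 < i2 from Nat.lt_succ_self 1))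
    · rw [ringKrullDim_quotient]
      let a' : PrimeSpectrum.zeroLocus (R := A) (P : Set A) := ⟨P', le_refl P⟩
      let b' : PrimeSpectrum.zeroLocus (R := A) (P : Set A) := ⟨m', hPm.le⟩
      let l : LTSeries (PrimeSpectrum.zeroLocus (R := A) (P : Set A)) := (RelSeries.singleton _ a').snoc b' hPm
      exact Order.LTSeries.length_le_krullDim l
  -- localize at the intermediate prime
  have h2 := hdepth P hP hPdim
  let L := Localization.AtPrime P
  let pL := p.map (algebraMap A L)
  have hdis : Disjoint (P.primeCompl : Set A) (p : Set A) := Set.disjoint_left.2 fun x hx hxp => hx (hpP.le hxp)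
  haveI : pL.IsPrime := IsLocalization.isPrime_of_isPrime_disjoint P.primeCompl L p inferInstance hdis
  have hcomap : pL.comap (algebraMap A L) = p := IsLocalization.under_map_of_isPrime_disjoint P.primeCompl L ‹_› hdis
  have hassL : pL ∈ associatedPrimes L L :=
    Module.associatedPrimes.mem_associatedPrimes_of_comap_mem_associatedPrimes_of_isLocalizedModule
      P.primeCompl (Algebra.linearMap A L) pL (by rw [hcomap]; exact hass)
  have h5 : ((2 : ℕ) : WithBot ℕ∞) ≤ ringKrullDim (L ⧸ pL) := (WithBot.coe_le_coe.2 h2).trans (S2089.result pL hassL)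
  rw [ringKrullDim_quotient] at h5
  obtain ⟨l, hl⟩ := Order.le_krullDim_iff.1 h5
  let c := PrimeSpectrum.comap (algebraMap A L)
  have hc : StrictMono c := Monotone.strictMono_of_injective (fun x y h => Ideal.comap_mono h)
    (PrimeSpectrum.localization_comap_injective L P.primeCompl)
  let i0 : Fin (l.length + 1) := ⟨0, by omega⟩
  let i1 : Fin (l.length + 1) := ⟨1, by omega⟩
  let i2 : Fin (l.length + 1) := ⟨2, by omega⟩
  refine hno (c (l i0).1) (c (l i1).1) (c (l i2).1) m' (hcomap.ge.trans (Ideal.comap_mono (l i0).2))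
    (hc (l.strictMono (show i0 < i1 from Nat.one_pos))) (hc (l.strictMono (show i1 < i2 from Nat.lt_succ_self 1)))
    (lt_of_le_of_lt (fun x hx => ?_) (show P' < m' from hPm))
  by_contra hxP
  exact (l i2).1.2.ne_top (Ideal.eq_top_of_isUnit_mem _ hx
    (IsLocalization.map_units L (⟨x, hxP⟩ : P.primeCompl)))

/-- A quotient of a regular local ring has a dualizing complex. -/
theorem exists_dualizing_of_quotient_regular (A : Type u) [CommRing A] [IsNoetherianRing A]
    (hq : ∃ (B : Type u) (_ : CommRing B) (_ : IsRegularLocalRing B) (φ : B →+* A), Function.Surjective φ) :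
    ∃ ω : Dual.D A, Dual.IsDualizing A ω := by
  obtain ⟨S, _, _, φ, hφ⟩ := hq
  letI : Algebra S A := φ.toAlgebra
  haveI : Module.Finite S A := Module.Finite.of_surjective (Algebra.linearMap S A) hφ
  exact DualCxLib.exists_dualizing_of_finite A (DualCxLib.isGorensteinLocalRing_iff.1
    (GorLib.gorensteinLocal_of_regular S))

end Groth.Agent.HyperAlg
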