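import Groth.Agent.HyperAlg.IdealClopen
import Groth.Agent.HyperAlg.PurePair
import Groth.Agent.HyperFEt.CompleteFF
import Groth.Agent.S0258

/-! Restriction of covers of a punctured spectrum to a formal neighbourhood. -/

set_option autoImplicit false
set_option linter.style.haveILetI false
set_option backward.isDefEq.respectTransparency false
set_option backward.isDefEq.respectTransparency.types false
set_option maxHeartbeats 1000000

universe u

open CategoryTheory CategoryTheory.Limits AlgebraicGeometry MorphismProperty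

noncomputable section

namespace Groth.Agent.HyperAlg

open HyperFEt

section

variable {A : Type u} [CommRing A] [IsLocalRing A] [IsNoetherianRing A] {ι : Type u} [Finite ι] (g : ι → A)

/-- The punctured spectrum is connected. -/
theorem eq_univ_of_partition (hA : IsClosedMod g A) (S S' : Set (PrimeSpectrum A)) (hS : IsOpen S) (hS' : IsOpen S')
    (hpart : ∀ q ∈ XB A g, (q ∈ S ↔ q ∉ S')) {q₀ : PrimeSpectrum A} (h₀ : q₀ ∈ XB A g) (h₀S : q₀ ∈ S) :
    ∀ q ∈ XB A g, q ∈ S := by
  classical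
  haveI := Fintype.ofFinite ι
  let c : ∀ j, PrimeSpectrum (Lof A (g j)) → PrimeSpectrum A := fun j => PrimeSpectrum.comap (algebraMap A _)
  have hcX : ∀ j P, c j P ∈ XB A g := fun j P => ⟨j, fun h => P.2.ne_top (Ideal.eq_top_of_isUnit_mem _ h (by
    show IsUnit (algebraMap A (Lof A (g j)) (g j))
    exact isUnit_lof (g j)))⟩
  have hcl : ∀ j, IsClopen (c j ⁻¹' S) := fun j => by
    refine ⟨?_, hS.preimage (PrimeSpectrum.continuous_comap _)⟩
    rw [show c j ⁻¹' S = (c j ⁻¹' S')ᶜ from Set.ext fun P => hpart _ (hcX j P)]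
    exact (hS'.preimage (PrimeSpectrum.continuous_comap _)).isClosed_compl
  choose e₀ he₀ hK using fun j => PrimeSpectrum.exists_idempotent_basicOpen_eq_of_isClopen (hcl j)
  have hK' : ∀ j (P : PrimeSpectrum (Lof A (g j))), e₀ j ∉ P.asIdeal ↔ c j P ∈ S := fun j P =>
    (Set.ext_iff.1 (hK j) P).symm
  have hcompat : e₀ ∈ cechSub g A := fun i j => by
    refine PrimeSpectrum.basicOpen_injOn_isIdempotentElem ((he₀ i).map _) ((he₀ j).map _)
      (TopologicalSpace.Opens.ext (Set.ext fun P => ?_))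
    refine (hK' i (PrimeSpectrum.comap (lofMap (AlgHom.id A A) (g i) (g i * g j) (isUnit_left _ _)).toRingHom P)).trans
      (Iff.trans (Iff.of_eq (congrArg (· ∈ S) (PrimeSpectrum.ext (Ideal.ext fun b => ?_))))
        (hK' j (PrimeSpectrum.comap (lofMap (AlgHom.id A A) (g j) (g i * g j) (isUnit_right _ _)).toRingHom P)).symm)
    show lofMap (AlgHom.id A A) (g i) (g i * g j) (isUnit_left _ _) (algebraMap A (Lof A (g i)) b) ∈ P.asIdeal ↔
      lofMap (AlgHom.id A A) (g j) (g i * g j) (isUnit_right _ _) (algebraMap A (Lof A (g j)) b) ∈ P.asIdeal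
    rw [lofMap_eq, lofMap_eq]
  let e : cechSub g A := ⟨e₀, hcompat⟩
  have he : IsIdempotentElem e := Subtype.ext (funext he₀)
  have hinj : ∀ z, toCech g A z = 0 → z = 0 := fun z hz => hA.sep z (toCech_eq_zero g hz)
  obtain ⟨t, ht⟩ : ∃ t, toCech g A t = e := by
    choose p b hb using fun i => cech_num g i e
    let K := Finset.univ.sup p
    obtain ⟨b₁, hb₁⟩ : ∃ b₁ : ι → A, ∀ i, toCech g A (b₁ i) = g i ^ K • e := ⟨fun i => g i ^ (K - p i) • b i, fun i => by
      rw [map_smul, hb, smul_smul, ← pow_add, Nat.sub_add_cancel (Finset.le_sup (f := p) (Finset.mem_univ i))]⟩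
    obtain ⟨t, ht⟩ := hA.glue K b₁ fun i j => sub_eq_zero.1 (hinj _ (by
      rw [map_sub, map_smul, map_smul, hb₁, hb₁, smul_comm, sub_self]))
    refine ⟨t, sub_eq_zero.1 ((isClosedMod_cech g).sep _ fun i => ⟨K, ?_⟩)⟩
    rw [smul_sub, ← map_smul, ht, hb₁, sub_self]
  have hti : IsIdempotentElem t := sub_eq_zero.1 (hinj _ (by rw [map_sub, map_mul, ht, he.eq, sub_self]))
  have h0 : t * (1 - t) = 0 := by rw [mul_sub, mul_one, hti.eq, sub_self]
  intro q hq
  obtain ⟨j, hj⟩ := hq
  obtain ⟨P, rfl⟩ : q ∈ Set.range (c j) := by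
    show q ∈ Set.range (PrimeSpectrum.comap (algebraMap A (Lof A (g j))))
    rw [PrimeSpectrum.localization_away_comap_range _ (algebraMap A A (g j))]
    exact hj
  obtain ⟨i, hi⟩ := h₀
  obtain ⟨P₀, rfl⟩ : q₀ ∈ Set.range (c i) := by
    show q₀ ∈ Set.range (PrimeSpectrum.comap (algebraMap A (Lof A (g i))))
    rw [PrimeSpectrum.localization_away_comap_range _ (algebraMap A A (g i))]
    exact hi
  rw [← hK']
  rcases IsLocalRing.isUnit_or_isUnit_one_sub_self t with hu | hu
  · have h1 : (1 : A) - t = 0 := hu.mul_right_eq_zero.1 h0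
    have he1 : e₀ j = 1 := by
      rw [show e₀ j = (toCech g A t).1 j from (congrFun (congrArg Subtype.val ht) j).symm, toCech_apply,
        (sub_eq_zero.1 h1).symm, map_one]
    rw [he1]
    exact fun h => P.2.ne_top ((Ideal.eq_top_iff_one _).2 h)
  · exfalso
    have h1 : t = 0 := hu.mul_left_eq_zero.1 h0
    refine (hK' i P₀).2 h₀S ?_
    rw [show e₀ i = (toCech g A t).1 i from (congrFun (congrArg Subtype.val ht) i).symm, toCech_apply, h1, map_zero]
    exact zero_mem _

end

variable (A : Type u) [CommRing A] [IsLocalRing A] (J : Ideal A)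

/-- The closed immersion of the punctured closed subscheme. -/
abbrev rI : pullback (FEt.puncturedSpec A).ι (Spec.map (CommRingCat.ofHom (Ideal.Quotient.mk J))) ⟶
    (FEt.puncturedSpec A : Scheme.{u}) :=
  pullback.fst (FEt.puncturedSpec A).ι (Spec.map (CommRingCat.ofHom (Ideal.Quotient.mk J)))

theorem range_rI : Set.range (rI A J) = (FEt.puncturedSpec A).ι ⁻¹' {q : PrimeSpectrum A | J ≤ q.asIdeal} := by
  rw [show rI A J = pullback.fst _ _ from rfl, Scheme.Pullback.range_fst]
  refine congrArg _ ?_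
  rw [show Set.range (Spec.map (CommRingCat.ofHom (Ideal.Quotient.mk J))) =
    Set.range (PrimeSpectrum.comap (Ideal.Quotient.mk J)) from rfl,
    range_comap_of_surjective _ _ Ideal.Quotient.mk_surjective, Ideal.mk_ker]
  rfl

theorem range_bcFst_rI (W : FEt.Cat (FEt.puncturedSpec A : Scheme.{u})) :
    Set.range (FEtLib.bcFst (rI A J) W) = {x | J ≤ ((FEt.puncturedSpec A).ι (W.hom x)).asIdeal} := by
  show Set.range (pullback.fst W.hom (rI A J)) = _
  rw [Scheme.Pullback.range_fst]
  exact congrArg (W.hom ⁻¹' ·) (range_rI A J)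

variable [IsNoetherianRing A] {ι : Type u} [Finite ι] (g : ι → A)
  (hg : Ideal.span (Set.range g) = IsLocalRing.maximalIdeal A)

include hg in
theorem meetsClopens_rI (hA : IsClosedMod g A) (hne : ∃ q ∈ XB A g, J ≤ q.asIdeal) :
    FEtLib.MeetsClopens (rI A J) := by
  intro S hS ⟨x, hx⟩
  let i := (FEt.puncturedSpec A).ι
  have hio := i.isOpenEmbedding
  have hmem : ∀ q : PrimeSpectrum A, q ∈ XB A g → ∃ x, i x = q := fun q hq => by
    have hq' : q ∈ FEt.puncturedSpec A := by
      have := (mem_puncturedSpec_iff A g hg q).2 hq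
      rwa [Algebra.algebraMap_self, PrimeSpectrum.comap_id] at this
    exact ⟨⟨q, hq'⟩, rfl⟩
  have hX : ∀ z, i z ∈ XB A g := fun z =>
    (mem_puncturedSpec_iff A g hg (i z)).1 (by rw [Algebra.algebraMap_self, PrimeSpectrum.comap_id]; exact z.2)
  obtain ⟨q₁, hq₁, hJ₁⟩ := hne
  have h := eq_univ_of_partition g hA (i '' S) (i '' Sᶜ) (hio.isOpenMap _ hS.2) (hio.isOpenMap _ hS.compl.2)
    (fun q hq => by
      obtain ⟨z, rfl⟩ := hmem q hq
      exact (hio.injective.mem_set_image (s := S)).trans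
        (not_not.symm.trans (not_congr (hio.injective.mem_set_image (s := Sᶜ) (a := z))).symm))
    (hX x) ⟨x, hx, rfl⟩ q₁ hq₁
  obtain ⟨z, hz, rfl⟩ := h
  obtain ⟨z', hz'⟩ := (range_rI A J).ge (show z ∈ i ⁻¹' {q : PrimeSpectrum A | J ≤ q.asIdeal} from hJ₁)
  exact ⟨z', by rw [hz']; exact hz⟩

include hg in
theorem clopensDescend_rI [IsAdicComplete J A] (hA : ∀ n, IsClosedMod g (A ⧸ J ^ (n + 1))) :
    FEtLib.ClopensDescend (rI A J) := by
  intro W V hV
  obtain ⟨B, _, _, _, j, hj, hjrange, hjcomp, hP⟩ := exists_model A g hg W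
  let p := FEtLib.bcFst (rI A J) W
  haveI : IsClosedImmersion (Spec.map (CommRingCat.ofHom (Ideal.Quotient.mk J))) :=
    IsClosedImmersion.spec_of_surjective _ Ideal.Quotient.mk_surjective
  haveI : IsClosedImmersion (rI A J) :=
    MorphismProperty.pullback_fst (P := @IsClosedImmersion) _ _ inferInstance
  haveI : IsClosedImmersion p := MorphismProperty.pullback_fst (P := @IsClosedImmersion) _ _ inferInstance
  let O := j '' (p '' Vᶜ)ᶜ
  let O' := j '' (p '' V)ᶜ
  have hO : IsOpen O := hj.isOpenMap _ (p.isClosedEmbedding.isClosedMap _ hV.compl.1).isOpen_compl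
  have hO' : IsOpen O' := hj.isOpenMap _ (p.isClosedEmbedding.isClosedMap _ hV.1).isOpen_compl
  have hfib : ∀ x, J.map (algebraMap A B) ≤ (j x).asIdeal → x ∈ Set.range p := fun x hx => by
    refine (range_bcFst_rI A J W).ge ?_
    show J ≤ ((FEt.puncturedSpec A).ι (W.hom x)).asIdeal
    rw [← hjcomp]
    exact Ideal.map_le_iff_le_comap.1 hx
  have hcov : ∀ q ∈ SJset g J B, (q ∈ O ↔ q ∉ O') := fun q hq => by
    obtain ⟨x, rfl⟩ := hjrange.ge hq.2
    obtain ⟨z, rfl⟩ := hfib x hq.1
    simp only [O, O', hj.injective.mem_set_image, Set.mem_compl_iff,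
      p.isClosedEmbedding.injective.mem_set_image]
  have hcl : IsClopen ((↑) ⁻¹' O : Set (SJset g J B)) := by
    refine ⟨?_, hO.preimage continuous_subtype_val⟩
    rw [show ((↑) ⁻¹' O : Set (SJset g J B)) = ((↑) ⁻¹' O')ᶜ from Set.ext fun q => hcov q.1 q.2]
    exact (hO'.preimage continuous_subtype_val).isClosed_compl
  haveI := Module.finitePresentation_of_finite A B
  choose N k α β h using fun i => HyperFEt.exists_retract B (g i) (hP i)
  obtain ⟨S, S', hS, hS', hpart, hSO⟩ := exists_clopen_lift g hA N k α β h O hcl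
  have hX : ∀ x, j x ∈ XB B g := fun x => hjrange.le ⟨x, rfl⟩
  refine ⟨j ⁻¹' S, ⟨?_, hS.preimage hj.continuous⟩, ?_⟩
  · rw [show j ⁻¹' S = (j ⁻¹' S')ᶜ from Set.ext fun x => hpart _ (hX x)]
    exact (hS'.preimage hj.continuous).isClosed_compl
  · ext z
    have hJ : J.map (algebraMap A B) ≤ (j (p z)).asIdeal := by
      have h2 : J ≤ ((FEt.puncturedSpec A).ι (W.hom (p z))).asIdeal := (range_bcFst_rI A J W).le ⟨z, rfl⟩
      rw [← hjcomp] at h2
      exact Ideal.map_le_iff_le_comap.2 h2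
    show j (p z) ∈ S ↔ z ∈ V
    rw [hSO _ ⟨hJ, hX _⟩]
    simp only [O, hj.injective.mem_set_image, Set.mem_compl_iff,
      p.isClosedEmbedding.injective.mem_set_image, not_not]

omit [Finite ι] in
/-- Restriction to the punctured spectrum is an equivalence when it is one on a henselian closed subscheme. -/
theorem isEquivalence_of_ideal [HenselianRing A J] [IsLocalRing (A ⧸ J)]
    [(FEt.restrict (rI A J)).Full] [(FEt.restrict (rI A J)).Faithful]
    (hB : (FEt.restrict (FEt.puncturedSpec (A ⧸ J)).ι).IsEquivalence) :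
    (FEt.restrict (FEt.puncturedSpec A).ι).IsEquivalence := by
  let q := Spec.map (CommRingCat.ofHom (Ideal.Quotient.mk J))
  let U := FEt.puncturedSpec A
  let U₁ := FEt.puncturedSpec (A ⧸ J)
  haveI : IsLocalHom (Ideal.Quotient.mk J) := IsLocalHom.of_surjective _ Ideal.Quotient.mk_surjective
  haveI : IsClosedImmersion q := IsClosedImmersion.spec_of_surjective _ Ideal.Quotient.mk_surjective
  have hp : q ⁻¹ᵁ U = U₁ := by
    have hc : q (IsLocalRing.closedPoint (A ⧸ J)) = IsLocalRing.closedPoint A :=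
      IsLocalRing.comap_closedPoint (Ideal.Quotient.mk J)
    refine TopologicalSpace.Opens.ext (Set.ext fun z => not_congr ⟨fun hz => ?_, fun hz => ?_⟩)
    · exact (q.isClosedEmbedding.injective (Eq.trans hz hc.symm) : z = IsLocalRing.closedPoint _)
    · rw [show z = IsLocalRing.closedPoint (A ⧸ J) from hz]
      exact hc
  have hr : Set.range (U₁.ι ≫ q) ⊆ Set.range U.ι := by
    rintro _ ⟨z, rfl⟩
    rw [Scheme.Opens.range_ι]
    exact (TopologicalSpace.Opens.ext_iff.1 hp).ge z.2
  have hsq : IsPullback (IsOpenImmersion.lift U.ι _ hr) U₁.ι U.ι q :=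
    IsOpenImmersion.isPullback _ _ _ _ (IsOpenImmersion.lift_fac _ _ _).symm (by
      rw [Scheme.Opens.opensRange_ι, Scheme.Opens.opensRange_ι, hp])
  let κ := hsq.isoPullback.inv
  haveI : (FEt.restrict q).IsEquivalence := S0239.result A J
  haveI := hB
  haveI := PurePairDesc.isEquivalence_restrict_of_isIso κ
  haveI : (FEt.restrict U.ι ⋙ FEt.restrict (rI A J)).IsEquivalence :=
    Functor.isEquivalence_of_iso (F := FEt.restrict q ⋙ FEt.restrict U₁.ι ⋙ FEt.restrict κ)
      (Functor.isoWhiskerLeft _ (MorphismProperty.Over.pullbackComp κ U₁.ι).symm ≪≫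
        (MorphismProperty.Over.pullbackComp (κ ≫ U₁.ι) q).symm ≪≫
        eqToIso (congrArg FEt.restrict (by
          rw [hsq.isoPullback_inv_snd]
          exact pullback.condition.symm)) ≪≫ MorphismProperty.Over.pullbackComp (rI A J) U.ι)
  haveI : (FEt.restrict U.ι).Faithful := Functor.Faithful.of_comp _ (FEt.restrict (rI A J))
  haveI : (FEt.restrict U.ι).Full := Functor.Full.of_comp_faithful _ (FEt.restrict (rI A J))
  haveI : (FEt.restrict U.ι).EssSurj := ⟨fun W => by
    let G := FEt.restrict U.ι ⋙ FEt.restrict (rI A J)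
    exact ⟨G.objPreimage ((FEt.restrict (rI A J)).obj W),
      ⟨(FEt.restrict (rI A J)).preimageIso (G.objObjPreimageIso _)⟩⟩⟩
  exact {}

variable {A J}

omit [Finite ι] in
/-- Regular pairs on all the levels give a regular pair. -/
theorem regPair_of_levels (hJ : J ≠ ⊤) {x y : A} (h : ∀ n, ParaFLiftLib.RegPair (A ⧸ J ^ n) x y) :
    ParaFLiftLib.RegPair A x y := by
  refine ⟨fun e he => ?_, fun e e' he => ?_⟩
  · refine (Submodule.mem_bot A).1 (ParaFLiftLib.mem_of_forall_mem_sup_pow J hJ ⊥ fun n => Ideal.mem_sup_right ?_)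
    rw [← Ideal.Quotient.eq_zero_iff_mem]
    exact (h n).1 _ (by rw [ParaFLiftLib.smul_mk, ← smul_eq_mul, he, map_zero])
  · obtain ⟨c, hc⟩ := (Ideal.mem_span_singleton' (x := e) (y := x)).1 (ParaFLiftLib.mem_of_forall_mem_sup_pow J hJ (Ideal.span {x}) fun n => by
      obtain ⟨c, hc⟩ := (h n).2 (Ideal.Quotient.mk _ e) (Ideal.Quotient.mk _ e') (by
        rw [ParaFLiftLib.smul_mk, ParaFLiftLib.smul_mk, ← smul_eq_mul, ← smul_eq_mul, he])
      obtain ⟨c, rfl⟩ := Ideal.Quotient.mk_surjective c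
      rw [ParaFLiftLib.smul_mk, Ideal.Quotient.eq] at hc
      rw [show e = x * c + (e - x * c) by ring]
      exact Submodule.add_mem_sup (Ideal.mul_mem_right _ _ (Ideal.mem_span_singleton_self x)) hc)
    exact ⟨c, by rw [← hc, smul_eq_mul, mul_comm]⟩

/-- Purity climbs from a normally flat closed subscheme along which the ring is complete. -/
theorem purityHolds_of_complete [IsAdicComplete J A] (hJ : J ≠ ⊤) [IsLocalRing (A ⧸ J)]
    (hd : (3 : ℕ∞) ≤ LocCoh.depth (A ⧸ J) (A ⧸ J))
    (hgr : ∀ n : ℕ, Module.Free (A ⧸ J) (↥(J ^ n) ⧸ (J • (⊤ : Submodule A ↥(J ^ n)))))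
    (h0 : FEt.PurityHolds (A ⧸ J)) : FEt.PurityHolds A := by
  obtain ⟨ι', _, g', hg'⟩ := HyperFEt.exists_gens A
  have hT := ParaFLiftLib.triples_of_depth J hJ hd
  have hlev : ∀ n, IsClosedMod g' (A ⧸ J ^ n) := fun n => isClosedMod_of_pairs g' _ fun N => by
    obtain ⟨x, y, z, hx, hy, -, hr, -⟩ := hT N
    exact ⟨x, y, hg' ▸ hx, hg' ▸ hy, ParaFLiftLib.regPair_pow J hgr hr n⟩
  have hA : IsClosedMod g' A := isClosedMod_of_pairs g' _ fun N => by
    obtain ⟨x, y, z, hx, hy, -, hr, -⟩ := hT N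
    exact ⟨x, y, hg' ▸ hx, hg' ▸ hy, regPair_of_levels hJ (ParaFLiftLib.regPair_pow J hgr hr)⟩
  have hne : ∃ q ∈ XB A g', J ≤ q.asIdeal := by
    obtain ⟨x, y, z, hx, -, -, hr, -⟩ := hT 1
    rw [pow_one] at hx
    have hnp : ∀ k, x ^ k ∉ J := fun k hk => by
      have hz : ∀ k, ∀ v : A ⧸ J, x ^ k • v = 0 → v = 0 := fun k => by
        induction k with
        | zero => intro v hv; rwa [pow_zero, one_smul] at hv
        | succ k ih => intro v hv; exact hr.1 v (ih _ (by rwa [pow_succ, mul_smul] at hv))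
      refine (Ideal.ne_top_iff_one _).1 hJ (Ideal.Quotient.eq_zero_iff_mem.1 (hz k (Ideal.Quotient.mk J 1) ?_))
      rw [ParaFLiftLib.smul_mk, mul_one]
      exact Ideal.Quotient.eq_zero_iff_mem.2 hk
    obtain ⟨P, hP, hJP, hdis⟩ := Ideal.exists_le_prime_disjoint J (Submonoid.powers x)
      (Set.disjoint_left.2 fun a ha => by
        rintro ⟨k, rfl⟩
        exact hnp k ha)
    refine ⟨⟨P, hP⟩, ?_, hJP⟩
    by_contra hno
    have hle : IsLocalRing.maximalIdeal A ≤ P := by
      rw [← hg', Ideal.span_le]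
      rintro _ ⟨j, rfl⟩
      by_contra hj
      exact hno ⟨j, hj⟩
    exact Set.disjoint_left.1 hdis (hle hx) ⟨1, pow_one x⟩
  haveI : (FEt.restrict (rI A J)).Full := FEtLib.full _ (meetsClopens_rI A J g' hg' hA hne)
    (clopensDescend_rI A J g' hg' fun n => hlev (n + 1))
  haveI : (FEt.restrict (rI A J)).Faithful := FEtLib.faithful _ (meetsClopens_rI A J g' hg' hA hne)
  have h2 : (2 : ℕ∞) ≤ LocCoh.depth (A ⧸ J) (A ⧸ J) := le_trans (by norm_num) hd
  unfold FEt.PurityHolds at h0 ⊢
  haveI := h0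
  haveI := (S0258.result (A ⧸ J) h2).1
  haveI := (S0258.result (A ⧸ J) h2).2
  haveI := isEquivalence_of_ideal A J (Functor.IsEquivalence.mk : (FEt.restrict (FEt.puncturedSpec (A ⧸ J)).ι).IsEquivalence)
  exact Functor.IsEquivalence.essSurj

end Groth.Agent.HyperAlg
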