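import Groth.Agent.HyperAlg.Closed

/-! Algebraization of systems of algebras on a punctured spectrum. -/

set_option autoImplicit false
set_option linter.style.haveILetI false
set_option backward.isDefEq.respectTransparency false
set_option backward.isDefEq.respectTransparency.types false

universe u

open CategoryTheory AlgebraicGeometry

noncomputable section

namespace Groth.Agent.HyperAlg

open PuncSecLib

variable {A : Type u} [CommRing A] {ι : Type u} (f : A) (g : ι → A)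

/-- The algebras of sections of a compatible system of covers. -/
structure Sys where
  Γ : ℕ → Type u
  [ring : ∀ n, CommRing (Γ n)]
  [alg : ∀ n, Algebra A (Γ n)]
  t : ∀ n, Γ (n + 1) →ₐ[A] Γ n
  killed : ∀ n (z : Γ n), f ^ (n + 1) • z = 0
  closed : ∀ n, IsClosedMod g (Γ n)
  surj : ∀ n j (y : Γ n), ∃ k x, t n x = g j ^ k • y
  ker : ∀ n j (y : Γ (n + 1)), t n y = 0 → ∃ k x, g j ^ k • y = f ^ (n + 1) • x
  reg : ∀ n (x : Γ (n + 1)), f • x = 0 → t n x = 0
  fin : ∃ N : Submodule A (Γ 0), Module.Finite A N ∧ ∀ j z, ∃ k, g j ^ k • z ∈ N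

attribute [instance] Sys.ring Sys.alg

variable {f g} (S : Sys f g) [IsNoetherianRing A]

local notation "𝔤" => Ideal.span (Set.range g)
local notation "𝐔" => LocCoh.puncturedOpen A (Ideal.span (Set.range g))

/-- Sections of the level modules. -/
def Sys.eq (n : ℕ) : S.Γ n ≃ₗ[A] Γp 𝔤 ((tR 𝐔).obj (ModuleCat.of A (S.Γ n))) := secEquiv g (S.closed n)

/-- The tower of sections. -/
def Sys.tower : Tower 𝔤 f (fun n => (tR 𝐔).obj (ModuleCat.of A (S.Γ n))) where
  t n := (S.eq n).toLinearMap.comp ((S.t n).toLinearMap.comp (S.eq (n + 1)).symm.toLinearMap)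
  killed n z := (S.eq n).symm.injective (by rw [map_smul, S.killed, map_zero])
  cok n := cokTors_of_gen g fun j y => by
    obtain ⟨k, x, hx⟩ := S.surj n j ((S.eq n).symm y)
    refine ⟨k, S.eq (n + 1) x, ?_⟩
    show S.eq n (S.t n ((S.eq (n + 1)).symm (S.eq (n + 1) x))) = _
    rw [LinearEquiv.symm_apply_apply, hx, map_smul, LinearEquiv.apply_symm_apply]
  ker n y hy := loc_of_gen g fun j => by
    obtain ⟨k, x, hx⟩ := S.ker n j ((S.eq (n + 1)).symm y) ((S.eq n).injective (hy.trans (map_zero _).symm))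
    refine ⟨k, S.eq (n + 1) x, (S.eq (n + 1)).symm.injective ?_⟩
    rw [map_smul, map_smul, LinearEquiv.symm_apply_apply, hx]
  reg n x hx := by
    show S.eq n (S.t n ((S.eq (n + 1)).symm x)) = 0
    rw [S.reg n _ (by rw [← map_smul, hx, map_zero]), map_zero]

/-- The limit algebra. -/
def Sys.lim : Subalgebra A (∀ n, S.Γ n) where
  carrier := {x | ∀ n, S.t n (x (n + 1)) = x n}
  mul_mem' {x y} hx hy n := by rw [Pi.mul_apply, Pi.mul_apply, map_mul, hx n, hy n]
  one_mem' n := map_one _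
  add_mem' {x y} hx hy n := by rw [Pi.add_apply, Pi.add_apply, map_add, hx n, hy n]
  zero_mem' n := map_zero _
  algebraMap_mem' a n := (S.t n).commutes a

/-- The limit algebra is the limit of sections. -/
def Sys.limEquiv : S.lim ≃ₗ[A] S.tower.Lim where
  toFun x := ⟨fun n => S.eq n (x.1 n), fun n => by
    show S.eq n (S.t n ((S.eq (n + 1)).symm (S.eq (n + 1) (x.1 (n + 1))))) = _
    rw [LinearEquiv.symm_apply_apply, x.2 n]⟩
  invFun y := ⟨fun n => (S.eq n).symm (y.1 n), fun n => by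
    show S.t n ((S.eq (n + 1)).symm (y.1 (n + 1))) = (S.eq n).symm (y.1 n)
    rw [← y.2 n]
    exact ((S.eq n).symm_apply_apply _).symm⟩
  left_inv x := Subtype.ext (funext fun n => (S.eq n).symm_apply_apply _)
  right_inv y := Subtype.ext (funext fun n => (S.eq n).apply_symm_apply _)
  map_add' x y := Subtype.ext (funext fun n => map_add _ _ _)
  map_smul' a x := Subtype.ext (funext fun n => map_smul _ _ _)

theorem Sys.exists_algebra [IsAdicComplete (Ideal.span {f}) A]
    (split : ∀ (N : Submodule A (S.Γ 0)) [Module.Finite A N], (∀ j (z : S.Γ 0), ∃ k : ℕ, g j ^ k • z ∈ N) →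
      ∀ j, ∃ (r k : ℕ) (α : N →ₗ[A] Fin r → A ⧸ Ideal.span {f}) (β : (Fin r → A ⧸ Ideal.span {f}) →ₗ[A] N),
        ∀ m, β (α m) = g j ^ k • m)
    (h₁ : Module.Finite A (LocCoh.H 𝔤 1 (A ⧸ Ideal.span {f})))
    (h₂ : Module.Finite A (LocCoh.H 𝔤 2 (A ⧸ Ideal.span {f}))) :
    ∃ (B : Type u) (_ : CommRing B) (_ : Algebra A B) (_ : Module.Finite A B) (π : B →ₐ[A] S.Γ 0),
      IsSMulRegular B f ∧ (∀ x, π x = 0 → ∃ y, f • y = x) ∧ ∀ j y, ∃ k x, π x = g j ^ k • y := by
  obtain ⟨N, hN, hNg⟩ := S.fin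
  haveI := hN
  have hΓ : Module.Finite A (S.Γ 0) :=
    finite_of_submodule g (S.closed 0) N hNg (finite_H_of_split g _ h₁ h₂ N (split N hNg) 1 one_le_two)
  haveI hΓp : Module.Finite A (Γp 𝔤 ((tR 𝐔).obj (ModuleCat.of A (S.Γ 0)))) := Module.Finite.equiv (S.eq 0)
  have hs : ∀ j, ∃ (r k : ℕ) (α : Γp 𝔤 ((tR 𝐔).obj (ModuleCat.of A (S.Γ 0))) →ₗ[A] Fin r → A ⧸ Ideal.span {f})
      (β : (Fin r → A ⧸ Ideal.span {f}) →ₗ[A] Γp 𝔤 ((tR 𝐔).obj (ModuleCat.of A (S.Γ 0)))),
      ∀ m, β (α m) = g j ^ k • m := fun j => by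
    obtain ⟨r, k, α, β, h⟩ := split ⊤ (fun _ z => ⟨0, trivial⟩) j
    let e := (S.eq 0).symm.trans (Submodule.topEquiv (R := A) (M := S.Γ 0)).symm
    refine ⟨r, k, α.comp e.toLinearMap, e.symm.toLinearMap.comp β, fun m => ?_⟩
    show e.symm (β (α (e m))) = _
    rw [h, map_smul, e.symm_apply_apply]
  have hH2 := finite_H_of_split g _ h₁ h₂ _ hs 2 le_rfl
  haveI := S.tower.finite_lim
  refine ⟨S.lim, inferInstance, inferInstance, Module.Finite.equiv S.limEquiv.symm,
    (Pi.evalAlgHom A S.Γ 0).comp S.lim.val, ?_, fun x hx => ?_, fun j y => ?_⟩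
  · refine isSMulRegular_iff_right_eq_zero_of_smul.2 fun x hx => Subtype.ext (funext fun n => ?_)
    show x.1 n = 0
    rw [← x.2 n]
    exact S.reg n _ (congrFun (congrArg Subtype.val hx) (n + 1))
  · obtain ⟨z, hz, -⟩ := S.tower.exists_eq_smul (S.limEquiv x) (by
      show S.eq 0 (x.1 0) = 0
      rw [show x.1 0 = 0 from hx, map_zero])
    refine ⟨S.limEquiv.symm z, S.limEquiv.injective ?_⟩
    rw [map_smul, LinearEquiv.apply_symm_apply, hz]
  · obtain ⟨k, hk⟩ := S.tower.cokTors_pr hH2 0 (S.eq 0 y)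
    obtain ⟨x, hx⟩ := hk _ (Ideal.pow_mem_pow (Ideal.subset_span (Set.mem_range_self j)) k)
    refine ⟨k, S.limEquiv.symm x, ?_⟩
    show (S.eq 0).symm (x.1 0) = _
    refine (S.eq 0).injective ?_
    rw [LinearEquiv.apply_symm_apply, map_smul]
    exact hx

end Groth.Agent.HyperAlg
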