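import Groth.Agent.HyperAlg.Affine
import Groth.Agent.HyperAlg.Sys

/-! Compatible finite flat covers of thickenings give systems of algebras. -/

set_option autoImplicit false
set_option linter.style.haveILetI false
set_option backward.isDefEq.respectTransparency false
set_option backward.isDefEq.respectTransparency.types false

universe u

open CategoryTheory CategoryTheory.Limits AlgebraicGeometry TopologicalSpace Opposite

noncomputable section

namespace Groth.Agent.HyperAlg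

variable {A : Type u} [CommRing A]

/-- The thickening of order `n`. -/
abbrev qn (f : A) (n : ℕ) : Spec (CommRingCat.of (A ⧸ Ideal.span {f ^ (n + 1)})) ⟶ Spec (CommRingCat.of A) :=
  Spec.map (CommRingCat.ofHom (Ideal.Quotient.mk (Ideal.span {f ^ (n + 1)})))

/-- Compatible finite flat covers of the thickenings of `U ∩ V(f)`. -/
structure Levels (f : A) (U : (Spec (CommRingCat.of A)).Opens) where
  X : ℕ → Scheme.{u}
  π : ∀ n, X n ⟶ (U : Scheme.{u})
  finite : ∀ n, IsFinite (π n)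
  a : ∀ n, X n ⟶ Spec (CommRingCat.of (A ⧸ Ideal.span {f ^ (n + 1)}))
  w : ∀ n, a n ≫ qn f n = π n ≫ U.ι
  flat : ∀ n, Flat (a n)
  i : ∀ n, X n ⟶ X (n + 1)
  hi : ∀ n, i n ≫ π (n + 1) = π n
  cart : ∀ n, IsPullback (i n) (a n) (π (n + 1) ≫ U.ι) (qn f n)

theorem mem_fp_of_flat {R S : Type u} [CommRing R] [CommRing S] [Algebra R S] [Module.Flat R S] (a b : R)
    (h : ∀ r, a * r = 0 → b ∣ r) {x : S} (hx : a • x = 0) : ∃ y : S, b • y = x := by
  classical
  obtain ⟨k, c, y, hy, hc⟩ := Module.Flat.isTrivialRelation_of_sum_smul_eq_zero (R := R) (M := S)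
    (f := fun _ : Fin 1 => a) (x := fun _ => x) (by simpa using hx)
  choose c' hc' using fun j => h (c 0 j) (by simpa using hc j)
  refine ⟨∑ j, c' j • y j, ?_⟩
  rw [Finset.smul_sum]
  refine Eq.trans ?_ (hy 0).symm
  exact Finset.sum_congr rfl fun j _ => by rw [smul_smul, ← hc' j]

theorem dvd_of_mul_eq_zero {f : A} (hf : f ∈ nonZeroDivisors A) (n : ℕ) (r : A ⧸ Ideal.span {f ^ (n + 2)})
    (h : Ideal.Quotient.mk _ f * r = 0) : Ideal.Quotient.mk _ (f ^ (n + 1)) ∣ r := by
  obtain ⟨r, rfl⟩ := Ideal.Quotient.mk_surjective r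
  rw [← map_mul, Ideal.Quotient.eq_zero_iff_mem, Ideal.mem_span_singleton'] at h
  obtain ⟨c, hc⟩ := h
  exact ⟨Ideal.Quotient.mk _ c, by
    rw [← map_mul, (mul_cancel_left_mem_nonZeroDivisors hf).1 (show f * r = f * (f ^ (n + 1) * c) by rw [← hc]; ring)]⟩

variable {ι : Type u} (g : ι → A) {f : A} {U : (Spec (CommRingCat.of A)).Opens}
  (hU : U = ⨆ j, PrimeSpectrum.basicOpen (g j)) (L : Levels f U)

/-- The structure map. -/
abbrev Levels.q (n : ℕ) : L.X n ⟶ Spec (CommRingCat.of A) := L.π n ≫ U.ι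

variable [IsNoetherianRing A]

include hU in
theorem Levels.compactSpace [Finite ι] (n : ℕ) : CompactSpace (L.X n) ∧ QuasiSeparatedSpace (L.X n) := by
  haveI : IsNoetherianRing (CommRingCat.of A) := inferInstanceAs (IsNoetherianRing A)
  haveI hc : CompactSpace (U : Scheme.{u}) :=
    isCompact_iff_compactSpace.mp (NoetherianSpace.isCompact (U : Set (Spec (CommRingCat.of A))))
  haveI := L.finite n
  exact ⟨QuasiCompact.compactSpace_of_compactSpace (L.π n), quasiSeparatedSpace_of_quasiSeparated (L.q n)⟩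

include hU in
omit [IsNoetherianRing A] in
theorem Levels.isAffineOpen_piece (n : ℕ) (j : ι) : IsAffineOpen (piece (L.q n) (g j)) := by
  have hle : PrimeSpectrum.basicOpen (g j) ≤ U := hU ▸ le_iSup (fun i => PrimeSpectrum.basicOpen (g i)) j
  haveI := L.finite n
  have hD : IsAffineOpen (U.ι ⁻¹ᵁ PrimeSpectrum.basicOpen (g j)) := by
    rw [← (U.ι).isAffineOpen_iff_of_isOpenImmersion, Scheme.Hom.image_preimage_eq_opensRange_inf,
      Scheme.Opens.opensRange_ι, inf_eq_right.2 hle]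
    exact IsAffineOpen.Spec_basicOpen (R := CommRingCat.of A) (g j)
  exact hD.preimage (L.π n)

include hU in
omit [IsNoetherianRing A] in
theorem Levels.iSup_piece (n : ℕ) : (⊤ : (L.X n).Opens) ≤ ⨆ j, piece (L.q n) (g j) := fun x _ => by
  have hx : L.q n x ∈ ⨆ j, PrimeSpectrum.basicOpen (g j) := hU.le (L.π n x).2
  obtain ⟨j, hj⟩ := TopologicalSpace.Opens.mem_iSup.1 hx
  exact TopologicalSpace.Opens.mem_iSup.2 ⟨j, hj⟩

include hU in
theorem Levels.isClosedMod [Finite ι] (n : ℕ) : IsClosedMod g (Gam (L.q n)) := by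
  obtain ⟨_, _⟩ := L.compactSpace g hU n
  have hres : ∀ j z, resP (L.q n) (g j) z = 0 ↔ ∃ k, g j ^ k • z = 0 := fun j z => by
    refine ⟨(res_piece_loc (L.q n) (g j)).2 z, fun ⟨k, hk⟩ => ?_⟩
    have := congrArg (resP (L.q n) (g j)) hk
    rw [map_smul, Algebra.smul_def, map_pow, map_zero] at this
    exact ((isUnit_piece (L.q n) (g j)).pow k).mul_right_eq_zero.1 this
  let V : ι → (L.X n).Opens := fun j => piece (L.q n) (g j)
  have hV : ∀ j (z : Gam (L.q n)), resP (L.q n) (g j) z =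
      ((L.X n).presheaf.map (homOfLE (le_top : (V j).ι ''ᵁ ⊤ ≤ ⊤)).op (z : Γ(L.X n, ⊤)) :) := fun j z => rfl
  have sep : ∀ z : Gam (L.q n), (∀ j, ∃ k, g j ^ k • z = 0) → z = 0 := fun z hz => by
    refine TopCat.Sheaf.eq_of_locally_eq' (L.X n).sheaf (fun j => (V j).ι ''ᵁ ⊤) ⊤ (fun j => homOfLE le_top)
      (by simp only [Scheme.Opens.ι_image_top]; exact L.iSup_piece g hU n) (z : Γ(L.X n, ⊤)) 0 fun j => ?_
    refine ((hV j z).symm.trans ((hres j z).2 (hz j))).trans (map_zero _).symm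
  refine ⟨sep, fun k y hy => ?_⟩
  have hu := fun j => (isUnit_piece (L.q n) (g j)).pow k
  let s : ∀ j, Gam ((piece (L.q n) (g j)).ι ≫ L.q n) := fun j => (↑(hu j).unit⁻¹ : _) * resP (L.q n) (g j) (y j)
  have hcompat : TopCat.Presheaf.IsCompatible (L.X n).sheaf.1 (fun j => (V j).ι ''ᵁ ⊤) s := fun i j => by
    let W := ((V i).ι ''ᵁ ⊤) ⊓ ((V j).ι ''ᵁ ⊤)
    let r : Γ(L.X n, ⊤) →+* Γ(L.X n, W) := ((L.X n).presheaf.map (homOfLE le_top).op).hom
    let ri : Γ(L.X n, (V i).ι ''ᵁ ⊤) →+* Γ(L.X n, W) := ((L.X n).presheaf.map (Opens.infLELeft _ _).op).hom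
    let rj : Γ(L.X n, (V j).ι ''ᵁ ⊤) →+* Γ(L.X n, W) := ((L.X n).presheaf.map (Opens.infLERight _ _).op).hom
    have hri : ∀ z : Gam (L.q n), ri (resP (L.q n) (g i) z) = r z := fun z =>
      congr($(((L.X n).presheaf.map_comp (homOfLE (le_top : (V i).ι ''ᵁ ⊤ ≤ ⊤)).op (Opens.infLELeft _ _).op)).hom z).symm
    have hrj : ∀ z : Gam (L.q n), rj (resP (L.q n) (g j) z) = r z := fun z =>
      congr($(((L.X n).presheaf.map_comp (homOfLE (le_top : (V j).ι ''ᵁ ⊤ ≤ ⊤)).op (Opens.infLERight _ _).op)).hom z).symm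
    let Ai : A → Γ(L.X n, W) := fun a => r (algebraMap A (Gam (L.q n)) a)
    have h1 : Ai (g i ^ k) * ri (s i) = r (y i) := by
      rw [show Ai (g i ^ k) = ri (algebraMap A (Gam ((piece (L.q n) (g i)).ι ≫ L.q n)) (g i ^ k)) by
        rw [← (resP (L.q n) (g i)).commutes, hri]]
      rw [← hri]
      refine (map_mul ri _ _).symm.trans (congrArg ri ?_)
      show algebraMap A (Gam ((piece (L.q n) (g i)).ι ≫ L.q n)) (g i ^ k) * s i = resP (L.q n) (g i) (y i)
      rw [map_pow, ← mul_assoc, IsUnit.mul_val_inv, one_mul]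
    have h2 : Ai (g j ^ k) * rj (s j) = r (y j) := by
      rw [show Ai (g j ^ k) = rj (algebraMap A (Gam ((piece (L.q n) (g j)).ι ≫ L.q n)) (g j ^ k)) by
        rw [← (resP (L.q n) (g j)).commutes, hrj]]
      rw [← hrj]
      refine (map_mul rj _ _).symm.trans (congrArg rj ?_)
      show algebraMap A (Gam ((piece (L.q n) (g j)).ι ≫ L.q n)) (g j ^ k) * s j = resP (L.q n) (g j) (y j)
      rw [map_pow, ← mul_assoc, IsUnit.mul_val_inv, one_mul]
    have h3 : Ai (g j ^ k) * r (y i) = Ai (g i ^ k) * r (y j) := by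
      refine (map_mul r _ _).symm.trans (Eq.trans (congrArg r ?_) (map_mul r _ _))
      show algebraMap A (Gam (L.q n)) (g j ^ k) * y i = algebraMap A (Gam (L.q n)) (g i ^ k) * y j
      rw [← Algebra.smul_def, ← Algebra.smul_def, hy]
    have hu' : IsUnit (Ai (g i ^ k) * Ai (g j ^ k)) := by
      refine IsUnit.mul ?_ ?_
      · have := (hu i).map ri
        rw [← map_pow, ← (resP (L.q n) (g i)).commutes] at this
        rw [show Ai (g i ^ k) = ri (resP (L.q n) (g i) (algebraMap A (Gam (L.q n)) (g i ^ k))) from (hri _).symm]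
        exact this
      · have := (hu j).map rj
        rw [← map_pow, ← (resP (L.q n) (g j)).commutes] at this
        rw [show Ai (g j ^ k) = rj (resP (L.q n) (g j) (algebraMap A (Gam (L.q n)) (g j ^ k))) from (hrj _).symm]
        exact this
    show ri (s i) = rj (s j)
    refine hu'.mul_left_cancel ?_
    calc Ai (g i ^ k) * Ai (g j ^ k) * ri (s i) = Ai (g j ^ k) * (Ai (g i ^ k) * ri (s i)) := by ring
      _ = Ai (g i ^ k) * r (y j) := by rw [h1, h3]
      _ = Ai (g i ^ k) * Ai (g j ^ k) * rj (s j) := by rw [← h2]; ring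
  obtain ⟨x, hx, -⟩ := (L.X n).sheaf.existsUnique_gluing' (fun j => (V j).ι ''ᵁ ⊤) ⊤ (fun j => homOfLE le_top)
    (by simp only [Scheme.Opens.ι_image_top]; exact L.iSup_piece g hU n) s hcompat
  let x' : Gam (L.q n) := x
  refine ⟨x', fun j => sub_eq_zero.1 (sep _ fun i => (hres i _).1 ?_)⟩
  rw [map_sub, sub_eq_zero, map_smul, Algebra.smul_def, map_pow]
  refine ((isUnit_piece (L.q n) (g i)).pow k).mul_left_cancel ?_
  have hs : algebraMap A (Gam ((piece (L.q n) (g i)).ι ≫ L.q n)) (g i) ^ k * s i = resP (L.q n) (g i) (y i) := by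
    simp only [s]
    rw [← mul_assoc, IsUnit.mul_val_inv, one_mul]
  rw [show resP (L.q n) (g i) x' = s i from hx i, mul_left_comm, hs, ← map_pow, ← map_pow,
    ← Algebra.smul_def, ← Algebra.smul_def, ← map_smul, ← map_smul, hy i j]

end Groth.Agent.HyperAlg
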