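import Groth.Agent.HyperAlg.Cart
import Groth.Agent.HyperAlg.Etale
import Groth.Agent.S0238
import Mathlib.AlgebraicGeometry.Morphisms.FormallyUnramified
import Mathlib.RingTheory.Etale.Locus

/-! Essential surjectivity from neighbourhoods of a hypersurface. -/

set_option autoImplicit false
set_option linter.style.haveILetI false
set_option backward.isDefEq.respectTransparency false
set_option backward.isDefEq.respectTransparency.types false
set_option maxHeartbeats 1000000

universe u

open CategoryTheory CategoryTheory.Limits AlgebraicGeometry TopologicalSpace Opposite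

noncomputable section

namespace Groth.Agent.HyperAlg

variable {A : Type u} [CommRing A] [IsNoetherianRing A] {ι : Type u} [Finite ι] (g : ι → A) {f : A}
  {U : (Spec (CommRingCat.of A)).Opens} (hU : U = ⨆ j, PrimeSpectrum.basicOpen (g j)) (L : Levels f U)
  {B : Type u} [CommRing B] [Algebra A B] [Module.Finite A B] (π : B →ₐ[A] Gam (L.q 0))
  (hker : ∀ x, π x = 0 → ∃ y, f • y = x) (hsurj : ∀ j y, ∃ k x, π x = g j ^ k • y)

include hU hker hsurj in
/-- The limit algebra is étale over the hypersurface away from the closed set. -/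
theorem Levels.isEtaleAt (hreg : IsSMulRegular B f) [AlgebraicGeometry.FormallyUnramified (L.q 0)]
    (P : Ideal B) [P.IsPrime] (hfP : algebraMap A B f ∈ P) (j : ι) (hgP : algebraMap A B (g j) ∉ P) :
    Algebra.IsEtaleAt A P := by
  let a := algebraMap A B (g j)
  let W := Gam ((piece (L.q 0) (g j)).ι ≫ L.q 0)
  let θ₀ : B →ₐ[A] W := (resP (L.q 0) (g j)).comp π
  have hθ₀ : IsUnit (θ₀ a) := by rw [θ₀.commutes]; exact isUnit_piece _ _
  let θ : Localization.Away a →ₐ[A] W :=
    { toRingHom := IsLocalization.Away.lift a (g := θ₀.toRingHom) hθ₀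
      commutes' := fun r => by
        show IsLocalization.Away.lift a (g := θ₀.toRingHom) hθ₀ (algebraMap A (Localization.Away a) r) = _
        rw [IsScalarTower.algebraMap_apply A B (Localization.Away a), IsLocalization.Away.lift_eq]
        exact θ₀.commutes r }
  have hθ : ∀ b, θ (algebraMap B _ b) = θ₀ b := fun b => IsLocalization.Away.lift_eq a hθ₀ b
  have hua : ∀ k : ℕ, IsUnit (algebraMap A (Localization.Away a) (g j) ^ k) := fun k => by
    rw [IsScalarTower.algebraMap_apply A B (Localization.Away a)]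
    exact (IsLocalization.Away.algebraMap_isUnit a).pow k
  have hs : Function.Surjective θ := fun y => by
    obtain ⟨k, b, hb⟩ := (L.piece_quot g hU π hker hsurj j).1 y
    refine ⟨(↑(hua k).unit⁻¹ : Localization.Away a) * algebraMap B _ b, ?_⟩
    refine ((isUnit_piece (L.q 0) (g j)).pow k).mul_left_cancel ?_
    rw [← θ.commutes, ← map_pow θ, ← map_mul, ← mul_assoc, IsUnit.mul_val_inv, one_mul, hθ, map_pow θ, θ.commutes,
      ← map_pow, ← Algebra.smul_def]
    exact hb
  have hk : (Ideal.span {f ^ (0 + 1)}).map (algebraMap A (Localization.Away a)) = RingHom.ker θ := by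
    refine le_antisymm (Ideal.map_le_iff_le_comap.2 fun r hr => ?_) fun z hz => ?_
    · obtain ⟨c, rfl⟩ := Ideal.mem_span_singleton'.1 hr
      show θ (algebraMap A (Localization.Away a) (c * f ^ (0 + 1))) = 0
      rw [IsScalarTower.algebraMap_apply A B (Localization.Away a), hθ]
      show resP (L.q 0) (g j) (π _) = 0
      rw [L.map_Jf π (Ideal.mem_map_of_mem _ hr), map_zero]
    · obtain ⟨k, b, hb⟩ := IsLocalization.Away.surj a z
      have h0 : θ₀ b = 0 := by rw [← hθ, ← hb, map_mul, show θ z = 0 from hz, zero_mul]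
      obtain ⟨l, hl⟩ := (L.piece_quot g hU π hker hsurj j).2 b h0
      have h1 := Ideal.mem_map_of_mem (algebraMap B (Localization.Away a)) hl
      rw [Jf, Ideal.map_map, ← IsScalarTower.algebraMap_eq, Algebra.smul_def, map_mul, map_pow, map_pow,
        Ideal.unit_mul_mem_iff_mem _ ((IsLocalization.Away.algebraMap_isUnit a).pow l), ← hb,
        Ideal.mul_unit_mem_iff_mem _ ((IsLocalization.Away.algebraMap_isUnit a).pow k)] at h1
      exact h1
  let e : (Localization.Away a ⧸ (Ideal.span {f ^ (0 + 1)}).map (algebraMap A (Localization.Away a))) ≃ₐ[A] W :=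
    (Ideal.quotientEquivAlgOfEq A hk).trans (Ideal.quotientKerAlgEquivOfSurjective hs)
  letI : Algebra (A ⧸ Ideal.span {f ^ (0 + 1)}) W := L.algQuot 0 (g j)
  haveI : IsScalarTower A (A ⧸ Ideal.span {f ^ (0 + 1)}) W := L.algQuot_tower 0 (g j)
  haveI : Module.Flat (A ⧸ Ideal.span {f ^ (0 + 1)}) W := L.flat_piece g hU 0 j
  haveI : Module.Flat (A ⧸ Ideal.span {f ^ (0 + 1)})
      (Localization.Away a ⧸ (Ideal.span {f ^ (0 + 1)}).map (algebraMap A (Localization.Away a))) :=
    Module.Flat.of_linearEquiv (e.toLinearEquiv.extendScalarsOfSurjective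
      (S := A ⧸ Ideal.span {f ^ (0 + 1)}) Ideal.Quotient.mk_surjective)
  haveI : Algebra.FormallyUnramified A W := by
    haveI : IsAffine (piece (L.q 0) (g j)).toScheme := L.isAffineOpen_piece g hU 0 j
    have h := HasRingHomProperty.appTop (P := @AlgebraicGeometry.FormallyUnramified)
      ((piece (L.q 0) (g j)).ι ≫ L.q 0)
      (MorphismProperty.comp_mem @AlgebraicGeometry.FormallyUnramified _ _ inferInstance inferInstance)
    exact RingHom.formallyUnramified_algebraMap.1 (RingHom.FormallyUnramified.respectsIso.2 _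
      (Scheme.ΓSpecIso (CommRingCat.of A)).symm.commRingCatIsoToRingEquiv h)
  haveI : Algebra.FormallyUnramified A
      (Localization.Away a ⧸ (Ideal.span {f ^ (0 + 1)}).map (algebraMap A (Localization.Away a))) :=
    Algebra.FormallyUnramified.of_equiv e.symm
  haveI : Algebra.FinitePresentation A B := Algebra.FinitePresentation.of_finiteType.1 inferInstance
  refine isEtaleAt_of_reduction (f ^ (0 + 1)) (hreg.pow _) a P ?_ hgP
  rw [map_pow]
  exact Ideal.pow_mem_of_mem _ hfP _ (Nat.succ_pos 0)

omit [Finite ι] in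
/-- A finite algebra is étale over the complement of the image of its ramified primes. -/
theorem etale_restrict (U' : (Spec (CommRingCat.of A)).Opens)
    (h : ∀ P : PrimeSpectrum B, (Spec.map (CommRingCat.ofHom (algebraMap A B))) P ∈ U' →
      Algebra.IsEtaleAt A P.asIdeal) :
    Etale (Spec.map (CommRingCat.ofHom (algebraMap A B)) ∣_ U') := by
  classical
  haveI : Algebra.FinitePresentation A B := Algebra.FinitePresentation.of_finiteType.1 inferInstance
  let p := Spec.map (CommRingCat.ofHom (algebraMap A B))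
  haveI : Etale ((p ⁻¹ᵁ U').ι ≫ p) := by
    choose b hb1 hb2 using fun y : (p ⁻¹ᵁ U').toScheme =>
      PrimeSpectrum.isTopologicalBasis_basic_opens.exists_subset_of_mem_open
        (show (show PrimeSpectrum B from y.1) ∈ (SetLike.coe (p ⁻¹ᵁ U') : Set (PrimeSpectrum B)) ∩ Algebra.etaleLocus A B
          from ⟨y.2, h y.1 y.2⟩) ((p ⁻¹ᵁ U').isOpen.inter Algebra.isOpen_etaleLocus)
    choose r hr using hb1
    refine (IsZariskiLocalAtSource.iff_of_openCover
      ((p ⁻¹ᵁ U').toScheme.openCoverOfIsOpenCover (fun y => (p ⁻¹ᵁ U').ι ⁻¹ᵁ PrimeSpectrum.basicOpen (r y)) ?_)).2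
      fun y => ?_
    · refine TopologicalSpace.Opens.ext (Set.eq_univ_of_forall fun y => ?_)
      exact TopologicalSpace.Opens.mem_iSup.2 ⟨y, by
        have := (hb2 y).1
        rw [← hr y] at this
        exact this⟩
    · have hsub : (PrimeSpectrum.basicOpen (r y) : Set (PrimeSpectrum B)) ⊆
          (SetLike.coe (p ⁻¹ᵁ U') : Set (PrimeSpectrum B)) ∩ Algebra.etaleLocus A B := by
        have := (hb2 y).2
        rwa [← hr y] at this
      haveI : Algebra.Etale A (Localization.Away (r y)) :=
        Algebra.basicOpen_subset_etaleLocus_iff_etale.1 (hsub.trans Set.inter_subset_right)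
      have het : Etale (Spec.map (CommRingCat.ofHom (algebraMap B (Localization.Away (r y)))) ≫ p) := by
        rw [← Spec.map_comp, HasRingHomProperty.Spec_iff (P := @Etale)]
        show RingHom.Etale ((algebraMap B (Localization.Away (r y))).comp (algebraMap A B))
        rw [← IsScalarTower.algebraMap_eq]
        exact RingHom.etale_algebraMap.2 inferInstance
      let W := (p ⁻¹ᵁ U').ι ⁻¹ᵁ (PrimeSpectrum.basicOpen (r y) : (Spec (CommRingCat.of B)).Opens)
      let i := Spec.map (CommRingCat.ofHom (algebraMap B (Localization.Away (r y))))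
      haveI : IsOpenImmersion i := IsOpenImmersion.of_isLocalization (r y)
      have hrg : Set.range (W.ι ≫ (p ⁻¹ᵁ U').ι) ⊆ Set.range i := by
        rintro _ ⟨z, rfl⟩
        rw [show Set.range i = (PrimeSpectrum.basicOpen (r y) : Set (PrimeSpectrum B)) from
          PrimeSpectrum.localization_away_comap_range _ (r y)]
        exact z.2
      show Etale (W.ι ≫ (p ⁻¹ᵁ U').ι ≫ p)
      rw [← Category.assoc, ← IsOpenImmersion.lift_fac i _ hrg, Category.assoc]
      haveI : IsOpenImmersion (IsOpenImmersion.lift i _ hrg) := by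
        haveI : IsOpenImmersion (IsOpenImmersion.lift i _ hrg ≫ i) := by
          rw [IsOpenImmersion.lift_fac]; infer_instance
        exact IsOpenImmersion.of_comp _ i
      infer_instance
  haveI : Etale ((p ∣_ U') ≫ U'.ι) := by rw [morphismRestrict_ι]; infer_instance
  exact Etale.of_comp _ U'.ι

end Groth.Agent.HyperAlg

namespace Groth.Agent.HyperAlg

variable {A : Type u} [CommRing A]

/-- The thickening of the open. -/
abbrev Un (f : A) (U : (Spec (CommRingCat.of A)).Opens) (n : ℕ) : Scheme.{u} := pullback U.ι (qn f n)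

theorem span_pow_le (f : A) (n : ℕ) : Ideal.span {f ^ (n + 1 + 1)} ≤ Ideal.span {f ^ (n + 1)} :=
  Ideal.span_singleton_le_span_singleton.2 (pow_dvd_pow f (Nat.le_succ _))

/-- The map of thickenings. -/
abbrev sn (f : A) (n : ℕ) :
    Spec (CommRingCat.of (A ⧸ Ideal.span {f ^ (n + 1)})) ⟶ Spec (CommRingCat.of (A ⧸ Ideal.span {f ^ (n + 1 + 1)})) :=
  Spec.map (CommRingCat.ofHom (Ideal.Quotient.factor (span_pow_le f n)))

theorem sn_qn (f : A) (n : ℕ) : sn f n ≫ qn f (n + 1) = qn f n := by
  rw [← Spec.map_comp]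
  rfl

theorem surjective_sn (f : A) (n : ℕ) : Surjective (sn f n) := by
  refine ⟨fun P => ?_⟩
  have hrange := range_comap_of_surjective _ (Ideal.Quotient.factor (span_pow_le f n))
    (Ideal.Quotient.factor_surjective (span_pow_le f n))
  show P ∈ Set.range (PrimeSpectrum.comap (Ideal.Quotient.factor (span_pow_le f n)))
  rw [hrange, PrimeSpectrum.mem_zeroLocus]
  intro x hx
  obtain ⟨x, rfl⟩ := Ideal.Quotient.mk_surjective x
  have hx' : x ∈ Ideal.span {f ^ (n + 1)} := Ideal.Quotient.eq_zero_iff_mem.1 hx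
  obtain ⟨c, rfl⟩ := Ideal.mem_span_singleton'.1 hx'
  have h0 : Ideal.Quotient.mk (Ideal.span {f ^ (n + 1 + 1)}) f ^ (n + 1 + 1) ∈ P.asIdeal := by
    rw [← map_pow, Ideal.Quotient.eq_zero_iff_mem.2 (Ideal.mem_span_singleton_self _)]
    exact P.asIdeal.zero_mem
  rw [SetLike.mem_coe, map_mul, map_pow]
  exact Ideal.mul_mem_left _ _ (Ideal.pow_mem_of_mem _ (P.isPrime.mem_of_pow_mem _ h0) _ (Nat.succ_pos n))

/-- The closed immersion of thickenings of the open. -/
def cn (f : A) (U : (Spec (CommRingCat.of A)).Opens) (n : ℕ) : Un f U n ⟶ Un f U (n + 1) :=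
  pullback.lift (pullback.fst _ _) (pullback.snd _ _ ≫ sn f n) (by rw [Category.assoc, sn_qn, pullback.condition])

theorem cn_fst (f : A) (U : (Spec (CommRingCat.of A)).Opens) (n : ℕ) :
    cn f U n ≫ pullback.fst _ _ = pullback.fst _ _ := pullback.lift_fst _ _ _

theorem isPullback_cn (f : A) (U : (Spec (CommRingCat.of A)).Opens) (n : ℕ) :
    IsPullback (cn f U n) (pullback.snd _ _) (pullback.snd _ _) (sn f n) := by
  refine IsPullback.of_right (h₁₂ := pullback.fst _ _) (v₁₃ := U.ι) (h₂₂ := qn f (n + 1)) ?_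
    (pullback.lift_snd _ _ _) (IsPullback.of_hasPullback _ _)
  rw [cn_fst, sn_qn]
  exact IsPullback.of_hasPullback _ _

theorem equivalence_cn (f : A) (U : (Spec (CommRingCat.of A)).Opens) (n : ℕ) :
    (FEt.restrict (cn f U n)).IsEquivalence := by
  haveI : IsClosedImmersion (sn f n) :=
    IsClosedImmersion.spec_of_surjective _ (Ideal.Quotient.factor_surjective (span_pow_le f n))
  haveI := surjective_sn f n
  haveI : IsClosedImmersion (cn f U n) := MorphismProperty.of_isPullback (isPullback_cn f U n).flip inferInstance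
  haveI : Surjective (cn f U n) := MorphismProperty.of_isPullback (isPullback_cn f U n).flip inferInstance
  exact S0238.result _

/-- The tower of covers. -/
def coverTower (f : A) (U : (Spec (CommRingCat.of A)).Opens) (V₀ : FEt.Cat (Un f U 0)) : ∀ n, FEt.Cat (Un f U n)
  | 0 => V₀
  | n + 1 => haveI := (equivalence_cn f U n).essSurj; (FEt.restrict (cn f U n)).objPreimage (coverTower f U V₀ n)

/-- The comparison in the tower. -/
def coverTowerIso (f : A) (U : (Spec (CommRingCat.of A)).Opens) (V₀ : FEt.Cat (Un f U 0)) (n : ℕ) :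
    (FEt.restrict (cn f U n)).obj (coverTower f U V₀ (n + 1)) ≅ coverTower f U V₀ n :=
  haveI := (equivalence_cn f U n).essSurj
  (FEt.restrict (cn f U n)).objObjPreimageIso _

/-- The transition map. -/
def coverTowerMap (f : A) (U : (Spec (CommRingCat.of A)).Opens) (V₀ : FEt.Cat (Un f U 0)) (n : ℕ) :
    (coverTower f U V₀ n).left ⟶ (coverTower f U V₀ (n + 1)).left :=
  (coverTowerIso f U V₀ n).inv.left ≫ pullback.fst _ _

theorem isPullback_coverTowerMap (f : A) (U : (Spec (CommRingCat.of A)).Opens) (V₀ : FEt.Cat (Un f U 0)) (n : ℕ) :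
    IsPullback (coverTowerMap f U V₀ n) (coverTower f U V₀ n).hom (coverTower f U V₀ (n + 1)).hom (cn f U n) := by
  let e := (MorphismProperty.Over.forget _ ⊤ _ ⋙ CategoryTheory.Over.forget _).mapIso (coverTowerIso f U V₀ n)
  refine (IsPullback.of_hasPullback (coverTower f U V₀ (n + 1)).hom (cn f U n)).of_iso e (Iso.refl _) (Iso.refl _)
    (Iso.refl _) ?_ ?_ (by simp) (by simp)
  · simp only [Iso.refl_hom, Category.comp_id]
    show pullback.fst _ _ = (coverTowerIso f U V₀ n).hom.left ≫ (coverTowerIso f U V₀ n).inv.left ≫ pullback.fst _ _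
    rw [← Category.assoc]
    show pullback.fst _ _ = ((coverTowerIso f U V₀ n).hom ≫ (coverTowerIso f U V₀ n).inv).left ≫ pullback.fst _ _
    rw [Iso.hom_inv_id]
    exact (Category.id_comp _).symm
  · simp only [Iso.refl_hom, Category.comp_id]
    exact (CategoryTheory.Over.w (coverTowerIso f U V₀ n).hom.hom).symm

/-- The levels of a cover. -/
def coverLevels (f : A) (U : (Spec (CommRingCat.of A)).Opens) (V₀ : FEt.Cat (Un f U 0)) : Levels f U where
  X n := (coverTower f U V₀ n).left
  π n := (coverTower f U V₀ n).hom ≫ pullback.fst _ _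
  finite n := by
    haveI : IsFinite (coverTower f U V₀ n).hom := (coverTower f U V₀ n).prop.1
    haveI : IsClosedImmersion (qn f n) := IsClosedImmersion.spec_of_surjective _ Ideal.Quotient.mk_surjective
    infer_instance
  a n := (coverTower f U V₀ n).hom ≫ pullback.snd _ _
  w n := by rw [Category.assoc, Category.assoc, pullback.condition]
  flat n := by
    haveI : Etale (coverTower f U V₀ n).hom := (coverTower f U V₀ n).prop.2
    infer_instance
  i n := coverTowerMap f U V₀ n
  hi n := by rw [← Category.assoc, (isPullback_coverTowerMap f U V₀ n).w, Category.assoc, cn_fst]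
  cart n := by
    haveI : IsClosedImmersion (qn f (n + 1)) := IsClosedImmersion.spec_of_surjective _ Ideal.Quotient.mk_surjective
    have h1 : IsPullback (sn f n) (𝟙 _) (qn f (n + 1)) (qn f n) := by
      refine ⟨⟨by rw [Category.id_comp, sn_qn]⟩, ⟨PullbackCone.IsLimit.mk _ (fun s => s.snd) (fun s => ?_)
        (fun s => Category.comp_id _) fun s m _ h => (Category.comp_id m).symm.trans h⟩⟩
      exact (cancel_mono (qn f (n + 1))).1 (by rw [Category.assoc, sn_qn, s.condition])
    have h := (isPullback_coverTowerMap f U V₀ n).paste_vert ((isPullback_cn f U n).paste_vert h1)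
    rw [Category.comp_id] at h
    rw [Category.assoc, pullback.condition]
    exact h

variable [IsNoetherianRing A] {ι : Type u} [Finite ι] (g : ι → A) {f : A}
  {U : (Spec (CommRingCat.of A)).Opens} (hU : U = ⨆ j, PrimeSpectrum.basicOpen (g j))

include hU in
/-- A cover of the hypersurface extends to an open neighbourhood. -/
theorem exists_neighbourhood [IsAdicComplete (Ideal.span {f}) A] (hf : f ∈ nonZeroDivisors A)
    (h1 : Module.Finite A (LocCoh.H (Ideal.span (Set.range g)) 1 (A ⧸ Ideal.span {f})))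
    (h2 : Module.Finite A (LocCoh.H (Ideal.span (Set.range g)) 2 (A ⧸ Ideal.span {f})))
    (I : Ideal A) (hI : I = Ideal.span {f ^ (0 + 1)})
    (V₀ : FEt.Cat (pullback U.ι (Spec.map (CommRingCat.ofHom (Ideal.Quotient.mk I))))) :
    ∃ (U' : (Spec (CommRingCat.of A)).Opens) (_ : U' ≤ U)
      (u' : pullback U.ι (Spec.map (CommRingCat.ofHom (Ideal.Quotient.mk I))) ⟶ (U' : Scheme.{u}))
      (_ : u' ≫ U'.ι = pullback.fst U.ι (Spec.map (CommRingCat.ofHom (Ideal.Quotient.mk I))) ≫ U.ι)
      (V' : FEt.Cat (U' : Scheme.{u})), Nonempty ((FEt.restrict u').obj V' ≅ V₀) := by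
  subst hI
  let L := coverLevels f U V₀
  obtain ⟨S, e, hsp⟩ := L.exists_sys g hU hf
  obtain ⟨B, _, _, _, π₀, hreg, hk₀, hs₀⟩ := S.exists_algebra hsp h1 h2
  let π : B →ₐ[A] Gam (L.q 0) := (e : S.Γ 0 →ₐ[A] Gam (L.q 0)).comp π₀
  have hker : ∀ x, π x = 0 → ∃ y, f • y = x := fun x hx => hk₀ x (e.injective (by rw [map_zero]; exact hx))
  have hsurj : ∀ j y, ∃ k x, π x = g j ^ k • y := fun j y => by
    obtain ⟨k, x, hx⟩ := hs₀ j (e.symm y)
    exact ⟨k, x, (congrArg e hx).trans (by rw [map_smul, AlgEquiv.apply_symm_apply])⟩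
  haveI : AlgebraicGeometry.FormallyUnramified (L.q 0) := by
    haveI : Etale V₀.hom := V₀.prop.2
    haveI : IsClosedImmersion (qn f 0) := IsClosedImmersion.spec_of_surjective _ Ideal.Quotient.mk_surjective
    exact MorphismProperty.comp_mem @AlgebraicGeometry.FormallyUnramified (V₀.hom ≫ pullback.fst _ _) U.ι
      (MorphismProperty.comp_mem @AlgebraicGeometry.FormallyUnramified _ _ inferInstance inferInstance) inferInstance
  let p := Spec.map (CommRingCat.ofHom (algebraMap A B))
  haveI : IsFinite p := (IsFinite.SpecMap_iff _).2 (RingHom.finite_algebraMap.2 inferInstance)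
  let Z : Set (Spec (CommRingCat.of B)) := {P | ¬ Algebra.IsEtaleAt A P.asIdeal}
  haveI : Algebra.FinitePresentation A B := Algebra.FinitePresentation.of_finiteType.1 inferInstance
  have hZ : IsClosed Z := (Algebra.isOpen_etaleLocus (R := A) (A := B)).isClosed_compl
  let U' : (Spec (CommRingCat.of A)).Opens := U ⊓ ⟨(p '' Z)ᶜ, (p.isClosedMap _ hZ).isOpen_compl⟩
  have hr : Set.range (pullback.fst U.ι (qn f 0) ≫ U.ι) ⊆ Set.range U'.ι := by
    rintro _ ⟨x, rfl⟩
    rw [Scheme.Opens.range_ι]
    have hy : f ∈ ((pullback.fst U.ι (qn f 0) ≫ U.ι) x : PrimeSpectrum A).asIdeal := by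
      rw [pullback.condition]
      have := (pullback.snd U.ι (qn f 0) x : PrimeSpectrum (A ⧸ Ideal.span {f ^ (0 + 1)})).asIdeal.zero_mem
      rw [← Ideal.Quotient.eq_zero_iff_mem.2 (Ideal.mem_span_singleton_self (f ^ (0 + 1))), map_pow] at this
      exact Ideal.IsPrime.mem_of_pow_mem (PrimeSpectrum.isPrime _) _ this
    refine ⟨(pullback.fst U.ι (qn f 0) x).2, fun ⟨P, hP, hPy⟩ => hP ?_⟩
    obtain ⟨j, hj⟩ := TopologicalSpace.Opens.mem_iSup.1 (hU.le (pullback.fst U.ι (qn f 0) x).2)
    refine L.isEtaleAt g hU π hker hsurj hreg P.asIdeal ?_ j ?_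
    · rw [← hPy] at hy
      exact hy
    · intro hgP
      refine hj ?_
      show g j ∈ ((pullback.fst U.ι (qn f 0) ≫ U.ι) x : PrimeSpectrum A).asIdeal
      rw [← hPy]
      exact hgP
  let u' := IsOpenImmersion.lift U'.ι (pullback.fst U.ι (qn f 0) ≫ U.ι) hr
  have hu' : u' ≫ U'.ι = pullback.fst U.ι (qn f 0) ≫ U.ι := IsOpenImmersion.lift_fac _ _ _
  haveI : Etale (p ∣_ U') := etale_restrict U' fun P hP => by
    by_contra hne
    exact hP.2 ⟨P, hne, rfl⟩
  let V' : FEt.Cat (U' : Scheme.{u}) := MorphismProperty.Over.mk ⊤ (p ∣_ U') ⟨inferInstance, inferInstance⟩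
  refine ⟨U', inf_le_left, u', hu', V', ?_⟩
  have hh : pullback.lift (L.π 0) (L.a 0) (L.w 0).symm = V₀.hom := by
    ext1 <;> simp [L, coverLevels, coverTower]
  have hbig := L.isPullback_limit g hU π hker hsurj
  rw [hh, ← hu'] at hbig
  have hsmall := isPullback_morphismRestrict p U'
  let a := hsmall.lift (V₀.hom ≫ u') (L.psi π ≫ Spec.map (CommRingCat.ofHom (Ideal.Quotient.mk (Jf f B))))
    (by rw [Category.assoc]; exact hbig.w.symm)
  have hpb : IsPullback a V₀.hom (p ∣_ U') u' := by
    refine IsPullback.of_right (h₁₂ := (p ⁻¹ᵁ U').ι) (v₁₃ := p) (h₂₂ := U'.ι) ?_ (hsmall.lift_fst _ _ _) hsmall.flip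
    rwa [hsmall.lift_snd]
  exact ⟨MorphismProperty.Over.isoMk hpb.isoPullback.symm
    ((Iso.inv_comp_eq _).2 hpb.isoPullback_hom_snd.symm)⟩

end Groth.Agent.HyperAlg
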