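import Groth.Agent.HyperAlg.Levels
import Groth.Agent.HyperFEt.Idem

/-! The system of algebras of compatible covers of thickenings. -/

set_option autoImplicit false
set_option linter.style.haveILetI false
set_option backward.isDefEq.respectTransparency false
set_option backward.isDefEq.respectTransparency.types false
set_option maxHeartbeats 1000000

universe u

open CategoryTheory CategoryTheory.Limits AlgebraicGeometry TopologicalSpace Opposite

noncomputable section

namespace Groth.Agent.HyperAlg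

variable {A : Type u} [CommRing A] {ι : Type u} (g : ι → A) {f : A} {U : (Spec (CommRingCat.of A)).Opens}
  (hU : U = ⨆ j, PrimeSpectrum.basicOpen (g j)) (L : Levels f U)

/-- The transition map on global functions. -/
def Levels.tr (n : ℕ) : Gam (L.q (n + 1)) →ₐ[A] Gam (L.q n) :=
  gamMap (L.i n) (by rw [← Category.assoc, L.hi])

/-- The thickening as a piece over a basic open. -/
abbrev Levels.ap (n : ℕ) (a : A) : (piece (L.q n) a).toScheme ⟶ Spec (CommRingCat.of (A ⧸ Ideal.span {f ^ (n + 1)})) :=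
  (piece (L.q n) a).ι ≫ L.a n

theorem Levels.killed (n : ℕ) (z : Gam (L.q n)) : f ^ (n + 1) • z = 0 := by
  rw [Algebra.smul_def, algebraMap_gam]
  have h : (L.q n).appTop ((Scheme.ΓSpecIso (CommRingCat.of A)).inv (f ^ (n + 1))) = 0 := by
    rw [show L.q n = L.a n ≫ qn f n from (L.w n).symm, Scheme.Hom.comp_appTop, CategoryTheory.comp_apply,
      ← CategoryTheory.comp_apply _ (qn f n).appTop, ← Scheme.ΓSpecIso_inv_naturality, CategoryTheory.comp_apply]
    show (L.a n).appTop ((Scheme.ΓSpecIso _).inv (Ideal.Quotient.mk _ (f ^ (n + 1)))) = 0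
    rw [Ideal.Quotient.eq_zero_iff_mem.2 (Ideal.mem_span_singleton_self _), map_zero, map_zero]
  rw [h]
  exact zero_mul _

variable [IsNoetherianRing A] [Finite ι]

include hU in
/-- Surjectivity and kernel of the transition on pieces. -/
theorem Levels.piece_step (n : ℕ) (j : ι) :
    (∀ y : Gam ((piece (L.q n) (g j)).ι ≫ L.q n), ∃ k x, resP (L.q n) (g j) (L.tr n x) = g j ^ k • y) ∧
      ∀ x : Gam (L.q (n + 1)), resP (L.q n) (g j) (L.tr n x) = 0 ↔ ∃ k y, g j ^ k • x = f ^ (n + 1) • y := by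
  obtain ⟨_, _⟩ := L.compactSpace g hU (n + 1)
  let W := piece (L.q (n + 1)) (g j)
  haveI : IsAffine W.toScheme := L.isAffineOpen_piece g hU (n + 1) j
  have hW : L.i n ⁻¹ᵁ W = piece (L.q n) (g j) := by
    show L.i n ⁻¹ᵁ L.q (n + 1) ⁻¹ᵁ _ = L.q n ⁻¹ᵁ _
    rw [← Scheme.Hom.comp_preimage, ← Category.assoc, L.hi]
  let W' := piece (L.q n) (g j)
  let φ : W'.toScheme ⟶ W.toScheme := (L.X n).homOfLE hW.ge ≫ (L.i n ∣_ W)
  have hφ : φ ≫ W.ι = W'.ι ≫ L.i n := by
    rw [Category.assoc, morphismRestrict_ι, Scheme.homOfLE_ι_assoc]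
  haveI : IsIso ((L.X n).homOfLE hW.ge) := by
    rw [show (L.X n).homOfLE hW.ge = ((L.X n).isoOfEq hW.symm).hom from (Scheme.isoOfEq_hom _ _).symm]
    infer_instance
  have hsq : IsPullback φ W'.ι W.ι (L.i n) :=
    (isPullback_morphismRestrict (L.i n) W).of_iso (asIso ((L.X n).homOfLE hW.ge)).symm (Iso.refl _) (Iso.refl _)
      (Iso.refl _) (by simp [φ]) (by simp [W']) (by simp) (by simp)
  have hP := isPushout_appTop_of_isPullback (hsq.paste_vert (L.cart n))
  have hq : Function.Surjective (qn f n).appTop := fun x => by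
    obtain ⟨y, hy⟩ := (ConcreteCategory.bijective_of_isIso (Scheme.ΓSpecIso _).inv).surjective x
    obtain ⟨y, rfl⟩ := Ideal.Quotient.mk_surjective y
    refine ⟨(Scheme.ΓSpecIso (CommRingCat.of A)).inv y, ?_⟩
    rw [← CategoryTheory.comp_apply, ← Scheme.ΓSpecIso_inv_naturality]
    exact hy
  obtain ⟨hs, hk⟩ := ker_of_isPushout hP hq
  have hcomm : ∀ x : Gam (L.q (n + 1)), resP (L.q n) (g j) (L.tr n x) = φ.appTop (resP (L.q (n + 1)) (g j) x) := fun x => by
    show W'.ι.appTop ((L.i n).appTop x) = φ.appTop (W.ι.appTop x)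
    rw [← CategoryTheory.comp_apply, ← CategoryTheory.comp_apply, ← Scheme.Hom.comp_appTop, ← Scheme.Hom.comp_appTop, hφ]
  let Φ : Gam (W.ι ≫ L.q (n + 1)) →ₐ[A] Gam (W'.ι ≫ L.q n) :=
    gamMap φ (by rw [← Category.assoc, hφ, Category.assoc]; exact congrArg (W'.ι ≫ ·) (by rw [← Category.assoc, L.hi]))
  have hcomm' : ∀ x : Gam (L.q (n + 1)), resP (L.q n) (g j) (L.tr n x) = Φ (resP (L.q (n + 1)) (g j) x) := hcomm
  refine ⟨fun y => ?_, fun x => ⟨fun hx => ?_, fun ⟨k, y, hy⟩ => ?_⟩⟩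
  · obtain ⟨z, hz⟩ := hs y
    let z' : Gam (W.ι ≫ L.q (n + 1)) := z
    obtain ⟨k, x, hx⟩ := (res_piece_loc (L.q (n + 1)) (g j)).1 z'
    refine ⟨k, x, ?_⟩
    rw [hcomm', hx, map_smul]
    exact congrArg (g j ^ k • ·) hz
  · have hx' : resP (L.q (n + 1)) (g j) x ∈ RingHom.ker φ.appTop.hom := (hcomm x).symm.trans hx
    have hx2 : resP (L.q (n + 1)) (g j) x ∈ Ideal.span {algebraMap A (Gam (W.ι ≫ L.q (n + 1))) (f ^ (n + 1))} := by
      rw [hk] at hx'
      refine (Ideal.map_le_iff_le_comap.2 ?_ hx' : _)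
      intro a ha
      obtain ⟨b, rfl⟩ := (ConcreteCategory.bijective_of_isIso (Scheme.ΓSpecIso (CommRingCat.of A)).inv).surjective a
      have ha' : (Scheme.ΓSpecIso (CommRingCat.of (A ⧸ Ideal.span {f ^ (n + 1)}))).inv
          (Ideal.Quotient.mk (Ideal.span {f ^ (n + 1)}) b) = 0 := by
        refine Eq.trans ?_ (show (qn f n).appTop ((Scheme.ΓSpecIso (CommRingCat.of A)).inv b) = 0 from ha)
        rw [← CategoryTheory.comp_apply _ (qn f n).appTop, ← Scheme.ΓSpecIso_inv_naturality]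
        rfl
      obtain ⟨c, rfl⟩ := Ideal.mem_span_singleton'.1 (Ideal.Quotient.eq_zero_iff_mem.1
        ((ConcreteCategory.bijective_of_isIso (Scheme.ΓSpecIso _).inv).injective (ha'.trans (map_zero _).symm)))
      show algebraMap A (Gam (W.ι ≫ L.q (n + 1))) (c * f ^ (n + 1)) ∈
        Ideal.span {algebraMap A (Gam (W.ι ≫ L.q (n + 1))) (f ^ (n + 1))}
      rw [map_mul]
      exact Ideal.mul_mem_left _ _ (Ideal.mem_span_singleton_self _)
    obtain ⟨c, hc⟩ := Ideal.mem_span_singleton'.1 hx2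
    let c' : Gam (W.ι ≫ L.q (n + 1)) := c
    obtain ⟨k, y, hy⟩ := (res_piece_loc (L.q (n + 1)) (g j)).1 c'
    obtain ⟨l, hl⟩ := (res_piece_loc (L.q (n + 1)) (g j)).2 (g j ^ k • x - f ^ (n + 1) • y) (by
      rw [map_sub, map_smul, map_smul, hy, smul_comm, sub_eq_zero, ← hc]
      exact congrArg (g j ^ k • ·) ((mul_comm _ _).trans (Algebra.smul_def _ _).symm))
    exact ⟨l + k, g j ^ l • y, by rw [pow_add, mul_smul, smul_comm (f ^ (n + 1)), ← sub_eq_zero, ← smul_sub, hl]⟩
  · have := congrArg (fun z => resP (L.q n) (g j) (L.tr n z)) hy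
    simp only [map_smul] at this
    rw [← map_smul (resP (L.q n) (g j)) (f ^ (n + 1)), L.killed, map_zero, Algebra.smul_def, map_pow] at this
    exact ((isUnit_piece (L.q n) (g j)).pow k).mul_right_eq_zero.1 this

/-- The quotient algebra structure on functions. -/
@[reducible] def Levels.algQuot (n : ℕ) (a : A) : Algebra (A ⧸ Ideal.span {f ^ (n + 1)}) (Gam ((piece (L.q n) a).ι ≫ L.q n)) :=
  ((Scheme.ΓSpecIso _).inv ≫ (L.ap n a).appTop).hom.toAlgebra

omit [IsNoetherianRing A] [Finite ι] in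
theorem Levels.algQuot_tower (n : ℕ) (a : A) :
    letI := L.algQuot n a
    IsScalarTower A (A ⧸ Ideal.span {f ^ (n + 1)}) (Gam ((piece (L.q n) a).ι ≫ L.q n)) := by
  letI := L.algQuot n a
  refine IsScalarTower.of_algebraMap_eq fun r => ?_
  show ((piece (L.q n) a).ι ≫ L.q n).appTop ((Scheme.ΓSpecIso _).inv r) =
    (L.ap n a).appTop ((Scheme.ΓSpecIso _).inv (Ideal.Quotient.mk (Ideal.span {f ^ (n + 1)}) r))
  rw [show (piece (L.q n) a).ι ≫ L.q n = L.ap n a ≫ qn f n by rw [Category.assoc, L.w],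
    Scheme.Hom.comp_appTop, CategoryTheory.comp_apply, ← CategoryTheory.comp_apply _ (qn f n).appTop,
    ← Scheme.ΓSpecIso_inv_naturality]
  rfl

include hU in
omit [IsNoetherianRing A] [Finite ι] in
theorem Levels.flat_piece (n : ℕ) (j : ι) :
    letI := L.algQuot n (g j)
    Module.Flat (A ⧸ Ideal.span {f ^ (n + 1)}) (Gam ((piece (L.q n) (g j)).ι ≫ L.q n)) := by
  letI := L.algQuot n (g j)
  haveI : IsAffine (piece (L.q n) (g j)).toScheme := L.isAffineOpen_piece g hU n j
  haveI := L.flat n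
  exact RingHom.flat_algebraMap_iff.1 (RingHom.Flat.comp
    (RingHom.Flat.of_bijective (ConcreteCategory.bijective_of_isIso (Scheme.ΓSpecIso _).inv))
    (L.ap n (g j)).flat_appTop)

include hU in
theorem Levels.reg (hf : f ∈ nonZeroDivisors A) (n : ℕ) (x : Gam (L.q (n + 1))) (hx : f • x = 0) :
    L.tr n x = 0 := by
  obtain ⟨_, _⟩ := L.compactSpace g hU (n + 1)
  obtain ⟨_, _⟩ := L.compactSpace g hU n
  refine (L.isClosedMod g hU n).sep _ fun j => (res_piece_loc (L.q n) (g j)).2 _ ?_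
  letI := L.algQuot (n + 1) (g j)
  haveI := L.algQuot_tower (n + 1) (g j)
  haveI := L.flat_piece g hU (n + 1) j
  have h0 : Ideal.Quotient.mk (Ideal.span {f ^ (n + 2)}) f • resP (L.q (n + 1)) (g j) x = 0 := by
    rw [← Ideal.Quotient.algebraMap_eq, algebraMap_smul, ← map_smul, hx, map_zero]
  obtain ⟨y, hy⟩ := mem_fp_of_flat _ _ (dvd_of_mul_eq_zero hf n) h0
  rw [← Ideal.Quotient.algebraMap_eq, algebraMap_smul] at hy
  obtain ⟨k, z, hz⟩ := (res_piece_loc (L.q (n + 1)) (g j)).1 y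
  obtain ⟨l, hl⟩ := (res_piece_loc (L.q (n + 1)) (g j)).2 (g j ^ k • x - f ^ (n + 1) • z) (by
    rw [map_sub, map_smul, map_smul, hz, ← hy, smul_comm, sub_self])
  exact ((L.piece_step g hU n j).2 x).2
    ⟨l + k, g j ^ l • z, by rw [pow_add, mul_smul, smul_comm (f ^ (n + 1)), ← sub_eq_zero, ← smul_sub, hl]⟩

include hU in
theorem Levels.split (N : Submodule A (Gam (L.q 0))) [Module.Finite A N]
    (hN : ∀ j z, ∃ k, g j ^ k • z ∈ N) (j : ι) :
    ∃ (r k : ℕ) (α : N →ₗ[A] Fin r → A ⧸ Ideal.span {f}) (β : (Fin r → A ⧸ Ideal.span {f}) →ₗ[A] N),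
      ∀ m, β (α m) = g j ^ k • m := by
  obtain ⟨_, _⟩ := L.compactSpace g hU 0
  have hspan : Ideal.span {f} = Ideal.span {f ^ (0 + 1)} := by rw [zero_add, pow_one]
  rw [hspan]
  let Ā := A ⧸ Ideal.span {f ^ (0 + 1)}
  have htors : Module.IsTorsionBySet A N (Ideal.span {f ^ (0 + 1)} : Set A) := by
    rintro x ⟨a, ha⟩
    obtain ⟨c, rfl⟩ := Ideal.mem_span_singleton'.1 ha
    exact Subtype.ext (by show (c * f ^ (0 + 1)) • (x : Gam (L.q 0)) = 0; rw [mul_smul, L.killed, smul_zero])
  letI : Module Ā N := Module.IsTorsionBySet.module htors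
  haveI : IsScalarTower A Ā N := Module.IsTorsionBySet.isScalarTower htors
  haveI : Module.Finite Ā N := Module.Finite.of_restrictScalars_finite A Ā N
  haveI := Module.finitePresentation_of_finite Ā N
  let Wr := Gam ((piece (L.q 0) (g j)).ι ≫ L.q 0)
  letI : Algebra Ā Wr := L.algQuot 0 (g j)
  haveI : IsScalarTower A Ā Wr := L.algQuot_tower 0 (g j)
  haveI : Module.Flat Ā Wr := L.flat_piece g hU 0 j
  let a : Ā := algebraMap A Ā (g j)
  let incl : N →ₗ[Ā] Wr := LinearMap.extendScalarsOfSurjective (R := A) (S := Ā) Ideal.Quotient.mk_surjective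
    ((resP (L.q 0) (g j)).toLinearMap.comp N.subtype)
  have hincl : ∀ m : N, incl m = resP (L.q 0) (g j) (m : Gam (L.q 0)) := fun _ => rfl
  have hpow : ∀ (k : ℕ) (x : Wr), a ^ k • x = g j ^ k • x := fun k x => by rw [← map_pow, algebraMap_smul]
  have hpow' : ∀ (k : ℕ) (x : N), a ^ k • x = g j ^ k • x := fun k x => by rw [← map_pow, algebraMap_smul]
  haveI : IsLocalizedModule (Submonoid.powers a) incl := {
    map_units := by
      rintro ⟨_, k, rfl⟩
      rw [Module.End.isUnit_iff]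
      have hu := (isUnit_piece (L.q 0) (g j)).pow k
      have hact : ∀ x : Wr, algebraMap Ā (Module.End Ā Wr) (a ^ k) x =
          algebraMap A (Gam ((piece (L.q 0) (g j)).ι ≫ L.q 0)) (g j) ^ k * x := fun x => by
        rw [Module.algebraMap_end_apply, hpow, Algebra.smul_def, map_pow]
      refine ⟨fun x y hxy => ?_, fun y => ⟨(↑hu.unit⁻¹ : Wr) * y, ?_⟩⟩
      · exact hu.mul_left_cancel ((hact x).symm.trans (hxy.trans (hact y)))
      · refine (hact _).trans ?_
        rw [← mul_assoc, IsUnit.mul_val_inv, one_mul]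
    surj := fun y => by
      obtain ⟨k, z, hz⟩ := (res_piece_loc (L.q 0) (g j)).1 y
      obtain ⟨l, hl⟩ := hN j z
      refine ⟨(⟨_, hl⟩, ⟨a ^ (l + k), l + k, rfl⟩), ?_⟩
      rw [hincl, Submonoid.smul_def]
      show a ^ (l + k) • y = resP (L.q 0) (g j) (g j ^ l • z)
      rw [hpow, map_smul, hz, smul_smul, pow_add]
    exists_of_eq := fun {x y} hxy => by
      rw [hincl, hincl, ← sub_eq_zero, ← map_sub] at hxy
      obtain ⟨k, hk⟩ := (res_piece_loc (L.q 0) (g j)).2 _ hxy
      refine ⟨⟨a ^ k, k, rfl⟩, ?_⟩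
      rw [Submonoid.smul_def, Submonoid.smul_def]
      show a ^ k • x = a ^ k • y
      rw [hpow', hpow']
      refine Subtype.ext (sub_eq_zero.1 ?_)
      rw [Submodule.coe_smul, Submodule.coe_smul, ← smul_sub]
      exact hk }
  haveI : Module.Flat Ā (LocalizedModule (Submonoid.powers a) N) :=
    Module.Flat.of_linearEquiv (IsLocalizedModule.iso (Submonoid.powers a) incl)
  haveI : Module.Flat (Localization.Away a) (LocalizedModule (Submonoid.powers a) N) :=
    (Module.flat_iff_of_isLocalization (Localization.Away a) (Submonoid.powers a) _).2 inferInstance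
  haveI : Module.Finite (Localization.Away a) (LocalizedModule (Submonoid.powers a) N) :=
    Module.Finite.of_isLocalizedModule (Submonoid.powers a) (LocalizedModule.mkLinearMap _ _)
  haveI : IsNoetherianRing (Localization.Away a) :=
    IsLocalization.isNoetherianRing (Submonoid.powers a) _ inferInstance
  haveI := Module.finitePresentation_of_finite (Localization.Away a) (LocalizedModule (Submonoid.powers a) N)
  obtain ⟨r, k, α, β, h⟩ := HyperFEt.exists_retract (A := Ā) N a Module.Flat.projective_of_finitePresentation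
  refine ⟨r, k, LinearMap.pi fun c => (α c).restrictScalars A,
    ∑ c, ((β c).restrictScalars A).comp (LinearMap.proj c), fun m => ?_⟩
  rw [LinearMap.sum_apply]
  refine Eq.trans ?_ ((h m).trans (hpow' k m))
  exact Finset.sum_congr rfl fun c _ => rfl

include hU in
/-- The system of algebras. -/
theorem Levels.exists_sys (hf : f ∈ nonZeroDivisors A) :
    ∃ S : Sys f g, ∃ e : S.Γ 0 ≃ₐ[A] Gam (L.q 0), ∀ (N : Submodule A (S.Γ 0)) [Module.Finite A N],
      (∀ j (z : S.Γ 0), ∃ k : ℕ, g j ^ k • z ∈ N) → ∀ j, ∃ (r k : ℕ) (α : N →ₗ[A] Fin r → A ⧸ Ideal.span {f})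
        (β : (Fin r → A ⧸ Ideal.span {f}) →ₗ[A] N), ∀ m, β (α m) = g j ^ k • m := by
  haveI := L.finite 0
  haveI := fun n => (L.compactSpace g hU n).1
  haveI := fun n => (L.compactSpace g hU n).2
  refine ⟨{
    Γ := fun n => Gam (L.q n)
    t := L.tr
    killed := L.killed
    closed := L.isClosedMod g hU
    surj := fun n j y => ?_
    ker := fun n j y hy => ?_
    reg := L.reg g hU hf
    fin := ?_ }, AlgEquiv.refl, fun N _ h => L.split g hU N h⟩
  · obtain ⟨k, x, hx⟩ := (L.piece_step g hU n j).1 (resP (L.q n) (g j) y)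
    obtain ⟨l, hl⟩ := (res_piece_loc (L.q n) (g j)).2 (L.tr n x - g j ^ k • y) (by rw [map_sub, hx, map_smul, sub_self])
    refine ⟨l + k, g j ^ l • x, ?_⟩
    rw [map_smul, pow_add, mul_smul, ← sub_eq_zero, ← smul_sub, hl]
  · exact ((L.piece_step g hU n j).2 y).1 (by rw [hy, map_zero])
  · classical
    haveI := Fintype.ofFinite ι
    choose S hS using HyperFEt.exists_loc_gens A g U hU (L.π 0)
    let T : Finset (Gam (L.q 0)) := Finset.univ.biUnion fun i => S i
    exact ⟨Submodule.span A (T : Set (Gam (L.q 0))), Module.Finite.iff_fg.2 (Submodule.fg_span T.finite_toSet),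
      fun j z => (hS j z).imp fun n hn => Submodule.span_mono
        (fun x hx => Finset.mem_biUnion.2 ⟨j, Finset.mem_univ j, hx⟩) hn⟩

end Groth.Agent.HyperAlg
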